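import Mathlib
import Cfsg.Prelude.Def_GeometricClasses

/-! Four anticommuting involutions in dimension four and the elements normalising the group they span. -/

set_option autoImplicit false
set_option linter.unusedSimpArgs false
set_option linter.unusedSectionVars false
set_option linter.unusedVariables false
set_option linter.style.haveILetI false
set_option linter.flexible false

namespace Cfsg.Lib.Classical.TwoSix

open Matrix
open scoped MatrixGroups

universe u

variable {F : Type u} [Field F] {ι : Type} [Fintype ι] [DecidableEq ι]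

local notation "GG" => GL ι F
local notation "MM" => Matrix ι ι F

/-- Exponent vectors of words. -/
abbrev Idx := Fin 4 → ZMod 2

/-- The commutation pairing of words. -/
def bil (e f : Idx) : ZMod 2 := ∑ j, ∑ k, if j = k then 0 else e j * f k

/-- The unit vectors. -/
def unitVec (k : Fin 4) : Idx := Pi.single k 1

theorem bil_add_right (e f g : Idx) : bil e (f + g) = bil e f + bil e g := by
  simp only [bil, Pi.add_apply, mul_add, ← Finset.sum_add_distrib]
  refine Finset.sum_congr rfl fun j _ => Finset.sum_congr rfl fun k _ => ?_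
  split_ifs <;> simp

theorem bil_add_left (e f g : Idx) : bil (e + f) g = bil e g + bil f g := by
  simp only [bil, Pi.add_apply, add_mul, ← Finset.sum_add_distrib]
  refine Finset.sum_congr rfl fun j _ => Finset.sum_congr rfl fun k _ => ?_
  split_ifs <;> simp

theorem bil_ne : ∀ e : Idx, e ≠ 0 → ∃ k, bil e (unitVec k) ≠ 0 := by decide +kernel

theorem bil_card : ∀ a : Idx, a ≠ 0 → (Finset.univ.filter fun f : Idx => bil a f = 0).card = 8 := by decide +kernel

theorem bil_surj : ∀ t : Idx, ∃ e : Idx, ∀ k, bil e (unitVec k) = t k := by decide +kernel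

theorem bil_inj {e f : Idx} (h : ∀ k, bil e (unitVec k) = bil f (unitVec k)) : e = f := by
  by_contra hne
  obtain ⟨k, hk⟩ := bil_ne (e + f) fun h0 => hne (funext fun j => by
    have := congrFun h0 j
    exact CharTwo.add_eq_zero.mp this)
  exact hk (by rw [bil_add_left, h k, CharTwo.add_self_eq_zero])

/-- The sign attached to an element of `ZMod 2`. -/
def eps (t : ZMod 2) : F := if t = 0 then 1 else -1

theorem eps_zero : eps (F := F) 0 = 1 := if_pos rfl

theorem eps_one : eps (F := F) 1 = -1 := if_neg one_ne_zero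

theorem zmod2_cases : ∀ t : ZMod 2, t = 0 ∨ t = 1 := by decide

theorem eps_add (s t : ZMod 2) : eps (F := F) (s + t) = eps s * eps t := by
  rcases zmod2_cases s with rfl | rfl <;> rcases zmod2_cases t with rfl | rfl <;>
    simp [eps_zero, eps_one, show (1 : ZMod 2) + 1 = 0 from rfl]

theorem eps_sq (s : ZMod 2) : eps (F := F) s * eps s = 1 := by
  rcases zmod2_cases s with rfl | rfl <;> simp [eps_zero, eps_one]

theorem eps_inj (h2 : (2 : F) ≠ 0) {s t : ZMod 2} (h : eps (F := F) s = eps t) : s = t := by
  rcases zmod2_cases s with rfl | rfl <;> rcases zmod2_cases t with rfl | rfl <;> simp [eps_zero, eps_one] at h ⊢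
  · exact h2 (by linear_combination h)
  · exact h2 (by linear_combination -h)

/-- Commutation up to a sign. -/
def Sg (t : ZMod 2) (A B : MM) : Prop := A * B = eps (F := F) t • (B * A)

theorem Sg.comm {A B : MM} : Sg 0 A B ↔ A * B = B * A := by rw [Sg, eps_zero, one_smul]

theorem Sg.anti {A B : MM} : Sg 1 A B ↔ A * B = -(B * A) := by rw [Sg, eps_one, neg_one_smul]

theorem Sg.refl (A : MM) : Sg 0 A A := Sg.comm.mpr rfl

theorem Sg.one_left (B : MM) : Sg 0 1 B := Sg.comm.mpr (by simp)

theorem Sg.one_right (A : MM) : Sg 0 A 1 := Sg.comm.mpr (by simp)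

theorem Sg.symm {t : ZMod 2} {A B : MM} (h : Sg t A B) : Sg t B A := by
  rw [Sg] at h ⊢
  rw [h, smul_smul, eps_sq, one_smul]

theorem Sg.mul_right {s t : ZMod 2} {A B C : MM} (h : Sg s A B) (h' : Sg t A C) : Sg (s + t) A (B * C) := by
  rw [Sg] at h h' ⊢
  rw [← mul_assoc, h, smul_mul_assoc, mul_assoc, h', mul_smul_comm, smul_smul, eps_add, mul_assoc]

theorem Sg.mul_left {s t : ZMod 2} {A B C : MM} (h : Sg s A C) (h' : Sg t B C) : Sg (s + t) (A * B) C :=
  (h.symm.mul_right h'.symm).symm

theorem Sg.smul_left {t : ZMod 2} {A B : MM} (h : Sg t A B) (c : F) : Sg t (c • A) B := by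
  rw [Sg] at h ⊢
  rw [smul_mul_assoc, h, mul_smul_comm, smul_comm]

theorem Sg.inv_left {t : ZMod 2} {g : GG} {B : MM} (h : Sg t (g : MM) B) : Sg t ((g⁻¹ : GG) : MM) B := by
  have h' := h.symm
  rw [Sg] at h' ⊢
  have e := congrArg (fun X => ((g⁻¹ : GG) : MM) * X * ((g⁻¹ : GG) : MM)) h'
  simp only [mul_smul_comm, smul_mul_assoc] at e
  rw [← mul_assoc _ B, mul_assoc _ (g : MM), ← Units.val_mul, mul_inv_cancel, Units.val_one, mul_one,
    ← mul_assoc _ (g : MM), ← Units.val_mul, inv_mul_cancel, Units.val_one, one_mul] at e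
  exact e

theorem Sg.unique [Nonempty ι] (h2 : (2 : F) ≠ 0) {s t : ZMod 2} {a b : GG} (h : Sg s (a : MM) (b : MM))
    (h' : Sg t (a : MM) (b : MM)) : s = t := by
  refine eps_inj h2 (smul_left_injective F (M := MM) (m := ((b * a : GG) : MM)) (Units.ne_zero _) ?_)
  show eps (F := F) s • ((b * a : GG) : MM) = eps (F := F) t • ((b * a : GG) : MM)
  rw [Units.val_mul]
  exact Eq.trans (Eq.symm h) h'

theorem trace_zero (h2 : (2 : F) ≠ 0) {g : GG} {A : MM} (h : Sg 1 (g : MM) A) : A.trace = 0 := by
  rw [Sg.anti] at h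
  have e : ((g⁻¹ : GG) : MM) * ((g : MM) * A) = A := by
    rw [← mul_assoc, ← Units.val_mul, inv_mul_cancel, Units.val_one, one_mul]
  have h' : A.trace = -A.trace := by
    conv_lhs => rw [← e, h, mul_neg, Matrix.trace_neg, Matrix.trace_mul_comm, mul_assoc, ← Units.val_mul,
      mul_inv_cancel, Units.val_one, mul_one]
  exact (mul_eq_zero.mp (show (2 : F) * A.trace = 0 by linear_combination h')).resolve_left h2

theorem val_ne (h4 : Fintype.card ι = 4) (g : GG) : (g : MM) ≠ 0 := by
  haveI : Nonempty ι := Fintype.card_pos_iff.mp (by omega)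
  exact g.ne_zero

/-- Elements commuting up to sign. -/
def Signed (R : Subgroup GG) : Prop := ∀ x ∈ R, ∀ y ∈ R, ∃ t, Sg t (x : MM) (y : MM)

/-- Four pairwise anticommuting involutions. -/
structure Frame (R : Subgroup GG) (g : Fin 4 → GG) : Prop where
  card_eq : Fintype.card ι = 4
  two : (2 : F) ≠ 0
  signed : Signed R
  mem : ∀ k, g k ∈ R
  sq : ∀ k, g k * g k = 1
  anti : ∀ j k, j ≠ k → Sg 1 (g j : MM) (g k : MM)

variable {R : Subgroup (GL ι F)} {g : Fin 4 → GL ι F}

/-- One letter of a word. -/
def letter (g : Fin 4 → GG) (e : Idx) (k : Fin 4) : GG := if e k = 0 then 1 else g k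

/-- Words. -/
def word (g : Fin 4 → GG) (e : Idx) : GG := letter g e 0 * letter g e 1 * letter g e 2 * letter g e 3

/-- The class of a matrix. -/
def IsCls (g : Fin 4 → GG) (A : MM) (e : Idx) : Prop := ∃ s : F, A = s • (word g e : MM)

namespace Frame

theorem nonempty (S : Frame R g) : Nonempty ι := Fintype.card_pos_iff.mp (by have := S.card_eq; omega)

theorem four (S : Frame R g) : (4 : F) ≠ 0 := by
  rw [show (4 : F) = 2 * 2 by norm_num]; exact mul_ne_zero S.two S.two

theorem word_mem (S : Frame R g) (e : Idx) : word g e ∈ R := by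
  have h : ∀ k, letter g e k ∈ R := fun k => by
    rw [letter]; split_ifs
    exacts [one_mem R, S.mem k]
  exact mul_mem (mul_mem (mul_mem (h 0) (h 1)) (h 2)) (h 3)

theorem sg_letter (S : Frame R g) (e f : Idx) (j k : Fin 4) :
    Sg (if j = k then 0 else e j * f k) (letter g e j : MM) (letter g f k : MM) := by
  rcases zmod2_cases (e j) with he | he
  · simp only [letter, he, if_pos rfl, zero_mul, ite_self, Units.val_one]
    exact Sg.one_left _
  rcases zmod2_cases (f k) with hf | hf
  · simp only [letter, hf, if_pos rfl, mul_zero, ite_self, Units.val_one]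
    exact Sg.one_right _
  simp only [letter, he, hf, mul_one, if_neg one_ne_zero]
  split_ifs with h
  · subst h; exact Sg.refl _
  · exact S.anti j k h

theorem sg_word (S : Frame R g) (e f : Idx) : Sg (bil e f) (word g e : MM) (word g f : MM) := by
  have h : ∀ j, Sg (∑ k, if j = k then 0 else e j * f k) (letter g e j : MM) (word g f : MM) := fun j => by
    rw [Fin.sum_univ_four, word, Units.val_mul, Units.val_mul, Units.val_mul]
    exact (((S.sg_letter e f j 0).mul_right (S.sg_letter e f j 1)).mul_right (S.sg_letter e f j 2)).mul_right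
      (S.sg_letter e f j 3)
  rw [bil, Fin.sum_univ_four, show (word g e : MM) = (letter g e 0 : MM) * (letter g e 1 : MM) * (letter g e 2 : MM) *
    (letter g e 3 : MM) by rw [word, Units.val_mul, Units.val_mul, Units.val_mul]]
  exact (((h 0).mul_left (h 1)).mul_left (h 2)).mul_left (h 3)

theorem word_unit (g : Fin 4 → GG) (k : Fin 4) : word g (unitVec k) = g k := by
  fin_cases k <;> simp [word, letter, unitVec]

theorem word_zero (g : Fin 4 → GG) : word g 0 = 1 := by simp [word, letter]

theorem sg_gen (S : Frame R g) (e : Idx) (k : Fin 4) : Sg (bil e (unitVec k)) (word g e : MM) (g k : MM) := by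
  have h := S.sg_word e (unitVec k)
  rwa [word_unit] at h

/-- Signs with the generators determine the class. -/
theorem class_unique (S : Frame R g) {e f : Idx} {x : GG} (he : IsCls g (x : MM) e) (hf : IsCls g (x : MM) f) :
    e = f := by
  haveI := S.nonempty
  obtain ⟨s, hs⟩ := he
  obtain ⟨t, ht⟩ := hf
  refine bil_inj fun k => ?_
  refine Sg.unique S.two (a := x) (b := g k) ?_ ?_
  · rw [hs]; exact (S.sg_gen e k).smul_left s
  · rw [ht]; exact (S.sg_gen f k).smul_left t

theorem trace_word (S : Frame R g) {e : Idx} (he : e ≠ 0) : (word g e : MM).trace = 0 := by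
  obtain ⟨k, hk⟩ := bil_ne e he
  refine trace_zero S.two (g := g k) ?_
  have h := (S.sg_gen e k).symm
  rwa [(zmod2_cases _).resolve_left hk] at h

theorem trace_inv_word (S : Frame R g) {e f : Idx} (hef : e ≠ f) :
    (((word g e)⁻¹ : GG) * (word g f : GG) : MM).trace = 0 := by
  obtain ⟨k, hk⟩ := bil_ne (e + f) fun h0 => hef (funext fun j => CharTwo.add_eq_zero.mp (congrFun h0 j))
  refine trace_zero S.two (g := g k) ?_
  rw [bil_add_left] at hk
  have h := ((S.sg_gen e k).inv_left.mul_left (S.sg_gen f k)).symm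
  rwa [(zmod2_cases _).resolve_left hk] at h

theorem trace_one' (S : Frame R g) : (1 : MM).trace = 4 := by
  rw [Matrix.trace_one, S.card_eq]; norm_num

theorem independent (S : Frame R g) : LinearIndependent F fun e => (word g e : MM) := by
  rw [Fintype.linearIndependent_iff]
  intro c hc e
  have h := congrArg (fun A => ((((word g e)⁻¹ : GG) : MM) * A).trace) hc
  simp only [Matrix.mul_sum, Matrix.trace_sum, mul_smul_comm, Matrix.trace_smul, mul_zero, Matrix.trace_zero] at h
  rw [Finset.sum_eq_single e (fun f _ hf => by rw [S.trace_inv_word (Ne.symm hf), smul_zero])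
    (fun h => absurd (Finset.mem_univ e) h), ← Units.val_mul, inv_mul_cancel, Units.val_one, S.trace_one', smul_eq_mul] at h
  exact (mul_eq_zero.mp h).resolve_right S.four

theorem span_top (S : Frame R g) : Submodule.span F (Set.range fun e => (word g e : MM)) = ⊤ := by
  refine S.independent.span_eq_top_of_card_eq_finrank' ?_
  rw [Module.finrank_matrix, S.card_eq, Module.finrank_self]
  rfl

/-- Only scalars commute with all four involutions. -/
theorem scalar_of_commute (S : Frame R g) {M : MM} (h : ∀ k, M * (g k : MM) = (g k : MM) * M) :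
    ∃ c : F, M = c • (1 : MM) := by
  refine ⟨M.trace / 4, ?_⟩
  set D : MM := M - (M.trace / 4) • 1 with hD
  suffices hz : D = 0 by exact sub_eq_zero.mp hz
  have hD0 : ∀ e, ((word g e : MM) * D).trace = 0 := fun e => by
    by_cases he : e = 0
    · rw [he, word_zero, Units.val_one, one_mul, hD, Matrix.trace_sub, Matrix.trace_smul, S.trace_one', smul_eq_mul,
        div_mul_cancel₀ _ S.four, sub_self]
    obtain ⟨k, hk⟩ := bil_ne e he
    refine trace_zero S.two (g := g k) ?_
    have hc : Sg 0 (g k : MM) D := Sg.comm.mpr (by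
      rw [hD, mul_sub, sub_mul, h k, mul_smul_comm, smul_mul_assoc, mul_one, one_mul])
    have h' := ((S.sg_gen e k).symm.mul_right hc)
    rwa [(zmod2_cases _).resolve_left hk, add_zero] at h'
  have hall : ∀ N : MM, (N * D).trace = 0 := fun N => by
    have hN : N ∈ Submodule.span F (Set.range fun e => (word g e : MM)) := S.span_top ▸ Submodule.mem_top
    induction hN using Submodule.span_induction with
    | mem x hx => obtain ⟨e, rfl⟩ := hx; exact hD0 e
    | zero => rw [zero_mul, Matrix.trace_zero]
    | add x y _ _ hx hy => rw [add_mul, Matrix.trace_add, hx, hy, add_zero]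
    | smul c x _ hx => rw [smul_mul_assoc, Matrix.trace_smul, hx, smul_zero]
  ext i j
  have := hall (Matrix.single j i 1)
  rwa [Matrix.trace_single_mul, one_smul] at this

/-- Every element of the group is a scalar times a word. -/
theorem describe (S : Frame R g) {x : GG} (hx : x ∈ R) : ∃ e, IsCls g (x : MM) e := by
  choose t ht using fun k => S.signed x hx (g k) (S.mem k)
  obtain ⟨e, he⟩ := bil_surj t
  obtain ⟨c, hc⟩ := S.scalar_of_commute (M := (x * (word g e)⁻¹ : GG)) fun k => by
    have h := (ht k).mul_left (S.sg_gen e k).inv_left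
    rw [he k, CharTwo.add_self_eq_zero, Sg.comm] at h
    exact h
  refine ⟨e, c, ?_⟩
  have e1 : (x : MM) = ((x * (word g e)⁻¹ : GG) : MM) * (word g e : MM) := by
    rw [← Units.val_mul, inv_mul_cancel_right]
  rw [e1, hc, smul_mul_assoc, one_mul]

theorem cls_mul (S : Frame R g) (e f : Idx) : IsCls g ((word g e : MM) * (word g f : MM)) (e + f) := by
  obtain ⟨h, c, hc⟩ := S.describe (mul_mem (S.word_mem e) (S.word_mem f))
  haveI := S.nonempty
  have : h = e + f := bil_inj fun k => Sg.unique S.two (a := word g e * word g f) (b := g k)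
    (by rw [hc]; exact (S.sg_gen h k).smul_left c)
    (by rw [Units.val_mul, bil_add_left]; exact (S.sg_gen e k).mul_left (S.sg_gen f k))
  exact ⟨c, by rw [← Units.val_mul, hc, this]⟩

theorem word_sq (S : Frame R g) (e : Idx) : ∃ s : ZMod 2, (word g e : MM) * (word g e : MM) = eps (F := F) s • 1 := by
  have hl : ∀ k, ∃ s : ZMod 2, (letter g e k : MM) * (letter g e k : MM) = eps (F := F) s • 1 := fun k => ⟨0, by
    rw [eps_zero, one_smul, ← Units.val_mul]
    rcases zmod2_cases (e k) with h | h <;> simp [letter, h, S.sq k]⟩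
  have key : ∀ (A B : MM), (∃ s : ZMod 2, A * A = eps (F := F) s • 1) → (∃ s : ZMod 2, B * B = eps (F := F) s • 1) →
      (∃ t, Sg t B A) → ∃ s : ZMod 2, (A * B) * (A * B) = eps (F := F) s • 1 := by
    rintro A B ⟨s, hs⟩ ⟨s', hs'⟩ ⟨t, ht⟩
    refine ⟨t + s + s', ?_⟩
    rw [Sg] at ht
    rw [mul_assoc, ← mul_assoc B A B, ht, smul_mul_assoc, mul_smul_comm, mul_assoc A B B, hs', mul_smul_comm,
      mul_smul_comm, mul_one, hs, smul_smul, smul_smul, ← eps_add, ← eps_add]
    congr 2
    abel
  rw [show (word g e : MM) = (letter g e 0 : MM) * (letter g e 1 : MM) * (letter g e 2 : MM) * (letter g e 3 : MM) by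
    rw [word, Units.val_mul, Units.val_mul, Units.val_mul]]
  refine key _ _ (key _ _ (key _ _ (hl 0) (hl 1) ⟨_, S.sg_letter e e 1 0⟩) (hl 2) ?_) (hl 3) ?_
  · exact ⟨_, (S.sg_letter e e 2 0).mul_right (S.sg_letter e e 2 1)⟩
  · exact ⟨_, ((S.sg_letter e e 3 0).mul_right (S.sg_letter e e 3 1)).mul_right (S.sg_letter e e 3 2)⟩

/-! ### The normaliser -/

/-- A normalising element permutes the classes. -/
theorem exists_perm (S : Frame R g) {h : GG} (hh : h ∈ Cfsg.Geo.subgroupNormalizer R) (e : Idx) :
    ∃ f, IsCls g ((h * word g e * h⁻¹ : GG) : MM) f :=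
  S.describe ((Subgroup.mem_normalizer_iff.mp hh _).mp (S.word_mem e))

theorem cls_comp (S : Frame R g) {h k : GG} {e f₁ f₂ : Idx} (h₁ : IsCls g ((k * word g e * k⁻¹ : GG) : MM) f₁)
    (h₂ : IsCls g ((h * word g f₁ * h⁻¹ : GG) : MM) f₂) : IsCls g ((h * k * word g e * (h * k)⁻¹ : GG) : MM) f₂ := by
  obtain ⟨s, hs⟩ := h₁
  obtain ⟨t, ht⟩ := h₂
  refine ⟨s * t, ?_⟩
  have e1 : ((h * k * word g e * (h * k)⁻¹ : GG) : MM) = (h : MM) * ((k * word g e * k⁻¹ : GG) : MM) * ((h⁻¹ : GG) : MM) := by
    rw [← Units.val_mul, ← Units.val_mul]; congr 1; group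
  rw [e1, hs, mul_smul_comm, smul_mul_assoc, ← Units.val_mul, ← Units.val_mul, ht, smul_smul]

/-- Fixed classes are fixed words. -/
theorem fixed_word (S : Frame R g) {h : GG} {r : ℕ} (hr : Odd r) (hpow : h ^ r = 1) {e : Idx}
    (he : IsCls g ((h * word g e * h⁻¹ : GG) : MM) e) : h * word g e * h⁻¹ = word g e := by
  haveI := S.nonempty
  obtain ⟨s, hs⟩ := he
  obtain ⟨c, hc⟩ := S.word_sq e
  have hs2 : s * s = 1 := by
    have h1 : ((h * word g e * h⁻¹ : GG) : MM) * ((h * word g e * h⁻¹ : GG) : MM) = eps (F := F) c • 1 := by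
      have e1 : h * word g e * h⁻¹ * (h * word g e * h⁻¹) = h * (word g e * word g e) * h⁻¹ := by group
      rw [← Units.val_mul, e1, Units.val_mul, Units.val_mul, Units.val_mul, hc, mul_smul_comm, mul_one, smul_mul_assoc,
        ← Units.val_mul, mul_inv_cancel, Units.val_one]
    rw [hs, smul_mul_smul_comm, hc, smul_smul] at h1
    have h2 := smul_left_injective F (M := MM) (m := (1 : MM)) one_ne_zero h1
    exact (mul_eq_right₀ (fun e0 => by have := eps_sq (F := F) c; rw [e0, mul_zero] at this; exact zero_ne_one this)).mp h2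
  have hk : ∀ k : ℕ, ((h ^ k * word g e * (h ^ k)⁻¹ : GG) : MM) = s ^ k • (word g e : MM) := fun k => by
    induction k with
    | zero => simp
    | succ k ih =>
      have e1 : ((h ^ (k + 1) * word g e * (h ^ (k + 1))⁻¹ : GG) : MM) =
          (h : MM) * ((h ^ k * word g e * (h ^ k)⁻¹ : GG) : MM) * ((h⁻¹ : GG) : MM) := by
        rw [← Units.val_mul, ← Units.val_mul]; congr 1; rw [pow_succ']; group
      rw [e1, ih, mul_smul_comm, smul_mul_assoc, ← Units.val_mul, ← Units.val_mul, hs, smul_smul, ← pow_succ]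
  have h1 := hk r
  rw [hpow, one_mul, inv_one, mul_one] at h1
  have hsr : s ^ r = 1 := by
    have h2 : (1 : F) • (word g e : MM) = s ^ r • (word g e : MM) := by rw [one_smul]; exact h1
    exact (smul_left_injective F (M := MM) (m := (word g e : MM)) (Units.ne_zero _) h2).symm
  obtain ⟨j, rfl⟩ := hr
  rw [pow_succ, pow_mul, _root_.sq, hs2, one_pow, one_mul] at hsr
  exact Units.ext (by rw [hs, hsr, one_smul])

/-- The averaging identity. -/
theorem average (S : Frame R g) (M : MM) :
    ∑ e, (word g e : MM) * M * (((word g e)⁻¹ : GG) : MM) = (4 * M.trace) • (1 : MM) := by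
  haveI := S.nonempty
  set T : MM := ∑ e, (word g e : MM) * M * (((word g e)⁻¹ : GG) : MM) with hT
  obtain ⟨c, hc⟩ := S.scalar_of_commute (M := T) fun k => by
    have hsh : (g k : MM) * T * (((g k)⁻¹ : GG) : MM) = T := by
      rw [hT, Finset.mul_sum, Finset.sum_mul]
      refine Fintype.sum_equiv (Equiv.addRight (unitVec k)) _ _ fun e => ?_
      show _ = (word g (e + unitVec k) : MM) * M * (((word g (e + unitVec k))⁻¹ : GG) : MM)
      obtain ⟨s, hs⟩ := S.cls_mul (unitVec k) e
      rw [word_unit] at hs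
      have e1 : (((word g e)⁻¹ : GG) : MM) * (((g k)⁻¹ : GG) : MM) = (((g k * word g e)⁻¹ : GG) : MM) := by
        rw [← Units.val_mul, _root_.mul_inv_rev]
      have hs0 : s ≠ 0 := fun e0 => by rw [e0, zero_smul, ← Units.val_mul] at hs; exact Units.ne_zero _ hs
      have e2 : (((g k * word g e)⁻¹ : GG) : MM) = s⁻¹ • (((word g (e + unitVec k))⁻¹ : GG) : MM) := by
        rw [← Units.val_mul, add_comm] at hs
        refine (Units.isUnit (g k * word g e)).mul_left_cancel ?_
        rw [← Units.val_mul, mul_inv_cancel, Units.val_one, hs, smul_mul_smul_comm, mul_inv_cancel₀ hs0, one_smul,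
          ← Units.val_mul, mul_inv_cancel, Units.val_one]
      simp only [mul_assoc]
      rw [e1, e2, ← mul_assoc (g k : MM), hs, add_comm (unitVec k) e]
      simp only [smul_mul_assoc, mul_smul_comm, smul_smul, inv_mul_cancel₀ hs0, one_smul, mul_inv_cancel₀ hs0]
    conv_lhs => rw [← hsh]
    rw [mul_assoc ((g k : MM) * T), ← Units.val_mul, inv_mul_cancel, Units.val_one, mul_one]
  have htr : T.trace = 16 * M.trace := by
    rw [hT, Matrix.trace_sum, Finset.sum_congr rfl fun e _ => show ((word g e : MM) * M *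
      (((word g e)⁻¹ : GG) : MM)).trace = M.trace by
        rw [Matrix.trace_mul_comm, ← mul_assoc, ← Units.val_mul, inv_mul_cancel, Units.val_one, one_mul],
      Finset.sum_const, nsmul_eq_mul]
    norm_num
  rw [hc] at htr ⊢
  rw [Matrix.trace_smul, S.trace_one', smul_eq_mul] at htr
  congr 1
  exact mul_right_cancel₀ S.four (by rw [htr]; ring)

set_option maxHeartbeats 1000000 in
/-- The counting statement for elements of odd prime order in the normaliser. -/
theorem count (S : Frame R g) {r : ℕ} [Fact r.Prime] (hr : r ≠ 2) {h : GG} (hh : h ∈ Cfsg.Geo.subgroupNormalizer R)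
    (hpow : h ^ r = 1) : ∃ P : Equiv.Perm Idx, P ^ r = 1 ∧ P.supportᶜ.card ∣ 16 ∧
      (∀ e, IsCls g ((h * word g e * h⁻¹ : GG) : MM) (P e)) ∧
      (∀ e f, P (e + f) = P e + P f) ∧ (∀ e f, bil (P e) (P f) = bil e f) ∧
      (h : MM).trace * ((h⁻¹ : GG) : MM).trace = (P.supportᶜ.card : F) := by
  classical
  haveI := S.nonempty
  have hodd : Odd r := (Fact.out : r.Prime).odd_of_ne_two hr
  choose π hπ using S.exists_perm hh
  have hiter : ∀ k : ℕ, ∀ e, IsCls g ((h ^ k * word g e * (h ^ k)⁻¹ : GG) : MM) (π^[k] e) := fun k => by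
    induction k with
    | zero => intro e; exact ⟨1, by simp⟩
    | succ k ih =>
      intro e
      rw [Function.iterate_succ_apply', pow_succ']
      exact S.cls_comp (ih e) (hπ _)
  have hper : ∀ e, π^[r] e = e := fun e => by
    refine S.class_unique (hiter r e) ?_
    rw [hpow, one_mul, inv_one, mul_one]
    exact ⟨1, (one_smul _ _).symm⟩
  have hbij : Function.Bijective π := by
    refine Finite.injective_iff_bijective.mp fun a b hab => ?_
    obtain ⟨m, hm⟩ : ∃ m, r = m + 1 := ⟨r - 1, by have := (Fact.out : r.Prime).pos; omega⟩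
    rw [← hper a, ← hper b, hm, Function.iterate_succ_apply, Function.iterate_succ_apply, hab]
  let P : Equiv.Perm Idx := Equiv.ofBijective π hbij
  have hP : P ^ r = 1 := Equiv.ext fun e => by
    rw [Equiv.Perm.coe_pow, Equiv.Perm.one_apply]
    exact hper e
  have hsg : ∀ e f, bil (π e) (π f) = bil e f := fun e f => by
    obtain ⟨s, hs⟩ := hπ e
    obtain ⟨t, ht⟩ := hπ f
    refine Sg.unique S.two (a := h * word g e * h⁻¹) (b := h * word g f * h⁻¹) ?_ ?_
    · rw [hs, ht]; exact ((S.sg_word (π e) (π f)).smul_left s).symm.smul_left t |>.symm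
    · have hw := S.sg_word e f
      rw [Sg] at hw ⊢
      have e1 : ∀ a b : GG, ((h * a * h⁻¹ : GG) : MM) * ((h * b * h⁻¹ : GG) : MM) =
          (h : MM) * ((a : MM) * (b : MM)) * ((h⁻¹ : GG) : MM) := fun a b => by
        rw [← Units.val_mul, ← Units.val_mul a b, ← Units.val_mul, ← Units.val_mul]; congr 1; group
      rw [e1, e1, hw, mul_smul_comm, smul_mul_assoc]
  have hadd : ∀ e f, π (e + f) = π e + π f := fun e f => by
    obtain ⟨s, hs⟩ := hπ e
    obtain ⟨t, ht⟩ := hπ f
    obtain ⟨c, hc⟩ := S.cls_mul e f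
    obtain ⟨c', hc'⟩ := S.cls_mul (π e) (π f)
    have hc0 : c ≠ 0 := fun e0 => by rw [e0, zero_smul, ← Units.val_mul] at hc; exact Units.ne_zero _ hc
    refine S.class_unique (hπ (e + f)) ⟨c⁻¹ * (s * t * c'), ?_⟩
    have e1 : ((h * word g (e + f) * h⁻¹ : GG) : MM) =
        c⁻¹ • (((h * word g e * h⁻¹ : GG) : MM) * ((h * word g f * h⁻¹ : GG) : MM)) := by
      have e2 : ((h * word g e * h⁻¹ : GG) : MM) * ((h * word g f * h⁻¹ : GG) : MM) =
          (h : MM) * ((word g e : MM) * (word g f : MM)) * ((h⁻¹ : GG) : MM) := by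
        rw [← Units.val_mul, ← Units.val_mul (word g e), ← Units.val_mul, ← Units.val_mul]; congr 1; group
      rw [e2, hc, mul_smul_comm, smul_mul_assoc, smul_smul, inv_mul_cancel₀ hc0, one_smul, Units.val_mul, Units.val_mul]
    rw [e1, hs, ht, smul_mul_smul_comm, hc', smul_smul, smul_smul, mul_assoc]
  have hfix : ∀ e, e ∈ P.supportᶜ ↔ π e = e := fun e => by
    rw [Finset.mem_compl, Equiv.Perm.mem_support, not_not]; rfl
  have hdvd : P.supportᶜ.card ∣ 16 := by
    let A : AddSubgroup Idx :=
      { carrier := {e | π e = e}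
        add_mem' := fun {a b} (ha : π a = a) (hb : π b = b) => show π (a + b) = a + b by rw [hadd, ha, hb]
        zero_mem' := show π 0 = 0 by simpa using hadd 0 0
        neg_mem' := fun {a} (ha : π a = a) => show π (-a) = -a by
          rw [show -a = a from funext fun j => CharTwo.neg_eq (a j)]; exact ha }
    have hA := A.card_addSubgroup_dvd_card
    rw [Nat.card_eq_fintype_card, Nat.card_eq_fintype_card, Fintype.card_fun, ZMod.card, Fintype.card_fin] at hA
    have e1 : Fintype.card A = P.supportᶜ.card := by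
      rw [← Fintype.card_coe]
      exact Fintype.card_congr (Equiv.subtypeEquivRight fun e => (hfix e).symm)
    rw [← e1]; exact hA
  refine ⟨P, hP, hdvd, hπ, hadd, hsg, ?_⟩
  have hsum := congrArg (fun A : MM => (A * ((h⁻¹ : GG) : MM)).trace) (S.average (h : MM))
  simp only [Finset.sum_mul, Matrix.trace_sum, smul_mul_assoc, one_mul, Matrix.trace_smul, smul_eq_mul] at hsum
  have hterm : ∀ e, ((word g e : MM) * (h : MM) * (((word g e)⁻¹ : GG) : MM) * ((h⁻¹ : GG) : MM)).trace =
      if π e = e then 4 else 0 := fun e => by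
    have e1 : (word g e : MM) * (h : MM) * (((word g e)⁻¹ : GG) : MM) * ((h⁻¹ : GG) : MM) =
        (word g e : MM) * (((h * word g e * h⁻¹)⁻¹ : GG) : MM) := by
      simp only [← Units.val_mul]; congr 1; group
    rw [e1]
    split_ifs with he
    · rw [S.fixed_word hodd hpow (by have h0 := hπ e; rwa [he] at h0), ← Units.val_mul, mul_inv_cancel, Units.val_one, S.trace_one']
    · obtain ⟨s, hs⟩ := hπ e
      have hs0 : s ≠ 0 := fun e0 => by rw [e0, zero_smul] at hs; exact Units.ne_zero _ hs
      have hinv : (((h * word g e * h⁻¹)⁻¹ : GG) : MM) = s⁻¹ • (((word g (π e))⁻¹ : GG) : MM) := by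
        refine (Units.isUnit (h * word g e * h⁻¹)).mul_left_cancel ?_
        rw [← Units.val_mul, mul_inv_cancel, Units.val_one, hs, smul_mul_smul_comm, mul_inv_cancel₀ hs0, one_smul,
          ← Units.val_mul, mul_inv_cancel, Units.val_one]
      rw [hinv, mul_smul_comm, Matrix.trace_smul, Matrix.trace_mul_comm, S.trace_inv_word he, smul_zero]
  rw [Finset.sum_congr rfl fun e _ => hterm e, ← Finset.sum_filter, Finset.sum_const, nsmul_eq_mul,
    show Finset.univ.filter (fun e => π e = e) = P.supportᶜ by ext e; rw [Finset.mem_filter, hfix]; simp] at hsum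
  exact mul_left_cancel₀ S.four (by linear_combination -hsum)

/-- The possible fixed counts. -/
theorem trace_count (S : Frame R g) {r : ℕ} [Fact r.Prime] (hr : r ≠ 2) {h : GG}
    (hh : h ∈ Cfsg.Geo.subgroupNormalizer R) (hpow : h ^ r = 1) (hns : ∀ c : F, (h : MM) ≠ c • 1) :
    ∃ P : Equiv.Perm Idx, P ^ r = 1 ∧ (∀ e, IsCls g ((h * word g e * h⁻¹ : GG) : MM) (P e)) ∧
      (h : MM).trace * ((h⁻¹ : GG) : MM).trace = (P.supportᶜ.card : F) ∧
      ((r = 3 ∧ (P.supportᶜ.card = 1 ∨ P.supportᶜ.card = 4)) ∨ (r = 5 ∧ P.supportᶜ.card = 1)) := by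
  classical
  have hrp : r.Prime := Fact.out
  obtain ⟨P, hP, hdvd, hcls, hadd, hbil, htr⟩ := S.count hr hh hpow
  refine ⟨P, hP, hcls, htr, ?_⟩
  have hmod := Equiv.Perm.card_compl_support_modEq (p := r) (n := 1) (σ := P) (by rw [pow_one]; exact hP)
  rw [Fintype.card_fun, ZMod.card, Fintype.card_fin] at hmod
  set c := P.supportᶜ.card with hc
  have hc16 : c ≠ 16 := fun h16 => by
    have hall : P.supportᶜ = Finset.univ := Finset.eq_univ_of_card _ (by rw [← hc, h16]; rfl)
    obtain ⟨s, hs⟩ := S.scalar_of_commute (M := (h : MM)) fun k => by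
      have hk : P (unitVec k) = unitVec k := by
        have := Finset.ext_iff.mp hall (unitVec k)
        simpa using this
      have h1 := S.fixed_word (hrp.odd_of_ne_two hr) hpow (by have := hcls (unitVec k); rwa [hk] at this)
      rw [word_unit, mul_inv_eq_iff_eq_mul] at h1
      rw [← Units.val_mul, h1, Units.val_mul]
    exact hns s hs
  have hle : c ≤ 16 := Nat.le_of_dvd (by norm_num) hdvd
  have hcase : c = 1 ∨ c = 2 ∨ c = 4 ∨ c = 8 := by
    interval_cases c <;> omega
  have hd : r ∣ 16 - c := (Nat.modEq_iff_dvd' hle).mp hmod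
  have hr16 : r ≤ 15 := by
    have := Nat.le_of_dvd (by omega) hd
    have h4 : 1 ≤ c := by omega
    omega
  have key : r = 7 → c ≠ 2 := by
    rintro rfl h2
    obtain ⟨a, ha, hPa⟩ : ∃ a : Idx, a ≠ 0 ∧ P a = a := by
      by_contra hcon
      push Not at hcon
      have : P.supportᶜ ⊆ {0} := fun e he => by
        rw [Finset.mem_compl, Equiv.Perm.mem_support, not_not] at he
        rw [Finset.mem_singleton]
        exact by_contra fun h0 => hcon e h0 he
      have := Finset.card_le_card this
      rw [← hc, h2, Finset.card_singleton] at this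
      omega
    let σ : Equiv.Perm {f : Idx // bil a f = 0} := P.subtypePerm fun f => by rw [← hbil a f, hPa]
    have hσ : σ ^ 7 ^ 1 = 1 := by
      rw [pow_one]
      refine Equiv.ext fun f => Subtype.ext ?_
      have hit : ∀ k : ℕ, ((σ ^ k) f).1 = (P ^ k) f.1 := fun k => by
        induction k with
        | zero => rfl
        | succ k ih => rw [pow_succ', pow_succ', Equiv.Perm.mul_apply, Equiv.Perm.mul_apply, ← ih]; rfl
      rw [hit, hP]; rfl
    have hm := Equiv.Perm.card_compl_support_modEq hσ
    rw [Fintype.card_subtype, bil_card a ha] at hm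
    have hle2 : σ.supportᶜ.card ≤ c := by
      rw [hc]
      refine Finset.card_le_card_of_injOn (fun f => f.1) (fun f hf => ?_) (fun x _ y _ => Subtype.ext)
      simp only [Finset.coe_compl, Set.mem_compl_iff, Finset.mem_coe, Equiv.Perm.mem_support, not_not] at hf ⊢
      exact congrArg Subtype.val hf
    have hge : 2 ≤ σ.supportᶜ.card := by
      have h0 : bil a 0 = 0 := by simp [bil]
      have haa : bil a a = 0 := by
        have key : ∀ a : Idx, bil a a = 0 := by decide +kernel
        exact key a
      have hP0 : P 0 = 0 := by simpa using hadd 0 0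
      refine Finset.one_lt_card.mpr ⟨⟨0, h0⟩, ?_, ⟨a, haa⟩, ?_, fun e => ha (congrArg Subtype.val e).symm⟩
      · rw [Finset.mem_compl, Equiv.Perm.mem_support, not_not]; exact Subtype.ext hP0
      · rw [Finset.mem_compl, Equiv.Perm.mem_support, not_not]; exact Subtype.ext hPa
    rw [show σ.supportᶜ.card = 2 by omega] at hm
    exact absurd hm (by decide)
  interval_cases r <;> first
    | (exfalso; revert hrp; norm_num; done)
    | (rcases hcase with h | h | h | h <;> rw [h] at hd <;>
        first | (exfalso; exact key rfl h) | (exfalso; omega) | omega)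

/-- A rank-one twist of odd order does not normalise. -/
theorem no_rank_one (S : Frame R g) {r : ℕ} (hr : Odd r) {h : GG} (hh : h ∈ Cfsg.Geo.subgroupNormalizer R)
    (hpow : h ^ r = 1) : ((h : MM) - 1).rank ≠ 1 := by
  intro hrk
  haveI := S.nonempty
  have hcomm : ∀ k, h * g k = g k * h := by
    intro k
    set a := g k with ha
    set b : GG := a * h * a⁻¹ with hb
    set q : GG := h * a * h⁻¹ * a⁻¹ with hq
    have hqR : q ∈ R := mul_mem ((Subgroup.mem_normalizer_iff.mp hh _).mp (S.mem k)) (inv_mem (S.mem k))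
    have hqb : q = h * b⁻¹ := by rw [hq, hb]; group
    set N := (h : MM).mulVecLin - LinearMap.id with hN
    set N' := (b : MM).mulVecLin - LinearMap.id with hN'
    set D := (q : MM).mulVecLin - LinearMap.id with hD
    have hNr : Module.finrank F (LinearMap.range N) = 1 := by
      have e0 : ((h : MM) - 1).mulVecLin = N := LinearMap.ext fun v => by simp [hN, Matrix.sub_mulVec]
      rw [← hrk, Matrix.rank, e0]
    have hN'r : Module.finrank F (LinearMap.range N') = 1 := by
      have e1 : N' = (a : MM).mulVecLin ∘ₗ N ∘ₗ ((a⁻¹ : GG) : MM).mulVecLin := LinearMap.ext fun v => by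
        simp [hN', hN, hb, Matrix.mulVec_sub, Matrix.mulVec_mulVec, ← mul_assoc]
      have hinj : ∀ c : GG, Function.Injective (c : MM).mulVecLin := fun c => Function.LeftInverse.injective
        (g := ((c⁻¹ : GG) : MM).mulVecLin) fun v => by simp [Matrix.mulVec_mulVec]
      have hsurj : Function.Surjective ((a⁻¹ : GG) : MM).mulVecLin := fun v => ⟨(a : MM) *ᵥ v, by simp [Matrix.mulVec_mulVec]⟩
      rw [e1, LinearMap.range_comp, LinearMap.range_comp, LinearMap.range_eq_top.mpr hsurj, Submodule.map_top]
      rw [← hNr]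
      exact (Submodule.equivMapOfInjective _ (hinj a) _).finrank_eq.symm
    have hDv : ∀ v, D v = N (((b⁻¹ : GG) : MM) *ᵥ v) - N' (((b⁻¹ : GG) : MM) *ᵥ v) := fun v => by
      simp [hD, hN, hN', hqb, Matrix.mulVec_mulVec]
    have hDr : LinearMap.range D ≤ LinearMap.range N ⊔ LinearMap.range N' := by
      rintro _ ⟨v, rfl⟩
      rw [hDv]
      exact Submodule.sub_mem_sup ⟨_, rfl⟩ ⟨_, rfl⟩
    have hDk : LinearMap.ker N ⊓ LinearMap.ker N' ≤ LinearMap.ker D := by
      rintro v ⟨hv, hv'⟩
      rw [SetLike.mem_coe, LinearMap.mem_ker] at hv hv'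
      rw [LinearMap.mem_ker]
      have hv2 : ((b⁻¹ : GG) : MM) *ᵥ v = v := by
        have h2 : (b : MM) *ᵥ v = v := by simpa [hN', sub_eq_zero] using hv'
        conv_lhs => rw [← h2, Matrix.mulVec_mulVec, ← Units.val_mul, inv_mul_cancel, Units.val_one, Matrix.one_mulVec]
      rw [hDv, hv2, hv, hv', sub_zero]
    have hn4 : Module.finrank F (ι → F) = 4 := by rw [Module.finrank_fintype_fun_eq_card, S.card_eq]
    have k1 := N.finrank_range_add_finrank_ker
    have k2 := N'.finrank_range_add_finrank_ker
    have k3 := D.finrank_range_add_finrank_ker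
    have k4 := Submodule.finrank_sup_add_finrank_inf_eq (LinearMap.ker N) (LinearMap.ker N')
    have k5 := Submodule.finrank_le (LinearMap.ker N ⊔ LinearMap.ker N')
    have k6 := Submodule.finrank_mono hDk
    have k7 := Submodule.finrank_mono hDr
    have k8 := Submodule.finrank_add_le_finrank_add_finrank (LinearMap.range N) (LinearMap.range N')
    obtain ⟨e, c, hc⟩ := S.describe hqR
    have hfix : ∃ v : ι → F, v ≠ 0 ∧ (q : MM) *ᵥ v = v := by
      obtain ⟨v, hv, hv0⟩ := (LinearMap.ker D).exists_mem_ne_zero_of_ne_bot fun e0 => by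
        rw [e0, finrank_bot] at k6; omega
      exact ⟨v, hv0, sub_eq_zero.mp (by simpa [hD] using hv)⟩
    obtain ⟨v₀, hv0, hv⟩ := hfix
    by_cases he : e = 0
    · rw [he, word_zero, Units.val_one] at hc
      have hc1 : c = 1 := by
        rw [hc, Matrix.smul_mulVec, Matrix.one_mulVec] at hv
        have : (c - 1) • v₀ = 0 := by rw [sub_smul, one_smul, hv, sub_self]
        exact sub_eq_zero.mp ((smul_eq_zero.mp this).resolve_right hv0)
      have hq1 : q = 1 := Units.ext (by rw [hc, hc1, one_smul, Units.val_one])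
      rw [hq, mul_inv_eq_one, mul_inv_eq_iff_eq_mul] at hq1
      exact hq1
    exfalso
    obtain ⟨s, hs⟩ := S.word_sq e
    have hq2 : (q : MM) * (q : MM) = 1 := by
      have h1 : (q : MM) * (q : MM) = (c * c * eps (F := F) s) • 1 := by rw [hc, smul_mul_smul_comm, hs, smul_smul]
      have h2 : ((c * c * eps (F := F) s) - 1) • v₀ = 0 := by
        have := congrArg (fun A : MM => A *ᵥ v₀) h1
        simp only [← Matrix.mulVec_mulVec, hv, Matrix.smul_mulVec, Matrix.one_mulVec] at this
        rw [sub_smul, one_smul, ← this, sub_self]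
      rw [h1, sub_eq_zero.mp ((smul_eq_zero.mp h2).resolve_right hv0), one_smul]
    -- the fixed space of `q` has dimension two
    have htr : (q : MM).trace = 0 := by rw [hc, Matrix.trace_smul, S.trace_word he, smul_zero]
    have hD2 : ∀ v, D (D v) = (-2 : F) • D v := fun v => by
      simp only [hD, LinearMap.sub_apply, Matrix.mulVecLin_apply, LinearMap.id_apply, Matrix.mulVec_sub,
        Matrix.mulVec_mulVec, hq2, Matrix.one_mulVec]
      module
    set Z : Module.End F (ι → F) := (-(2 : F)⁻¹) • D with hZ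
    have hproj : LinearMap.IsProj (LinearMap.range D) Z := by
      refine ⟨fun v => ?_, ?_⟩
      · rw [hZ, LinearMap.smul_apply]; exact Submodule.smul_mem _ _ ⟨v, rfl⟩
      · rintro _ ⟨v, rfl⟩
        rw [hZ, LinearMap.smul_apply, hD2, smul_smul, neg_mul_neg, inv_mul_cancel₀ S.two, one_smul]
    have htrD : LinearMap.trace F (ι → F) Z = 2 := by
      rw [hZ, map_smul, hD, map_sub, Matrix.mulVecLin, show (LinearMap.id : Module.End F (ι → F)) = 1 from rfl,
        LinearMap.trace_one, hn4, smul_eq_mul]
      rw [show LinearMap.trace F (ι → F) (q : MM).mulVecLin = (q : MM).trace from Matrix.trace_toLin'_eq _, htr]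
      have := S.two
      field_simp
      norm_num
    rw [hproj.trace] at htrD
    set n₀ := Module.finrank F (LinearMap.range D) with hn0
    have hn2 : n₀ = 2 := by
      have hle : n₀ ≤ 2 := by omega
      interval_cases n₀
      · simp at htrD; exact absurd htrD.symm S.two
      · exfalso; rw [Nat.cast_one] at htrD; exact one_ne_zero (show (1 : F) = 0 by linear_combination -htrD)
      · rfl
    have hrange : LinearMap.range D = LinearMap.range N ⊔ LinearMap.range N' := by
      refine Submodule.eq_of_le_of_finrank_le hDr ?_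
      omega
    have hker : LinearMap.ker D = LinearMap.ker N ⊓ LinearMap.ker N' :=
      (Submodule.eq_of_le_of_finrank_le hDk (by omega)).symm
    have e1 : ∀ v, N (D v + (2 : F) • v) = 0 := fun v => by
      have : D v + (2 : F) • v ∈ LinearMap.ker D := by
        rw [LinearMap.mem_ker, map_add, hD2, map_smul]; module
      rw [hker] at this
      exact this.1
    have e2 : ∀ v, D (N v) + (2 : F) • N v = 0 := fun v => by
      obtain ⟨w, hw⟩ : N v ∈ LinearMap.range D := hrange ▸ Submodule.mem_sup_left ⟨v, rfl⟩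
      rw [← hw, hD2]; module
    have hND : ∀ v, N (D v) = D (N v) := fun v => by
      have h1 := e1 v
      rw [map_add, map_smul] at h1
      exact (add_right_cancel (b := (2 : F) • N v) (h1.trans (e2 v).symm))
    have hqh : q * h = h * q := by
      refine Units.ext (Matrix.toLin'.injective (LinearMap.ext fun v => ?_))
      have := hND v
      simp only [hN, hD, LinearMap.sub_apply, Matrix.mulVecLin_apply, LinearMap.id_apply, Matrix.mulVec_sub,
        Matrix.mulVec_mulVec] at this
      simp only [Matrix.toLin'_apply, Units.val_mul]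
      linear_combination (norm := module) -this
    have hqk : ∀ j : ℕ, h ^ j * a * (h ^ j)⁻¹ = q ^ j * a := fun j => by
      induction j with
      | zero => simp
      | succ j ih =>
        have hcq : h * q ^ j = q ^ j * h := (Commute.pow_right (show Commute h q from hqh.symm) j).eq
        calc h ^ (j + 1) * a * (h ^ (j + 1))⁻¹ = h * (h ^ j * a * (h ^ j)⁻¹) * h⁻¹ := by rw [pow_succ']; group
          _ = (h * q ^ j) * a * h⁻¹ := by rw [ih, ← mul_assoc h]
          _ = q ^ j * (h * a * h⁻¹ * a⁻¹) * a := by rw [hcq]; group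
          _ = q ^ (j + 1) * a := by rw [← hq, pow_succ]
    have h1 := hqk r
    rw [hpow, one_mul, inv_one, mul_one] at h1
    have hqr : q ^ r = 1 := mul_eq_right.mp h1.symm
    have hq1 : q = 1 := by
      obtain ⟨j, rfl⟩ := hr
      have : q ^ 2 = 1 := Units.ext (by rw [Units.val_pow_eq_pow_val, _root_.sq, hq2, Units.val_one])
      rwa [pow_succ, pow_mul, this, one_pow, one_mul] at hqr
    have hD0 : D = 0 := LinearMap.ext fun v => by simp [hD, hq1]
    rw [hD0, LinearMap.range_zero, finrank_bot] at hn0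
    omega
  obtain ⟨c, hc⟩ := S.scalar_of_commute (M := (h : MM)) fun k => by rw [← Units.val_mul, hcomm k, Units.val_mul]
  rw [hc, show c • (1 : MM) - 1 = (c - 1) • (1 : MM) by rw [sub_smul, one_smul]] at hrk
  by_cases hc1 : c - 1 = 0
  · rw [hc1, zero_smul, Matrix.rank_zero] at hrk; omega
  · rw [Matrix.rank_of_isUnit _ ((Matrix.isUnit_iff_isUnit_det _).mpr
      (by rw [Matrix.det_smul, Matrix.det_one, mul_one]; exact (pow_ne_zero _ hc1).isUnit)), S.card_eq] at hrk
    omega

end Frame

end Cfsg.Lib.Classical.TwoSix
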