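import Mathlib
import Cfsg.Agent.Classical.Misc.TwoSix.Gamma
import Cfsg.Agent.Classical.Misc.PrimeOrderLinear
import Cfsg.Agent.Known.SemisimpleSimilar
import Cfsg.Agent.Known.PrimeOrderPoly
import Cfsg.Agent.Classical.Symp.UnitExtDerangementMain

/-! Elements of order 2, 3, 5 normalising the group of four anticommuting involutions. -/

set_option autoImplicit false
set_option linter.unusedSimpArgs false
set_option linter.unusedSectionVars false
set_option linter.unusedVariables false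
set_option linter.style.haveILetI false
set_option linter.flexible false

namespace Cfsg.Lib.Classical.TwoSix

open Matrix Polynomial Cfsg.Lib.Classical
open scoped MatrixGroups

universe u

variable {F : Type u} [Field F] {ι : Type} [Fintype ι] [DecidableEq ι]

local notation "GG" => GL ι F
local notation "MM" => Matrix ι ι F

/-- Anticommuting involutions in `R`. -/
structure Two (R : Subgroup (GL ι F)) (x y : GL ι F) : Prop where
  two : (2 : F) ≠ 0
  memx : x ∈ R
  memy : y ∈ R
  sqx : x * x = 1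
  sqy : y * y = 1
  anti : Sg 1 (x : Matrix ι ι F) (y : Matrix ι ι F)

variable {R : Subgroup (GL ι F)} {x y z w : GL ι F}

theorem sub_mul_sub (h : Two R x y) :
    ((x : MM) - (y : MM)) * ((x : MM) - (y : MM)) = (2 : F) • (1 : MM) := by
  have h1 := Sg.anti.mp h.anti
  rw [sub_mul, mul_sub, mul_sub, ← Units.val_mul x x, ← Units.val_mul y y, h.sqx, h.sqy, Units.val_one, h1]
  rw [two_smul]
  abel

/-- The reflection in `x - y`. -/
def refl (h : Two R x y) : GG :=
  ⟨(x : MM) - (y : MM), (2 : F)⁻¹ • ((x : MM) - (y : MM)),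
    by rw [mul_smul_comm, sub_mul_sub h, smul_smul, inv_mul_cancel₀ h.two, one_smul],
    by rw [smul_mul_assoc, sub_mul_sub h, smul_smul, inv_mul_cancel₀ h.two, one_smul]⟩

/-- A scalar element. -/
def scalarGL (c : F) (hc : c ≠ 0) : GG :=
  ⟨c • 1, c⁻¹ • 1, by rw [smul_mul_smul_comm, mul_inv_cancel₀ hc, one_smul, one_mul],
    by rw [smul_mul_smul_comm, inv_mul_cancel₀ hc, one_smul, one_mul]⟩

theorem scalar_commute {c : GG} {s : F} (hc : (c : MM) = s • 1) (a : GG) : Commute c a :=
  Units.ext (by rw [Units.val_mul, Units.val_mul, hc, smul_mul_assoc, one_mul, mul_smul_comm, mul_one])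

/-- A criterion for normalising. -/
theorem mem_normalizer [Fintype F] {h : GG} (hh : ∀ a ∈ R, h * a * h⁻¹ ∈ R) : h ∈ Cfsg.Geo.subgroupNormalizer R := by
  haveI : Finite GG := inferInstance
  rw [Cfsg.Geo.subgroupNormalizer, Subgroup.mem_normalizer_iff]
  have hbij : Function.Bijective fun a : R => (⟨h * a.1 * h⁻¹, hh _ a.2⟩ : R) := by
    refine Finite.injective_iff_bijective.mp fun a b hab => Subtype.ext ?_
    simpa using congrArg Subtype.val hab
  intro a
  refine ⟨fun ha => hh a ha, fun ha => ?_⟩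
  obtain ⟨b, hb⟩ := hbij.2 ⟨_, ha⟩
  have h1 := congrArg Subtype.val hb
  simp only [mul_left_inj, mul_right_inj] at h1
  exact h1 ▸ b.2

theorem scalarGL_mem [Fintype F] (c : F) (hc : c ≠ 0) : (scalarGL c hc : GG) ∈ Cfsg.Geo.subgroupNormalizer R :=
  mem_normalizer fun a ha => by rw [(scalar_commute (rfl : ((scalarGL c hc : GG) : MM) = c • 1) a).eq, mul_inv_cancel_right]; exact ha

/-- Signs of conjugates. -/
theorem conj_mem (hneg : (-1 : GG) ∈ R) {h a b : GG} (hb : b ∈ R) (e : (h : MM) * (a : MM) = (b : MM) * (h : MM) ∨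
    (h : MM) * (a : MM) = -((b : MM) * (h : MM))) : h * a * h⁻¹ ∈ R := by
  rcases e with e | e
  · rw [show h * a = b * h from Units.ext (by rw [Units.val_mul, Units.val_mul, e]), mul_inv_cancel_right]
    exact hb
  · rw [show h * a = -1 * b * h from Units.ext (by
      rw [Units.val_mul, Units.val_mul, Units.val_mul, Units.val_neg, Units.val_one, e, neg_one_mul, neg_mul]),
      mul_inv_cancel_right]
    exact mul_mem hneg hb

theorem refl_mem [Fintype F] (hsig : Signed R) (hneg : (-1 : GG) ∈ R) (h : Two R x y) :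
    refl h ∈ Cfsg.Geo.subgroupNormalizer R := mem_normalizer fun a ha => by
  obtain ⟨s, hs⟩ := hsig x h.memx a ha
  obtain ⟨t, ht⟩ := hsig y h.memy a ha
  have hxy := Sg.anti.mp h.anti
  have hx2 : (x : MM) * x = 1 := by rw [← Units.val_mul, h.sqx, Units.val_one]
  have hy2 : (y : MM) * y = 1 := by rw [← Units.val_mul, h.sqy, Units.val_one]
  have hu : ((refl h : GG) : MM) = (x : MM) - (y : MM) := rfl
  have key : (x : MM) * (y : MM) * ((x : MM) - (y : MM)) = -((x : MM) + (y : MM)) := by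
    rw [mul_sub, mul_assoc _ (y : MM) (x : MM), Sg.anti.mp h.anti.symm, mul_neg, ← mul_assoc, hx2, one_mul,
      mul_assoc, hy2, mul_one]
    abel
  rcases zmod2_cases s with rfl | rfl <;> rcases zmod2_cases t with rfl | rfl
  · refine conj_mem hneg ha (Or.inl ?_)
    rw [hu, sub_mul, Sg.comm.mp hs, Sg.comm.mp ht, mul_sub]
  · refine conj_mem hneg (b := a * (x * y)) (mul_mem ha (mul_mem h.memx h.memy)) (Or.inr ?_)
    rw [hu, sub_mul, Sg.comm.mp hs, Sg.anti.mp ht, Units.val_mul, Units.val_mul, mul_assoc, key]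
    simp only [mul_neg, mul_add]
    abel
  · refine conj_mem hneg (b := a * (x * y)) (mul_mem ha (mul_mem h.memx h.memy)) (Or.inl ?_)
    rw [hu, sub_mul, Sg.anti.mp hs, Sg.comm.mp ht, Units.val_mul, Units.val_mul, mul_assoc, key]
    simp only [mul_neg, mul_add]
    abel
  · refine conj_mem hneg ha (Or.inr ?_)
    rw [hu, sub_mul, Sg.anti.mp hs, Sg.anti.mp ht, mul_sub]
    abel

/-- The product of two reflections, normalised. -/
def pair (h : Two R x y) (h' : Two R z w) : GG :=
  scalarGL (2 : F)⁻¹ (inv_ne_zero h.two) * (refl h * refl h')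

theorem pair_val (h : Two R x y) (h' : Two R z w) :
    ((pair h h' : GG) : MM) = (2 : F)⁻¹ • (((x : MM) - (y : MM)) * ((z : MM) - (w : MM))) := by
  rw [pair, Units.val_mul, Units.val_mul]
  show (2 : F)⁻¹ • (1 : MM) * _ = _
  rw [smul_mul_assoc, one_mul]
  rfl

theorem pair_mem [Fintype F] (hsig : Signed R) (hneg : (-1 : GG) ∈ R) (h : Two R x y) (h' : Two R z w) :
    pair h h' ∈ Cfsg.Geo.subgroupNormalizer R :=
  mul_mem (scalarGL_mem _ _) (mul_mem (refl_mem hsig hneg h) (refl_mem hsig hneg h'))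

theorem refl_fix (h : Two R x y) {A : MM} (hx : (x : MM) * A = -(A * (x : MM))) (hy : (y : MM) * A = -(A * (y : MM))) :
    ((x : MM) - (y : MM)) * A = -(A * ((x : MM) - (y : MM))) := by
  rw [sub_mul, hx, hy, mul_sub]; abel

theorem refl_left (h : Two R x y) : ((x : MM) - (y : MM)) * (x : MM) = -((y : MM) * ((x : MM) - (y : MM))) := by
  rw [sub_mul, mul_sub, ← Units.val_mul x x, ← Units.val_mul y y, h.sqx, h.sqy]; abel

theorem refl_right (h : Two R x y) : ((x : MM) - (y : MM)) * (y : MM) = -((x : MM) * ((x : MM) - (y : MM))) := by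
  rw [sub_mul, mul_sub, ← Units.val_mul x x, ← Units.val_mul y y, h.sqx, h.sqy]; abel

theorem pair_act (h : Two R x y) (h' : Two R z w) {a b c : GG}
    (h1 : ((z : MM) - (w : MM)) * (a : MM) = -((b : MM) * ((z : MM) - (w : MM))))
    (h2 : ((x : MM) - (y : MM)) * (b : MM) = -((c : MM) * ((x : MM) - (y : MM)))) :
    pair h h' * a = c * pair h h' := by
  refine Units.ext ?_
  rw [Units.val_mul, Units.val_mul, pair_val, smul_mul_assoc, mul_smul_comm, mul_assoc, h1, mul_neg, ← mul_assoc, h2,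
    neg_mul, neg_neg, mul_assoc]

theorem pair_quadratic {v : GG} (h : Two R x y) (h' : Two R y v) (hxv : Sg 1 (x : MM) (v : MM)) :
    ((pair h h' : GG) : MM) * (pair h h' : GG) + ((pair h h' : GG) : MM) + 1 = 0 := by
  rw [pair_val]
  set U := (x : MM) - (y : MM) with hU
  set V := (y : MM) - (v : MM) with hV
  have hUU : U * U = (2 : F) • 1 := sub_mul_sub h
  have hVV : V * V = (2 : F) • 1 := sub_mul_sub h'
  have hsum : V * U = (-2 : F) • (1 : MM) - U * V := by
    rw [eq_sub_iff_add_eq, hU, hV]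
    simp only [sub_mul, mul_sub, ← Units.val_mul y y, h.sqy, Units.val_one, Sg.anti.mp h.anti, Sg.anti.mp h'.anti,
      Sg.anti.mp hxv]
    module
  clear_value U V
  rw [smul_mul_smul_comm, mul_assoc, ← mul_assoc V U V, hsum, sub_mul, mul_sub, smul_mul_assoc, one_mul,
    mul_smul_comm, mul_assoc U V V, hVV, mul_smul_comm, mul_one, mul_smul_comm, hUU, smul_smul]
  have h2 := h.two
  match_scalars <;> field_simp <;> norm_num

/-- The two-qubit phase element of commuting involutions. -/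
structure Com (R : Subgroup (GL ι F)) (A B : GL ι F) : Prop where
  two : (2 : F) ≠ 0
  memA : A ∈ R
  memB : B ∈ R
  sqA : A * A = 1
  sqB : B * B = 1
  comm : A * B = B * A

variable {A B : GL ι F}

/-- Its matrix. -/
def phaseMat (A B : GL ι F) : Matrix ι ι F :=
  (2 : F)⁻¹ • (1 + (A : Matrix ι ι F) + (B : Matrix ι ι F) - (A : Matrix ι ι F) * (B : Matrix ι ι F))

theorem phase_sq (h : Com R A B) : phaseMat A B * phaseMat A B = 1 := by
  have hA : (A : MM) * A = 1 := by rw [← Units.val_mul, h.sqA, Units.val_one]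
  have hB : (B : MM) * B = 1 := by rw [← Units.val_mul, h.sqB, Units.val_one]
  have hc : (B : MM) * A = (A : MM) * B := by rw [← Units.val_mul, ← Units.val_mul, h.comm]
  have hA' : ∀ X : MM, (A : MM) * ((A : MM) * X) = X := fun X => by rw [← mul_assoc, hA, one_mul]
  have hB' : ∀ X : MM, (B : MM) * ((B : MM) * X) = X := fun X => by rw [← mul_assoc, hB, one_mul]
  have hc' : ∀ X : MM, (B : MM) * ((A : MM) * X) = (A : MM) * ((B : MM) * X) := fun X => by
    rw [← mul_assoc, hc, mul_assoc]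
  rw [phaseMat, smul_mul_smul_comm]
  simp only [mul_add, mul_sub, add_mul, sub_mul, one_mul, mul_one, mul_assoc, hA, hB, hc, hA', hB', hc']
  have h2 := h.two
  match_scalars <;> field_simp <;> norm_num

/-- The phase element. -/
def phase (h : Com R A B) : GG := ⟨phaseMat A B, phaseMat A B, phase_sq h, phase_sq h⟩

theorem phase_mem [Fintype F] (hsig : Signed R) (hneg : (-1 : GG) ∈ R) (h : Com R A B) :
    phase h ∈ Cfsg.Geo.subgroupNormalizer R := mem_normalizer fun a ha => by
  obtain ⟨s, hs⟩ := hsig A h.memA a ha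
  obtain ⟨t, ht⟩ := hsig B h.memB a ha
  have hA : (A : MM) * A = 1 := by rw [← Units.val_mul, h.sqA, Units.val_one]
  have hB : (B : MM) * B = 1 := by rw [← Units.val_mul, h.sqB, Units.val_one]
  have hc : (B : MM) * A = (A : MM) * B := by rw [← Units.val_mul, ← Units.val_mul, h.comm]
  have hA' : ∀ X : MM, (A : MM) * ((A : MM) * X) = X := fun X => by rw [← mul_assoc, hA, one_mul]
  have hB' : ∀ X : MM, (B : MM) * ((B : MM) * X) = X := fun X => by rw [← mul_assoc, hB, one_mul]
  have hc' : ∀ X : MM, (B : MM) * ((A : MM) * X) = (A : MM) * ((B : MM) * X) := fun X => by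
    rw [← mul_assoc, hc, mul_assoc]
  have hu : ((phase h : GG) : MM) = phaseMat A B := rfl
  have move : ((phase h : GG) : MM) * (a : MM) = (a : MM) * ((2 : F)⁻¹ • (1 + eps (F := F) s • (A : MM) +
      eps (F := F) t • (B : MM) - (eps (F := F) s * eps t) • ((A : MM) * (B : MM)))) := by
    rw [hu, phaseMat, smul_mul_assoc, mul_smul_comm, Sg] at *
    congr 1
    simp only [add_mul, sub_mul, mul_add, mul_sub, one_mul, mul_one, mul_smul_comm, mul_assoc]
    rw [hs, ht, mul_smul_comm, ← mul_assoc (A : MM) (a : MM) (B : MM), hs, smul_mul_assoc, smul_smul, mul_assoc,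
      mul_comm (eps (F := F) t)]
  rcases zmod2_cases s with rfl | rfl <;> rcases zmod2_cases t with rfl | rfl
  · refine conj_mem hneg ha (Or.inl ?_)
    rw [move, hu, phaseMat, eps_zero]; simp
  · refine conj_mem hneg (b := a * A) (mul_mem ha h.memA) (Or.inl ?_)
    rw [move, hu, phaseMat, eps_zero, eps_one, Units.val_mul, mul_assoc (a : MM), mul_smul_comm]
    simp only [mul_add, mul_sub, mul_one, hA, hA', mul_smul_comm]
    module
  · refine conj_mem hneg (b := a * B) (mul_mem ha h.memB) (Or.inl ?_)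
    rw [move, hu, phaseMat, eps_zero, eps_one, Units.val_mul, mul_assoc (a : MM), mul_smul_comm]
    simp only [mul_add, mul_sub, mul_one, hB, hB', hc, hc', hB, mul_smul_comm]
    module
  · refine conj_mem hneg (b := a * (A * B)) (mul_mem ha (mul_mem h.memA h.memB)) (Or.inr ?_)
    rw [move, hu, phaseMat, eps_one, Units.val_mul, Units.val_mul, mul_assoc (a : MM), mul_smul_comm]
    simp only [mul_add, mul_sub, mul_one, mul_assoc, hA, hA', hB, hB', hc, hc', mul_smul_comm]
    module

/-! ### Characteristic polynomials of elements of prime order -/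

variable [Fintype F]

/-- The fixed dimension. -/
noncomputable def fixDim (A : MM) : ℕ := Module.finrank F (PrimeOrd.fix (Matrix.toLin' A))

theorem fixDim_le (A : MM) : fixDim A ≤ Fintype.card ι :=
  (Submodule.finrank_le _).trans (by rw [Module.finrank_fintype_fun_eq_card])

theorem fixDim_eq_card {A : MM} (h : fixDim A = Fintype.card ι) : A = 1 := by
  have hf : PrimeOrd.fix (Matrix.toLin' A) = ⊤ :=
    Submodule.eq_top_of_finrank_eq (h.trans (Module.finrank_fintype_fun_eq_card F).symm)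
  refine Matrix.toLin'.injective (LinearMap.ext fun v => ?_)
  have hv : v ∈ PrimeOrd.fix (Matrix.toLin' A) := hf ▸ Submodule.mem_top
  rw [PrimeOrd.mem_fix] at hv
  rw [hv, Matrix.toLin'_one, LinearMap.id_apply]

theorem sub_one_inj {A : MM} (h : fixDim A = 0) {X : MM} (hX : (A - 1) * X = 0) : X = 0 := by
  refine Matrix.toLin'.injective (LinearMap.ext fun v => ?_)
  have hf := Submodule.finrank_eq_zero.mp h
  have hv : Matrix.toLin' X v ∈ PrimeOrd.fix (Matrix.toLin' A) := by
    rw [PrimeOrd.mem_fix]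
    have h1 := congrArg (fun M => Matrix.toLin' M v) hX
    simp [Matrix.sub_mulVec, ← Matrix.mulVec_mulVec, sub_eq_zero] at h1
    simpa using h1
  rw [hf, Submodule.mem_bot] at hv
  rw [hv, map_zero, LinearMap.zero_apply]

theorem charpoly_split {r : ℕ} (hr : (r : F) ≠ 0) {A : MM} (hA : A ^ r = 1) {g : F[X]} (hg : g.Monic)
    (hgi : Irreducible g) (h0 : aeval A g * (A - 1) = 0) :
    ∃ k, A.charpoly = (X - Polynomial.C 1) ^ fixDim A * g ^ k ∧ fixDim A + g.natDegree * k = Fintype.card ι := by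
  classical
  set φ := Matrix.toLin' A with hφ
  have hφr : φ ^ r = 1 := by rw [hφ, ← Matrix.toLin'_pow, hA, Matrix.toLin'_one]; rfl
  have hc := PrimeOrd.isCompl_fix_mov hr hφr
  have h1 := PrimeOrd.inv_fix φ
  have h2 := PrimeOrd.inv_mov φ
  have hres : ∀ {W : Submodule F (ι → F)} (hW : PrimeOrd.Inv φ W) (f : F[X]) (w : W),
      ((aeval (PrimeOrd.res φ hW) f w : W) : ι → F) = aeval φ f w.1 := fun {W} hW f w => by
    induction f using Polynomial.induction_on' with
    | add p q hp hq => simp [hp, hq]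
    | monomial n c =>
      simp only [Polynomial.aeval_monomial, Algebra.algebraMap_eq_smul_one, smul_mul_assoc, one_mul,
        LinearMap.smul_apply, Submodule.coe_smul, PrimeOrd.res_pow]
  obtain ⟨k₁, hk₁, hd₁⟩ := SpIso.chi_pow (PrimeOrd.res φ h1) (monic_X_sub_C 1) (irreducible_X_sub_C 1)
    (LinearMap.ext fun w => Subtype.ext (by
      rw [hres, map_sub, aeval_X, aeval_C, map_one, LinearMap.sub_apply, Module.End.one_apply,
        PrimeOrd.mem_fix.mp w.2, sub_self]
      rfl))
  obtain ⟨k₂, hk₂, hd₂⟩ := SpIso.chi_pow (PrimeOrd.res φ h2) hg hgi (LinearMap.ext fun w => Subtype.ext (by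
    obtain ⟨v, hv⟩ := w.2
    have e1 : aeval φ g = Matrix.toLin' (aeval A g) :=
      Polynomial.aeval_algHom_apply (Matrix.toLinAlgEquiv' (R := F) (n := ι)) A g
    rw [hres, ← hv, e1,
      show φ - 1 = Matrix.toLin' (A - 1) by rw [map_sub, Matrix.toLin'_one]; rfl, ← LinearMap.comp_apply,
      ← Matrix.toLin'_mul, h0, map_zero]
    rfl))
  rw [natDegree_X_sub_C, one_mul] at hd₁
  refine ⟨k₂, ?_, ?_⟩
  · rw [← Matrix.charpoly_toLin', ← hφ, SemisimpleSimilar.charpoly_eq_of_isCompl φ h1 h2 hc, hk₁, hk₂, ← hd₁]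
    rfl
  · rw [← hd₂, fixDim, ← hφ, Submodule.finrank_add_eq_of_isCompl hc, Module.finrank_fintype_fun_eq_card]

/-- Equal fixed dimensions give similarity. -/
theorem similar_of_fixDim {r : ℕ} (hr : (r : F) ≠ 0) {A B : MM} (hA : A ^ r = 1) (hB : B ^ r = 1) {g : F[X]}
    (hg : g.Monic) (hgi : Irreducible g) (hA0 : aeval A g * (A - 1) = 0) (hB0 : aeval B g * (B - 1) = 0)
    (hf : fixDim A = fixDim B) : ∃ P : GG, (P : MM) * A = B * (P : MM) := by
  classical
  obtain ⟨k, hk, hd⟩ := charpoly_split hr hA hg hgi hA0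
  obtain ⟨k', hk', hd'⟩ := charpoly_split hr hB hg hgi hB0
  have hkk : k = k' := Nat.eq_of_mul_eq_mul_left hgi.natDegree_pos (by omega)
  have hs : ∀ C : MM, C ^ r = 1 → Module.End.IsSemisimple (Matrix.toLin' C) := fun C hC =>
    PrimeOrd.semisimple hr one_ne_zero (by rw [← Matrix.toLin'_pow, hC, Matrix.toLin'_one, one_smul]; rfl)
  obtain ⟨e, he⟩ := SemisimpleSimilar.similar (F := F) _ (ι → F) (ι → F) (Matrix.toLin' A) (Matrix.toLin' B) (hs A hA)
    (hs B hB) (by rw [Matrix.charpoly_toLin', Matrix.charpoly_toLin', hk, hk', hf, hkk]) rfl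
  refine ⟨⟨LinearMap.toMatrix' (e : (ι → F) →ₗ[F] ι → F), LinearMap.toMatrix' (e.symm : (ι → F) →ₗ[F] ι → F), ?_, ?_⟩, ?_⟩
  · rw [← LinearMap.toMatrix'_comp, show (e : (ι → F) →ₗ[F] ι → F) ∘ₗ (e.symm : (ι → F) →ₗ[F] ι → F) = LinearMap.id from
      LinearMap.ext fun v => e.apply_symm_apply v, LinearMap.toMatrix'_id]
  · rw [← LinearMap.toMatrix'_comp, show (e.symm : (ι → F) →ₗ[F] ι → F) ∘ₗ (e : (ι → F) →ₗ[F] ι → F) = LinearMap.id from
      LinearMap.ext fun v => e.symm_apply_apply v, LinearMap.toMatrix'_id]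
  · show LinearMap.toMatrix' (e : (ι → F) →ₗ[F] ι → F) * A = B * LinearMap.toMatrix' (e : (ι → F) →ₗ[F] ι → F)
    refine Matrix.toLin'.injective ?_
    rw [Matrix.toLin'_mul, Matrix.toLin'_mul, Matrix.toLin'_toMatrix']
    exact LinearMap.ext he

theorem charpoly_of_conj {A B : MM} {P : GG} (h : (P : MM) * A = B * (P : MM)) (c : F) :
    (c • A).charpoly = (c • B).charpoly := by
  have e : B = (P : MM) * A * ((P⁻¹ : GG) : MM) := by
    rw [h, mul_assoc, ← Units.val_mul, mul_inv_cancel, Units.val_one, mul_one]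
  rw [e, ← smul_mul_assoc, ← mul_smul_comm, Matrix.coe_units_inv, Matrix.charpoly_units_conj]

theorem trace_eq_fixDim {r : ℕ} (hr : (r : F) ≠ 0) {A : MM} (hA : A ^ r = 1) {g : F[X]} (hg : g.Monic)
    (hgi : Irreducible g) (h0 : aeval A g * (A - 1) = 0) :
    ∃ k : ℕ, A.trace = (fixDim A : F) - (k : F) * g.nextCoeff ∧ fixDim A + g.natDegree * k = Fintype.card ι := by
  obtain ⟨k, hk, hd⟩ := charpoly_split hr hA hg hgi h0
  refine ⟨k, ?_, hd⟩
  rw [Matrix.trace_eq_neg_charpoly_nextCoeff, hk, ((monic_X_sub_C 1).pow _).nextCoeff_mul (hg.pow _),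
    (monic_X_sub_C 1).nextCoeff_pow, hg.nextCoeff_pow, nextCoeff_X_sub_C]
  simp only [nsmul_eq_mul]
  ring

/-- Involutions. -/
theorem invol_aeval (h2 : (2 : F) ≠ 0) {A : MM} (hA : A ^ 2 = 1) :
    (X - Polynomial.C (-1 : F)).Monic ∧ Irreducible (X - Polynomial.C (-1 : F)) ∧
      aeval A (X - Polynomial.C (-1 : F)) * (A - 1) = 0 := by
  refine ⟨monic_X_sub_C _, irreducible_X_sub_C _, ?_⟩
  rw [map_sub, aeval_X, aeval_C, Algebra.algebraMap_eq_smul_one, neg_one_smul, sub_neg_eq_add, add_mul, mul_sub,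
    mul_one, one_mul, ← _root_.sq, hA]
  abel

theorem invol_trace (h2 : (2 : F) ≠ 0) {A : MM} (hA : A ^ 2 = 1) :
    A.trace = 2 * (fixDim A : F) - (Fintype.card ι : F) := by
  obtain ⟨h1, h3, h4⟩ := invol_aeval h2 hA
  obtain ⟨k, hk, hd⟩ := trace_eq_fixDim (r := 2) (by exact_mod_cast h2) hA h1 h3 h4
  rw [natDegree_X_sub_C, one_mul] at hd
  rw [hk, nextCoeff_X_sub_C, ← hd, Nat.cast_add]
  ring

theorem invol_conj (h2 : (2 : F) ≠ 0) {A B : MM} (hA : A ^ 2 = 1) (hB : B ^ 2 = 1) (hf : fixDim A = fixDim B) (c : F) :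
    (c • A).charpoly = (c • B).charpoly := by
  obtain ⟨h1, h3, h4⟩ := invol_aeval h2 hA
  obtain ⟨P, hP⟩ := similar_of_fixDim (r := 2) (by exact_mod_cast h2) hA hB h1 h3 h4 (invol_aeval h2 hB).2.2 hf
  exact charpoly_of_conj hP c

theorem cyclotomic_data {p : ℕ} [Fact p.Prime] [CharP F p] {r : ℕ} [Fact r.Prime] (hrp : r ≠ p)
    (hi : orderOf (Fintype.card F : ZMod r) = r - 1) {A : MM} (hA : A ^ r = 1) :
    (cyclotomic r F).Monic ∧ Irreducible (cyclotomic r F) ∧ aeval A (cyclotomic r F) * (A - 1) = 0 := by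
  classical
  have hrP : r.Prime := Fact.out
  refine ⟨cyclotomic.monic r F, ?_, ?_⟩
  · have hc := PrimeOrderPoly.card_factorSet (F := F) (p := p) (r := r) hrp
    rw [hi] at hc
    obtain ⟨g, hg⟩ : ∃ g, g ∈ PrimeOrderPoly.factorSet F r := Finset.card_pos.mp (by
      rcases Nat.eq_zero_or_pos (PrimeOrderPoly.factorSet F r).card with h | h
      · rw [h, zero_mul] at hc; have := hrP.two_le; omega
      · exact h)
    obtain ⟨hgm, hgi, hgd⟩ := PrimeOrderPoly.mem_factorSet g hg
    have hd := PrimeOrderPoly.natDegree_factorSet hrp g hg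
    rw [eq_of_monic_of_dvd_of_natDegree_le hgm (cyclotomic.monic r F) hgd
      (by rw [natDegree_cyclotomic, Nat.totient_prime hrP, hd, hi])]
    exact hgi
  · have e : aeval A (cyclotomic r F * (X - 1)) = 0 := by
      rw [cyclotomic_prime_mul_X_sub_one, map_sub, map_pow, aeval_X, map_one, hA, sub_self]
    rwa [map_mul, map_sub, aeval_X, map_one] at e

theorem prime_conj {p : ℕ} [Fact p.Prime] [CharP F p] {r : ℕ} [Fact r.Prime] (hrp : r ≠ p)
    (hi : orderOf (Fintype.card F : ZMod r) = r - 1) {A B : MM} (hA : A ^ r = 1) (hB : B ^ r = 1)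
    (hf : fixDim A = fixDim B) : A.charpoly = B.charpoly := by
  obtain ⟨h1, h3, h4⟩ := cyclotomic_data hrp hi hA
  obtain ⟨P, hP⟩ := similar_of_fixDim (PrimeOrderPoly.cast_prime_ne_zero Fact.out hrp) hA hB h1 h3 h4
    (cyclotomic_data hrp hi hB).2.2 hf
  have h := charpoly_of_conj hP 1
  rwa [one_smul, one_smul] at h

theorem prime_fix {p : ℕ} [Fact p.Prime] [CharP F p] {r : ℕ} [Fact r.Prime] (hrp : r ≠ p)
    (hi : orderOf (Fintype.card F : ZMod r) = r - 1) {A : MM} (hA : A ^ r = 1) :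
    ∃ k, fixDim A + (r - 1) * k = Fintype.card ι := by
  obtain ⟨h1, h3, h4⟩ := cyclotomic_data hrp hi hA
  obtain ⟨k, -, hd⟩ := charpoly_split (PrimeOrderPoly.cast_prime_ne_zero Fact.out hrp) hA h1 h3 h4
  rw [natDegree_cyclotomic, Nat.totient_prime Fact.out] at hd
  exact ⟨k, hd⟩

end Cfsg.Lib.Classical.TwoSix
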