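import Mathlib
import Cfsg.Agent.Classical.Misc.TwoSix.Elements

/-! The normalising elements attached to a frame. -/

set_option autoImplicit false
set_option linter.unusedSimpArgs false
set_option linter.unusedSectionVars false
set_option linter.unusedVariables false
set_option linter.style.haveILetI false
set_option linter.flexible false

namespace Cfsg.Lib.Classical.TwoSix

open Matrix Polynomial Cfsg.Lib.Classical
open scoped MatrixGroups

universe u

variable {F : Type u} [Field F] [Fintype F] {ι : Type} [Fintype ι] [DecidableEq ι]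

local notation "GG" => GL ι F
local notation "MM" => Matrix ι ι F

theorem cast_small {p : ℕ} [Fact p.Prime] [CharP F p] {a b : ℕ} (h : (a : F) = (b : F)) (ha : a ≤ 4) (hb : b ≤ 4)
    (hp : 5 ≤ p) : a = b := by
  rw [CharP.natCast_eq_natCast F p] at h
  exact Nat.ModEq.eq_of_lt_of_lt h (by omega) (by omega)

theorem det_refl_sq {R : Subgroup (GL ι F)} {x y : GL ι F} (h4 : Fintype.card ι = 4) (h : Two R x y) :
    ((x : MM) - (y : MM)).det * ((x : MM) - (y : MM)).det = 16 := by
  rw [← Matrix.det_mul, sub_mul_sub h, Matrix.det_smul, Matrix.det_one, mul_one, h4]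
  norm_num

theorem det_pair_sq {R : Subgroup (GL ι F)} {x y z w : GL ι F} (h4 : Fintype.card ι = 4) (h : Two R x y)
    (h' : Two R z w) : ((pair h h' : GG) : MM).det ^ 2 = 1 := by
  rw [pair_val, Matrix.det_smul, Matrix.det_mul, h4]
  have a := det_refl_sq h4 h
  have b := det_refl_sq h4 h'
  have e : (((2 : F)⁻¹) ^ 4 * (((x : MM) - (y : MM)).det * ((z : MM) - (w : MM)).det)) ^ 2 =
      ((2 : F)⁻¹) ^ 8 * ((((x : MM) - (y : MM)).det * ((x : MM) - (y : MM)).det) *
        (((z : MM) - (w : MM)).det * ((z : MM) - (w : MM)).det)) := by ring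
  rw [e, a, b]
  have h2 := h.two
  field_simp
  norm_num

variable {R : Subgroup (GL ι F)} {g : Fin 4 → GL ι F}

namespace Frame

theorem neg_one_mem (S : Frame R g) : (-1 : GG) ∈ R := by
  have h := Sg.anti.mp (S.anti 0 1 (by decide))
  have e : (g 0 * g 1) * (g 0 * g 1) = -1 := by
    refine Units.ext ?_
    rw [Units.val_mul, Units.val_mul, Units.val_neg, Units.val_one, mul_assoc, ← mul_assoc (g 1 : MM),
      Sg.anti.mp (S.anti 1 0 (by decide)), neg_mul, mul_assoc (g 0 : MM) (g 1 : MM), ← Units.val_mul (g 1), S.sq,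
      Units.val_one, mul_one, mul_neg, ← Units.val_mul, S.sq, Units.val_one]
  rw [← e]
  exact mul_mem (mul_mem (S.mem 0) (S.mem 1)) (mul_mem (S.mem 0) (S.mem 1))

theorem two' (S : Frame R g) {j k : Fin 4} (h : j ≠ k) : Two R (g j) (g k) :=
  ⟨S.two, S.mem j, S.mem k, S.sq j, S.sq k, S.anti j k h⟩

theorem bil_unit : ∀ j k : Fin 4, bil (unitVec j) (unitVec k) = if j = k then 0 else 1 := by decide +kernel

theorem mul4_sq (S : Frame R g) : (g 0 * g 1 * g 2 * g 3) * (g 0 * g 1 * g 2 * g 3) = 1 := by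
  refine Units.ext ?_
  simp only [Units.val_mul, Units.val_one]
  have h : ∀ j k : Fin 4, j ≠ k → (g j : MM) * (g k : MM) = -((g k : MM) * (g j : MM)) := fun j k hjk =>
    Sg.anti.mp (S.anti j k hjk)
  have hs : ∀ k, (g k : MM) * (g k : MM) = 1 := fun k => by rw [← Units.val_mul, S.sq, Units.val_one]
  have hs' : ∀ k (X : MM), (g k : MM) * ((g k : MM) * X) = X := fun k X => by rw [← mul_assoc, hs, one_mul]
  have h' : ∀ j k : Fin 4, j ≠ k → ∀ X : MM, (g j : MM) * ((g k : MM) * X) = -((g k : MM) * ((g j : MM) * X)) :=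
    fun j k hjk X => by rw [← mul_assoc, h j k hjk, neg_mul, mul_assoc]
  simp only [mul_assoc]
  rw [h' 3 0 (by decide), h' 3 1 (by decide), h' 3 2 (by decide)]
  simp only [mul_neg, neg_neg, hs]
  rw [h' 2 0 (by decide), h' 2 1 (by decide)]
  simp only [mul_neg, neg_neg, hs', hs, mul_one]
  rw [h' 1 0 (by decide)]
  simp only [mul_neg, neg_neg, hs', hs]

/-- The fifth involution. -/
theorem five_two (S : Frame R g) (k : Fin 4) :
    Two R (g k) (g 0 * g 1 * g 2 * g 3) ∧ Two R (g 0 * g 1 * g 2 * g 3) (g k) := by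
  have hm : g 0 * g 1 * g 2 * g 3 ∈ R := mul_mem (mul_mem (mul_mem (S.mem 0) (S.mem 1)) (S.mem 2)) (S.mem 3)
  have hb : ∀ j, bil (unitVec 0) (unitVec j) + bil (unitVec 1) (unitVec j) + bil (unitVec 2) (unitVec j) +
      bil (unitVec 3) (unitVec j) = 1 := by decide +kernel
  have hs : ∀ i j, Sg (bil (unitVec i) (unitVec j)) (g i : MM) (g j : MM) := fun i j => by
    rw [bil_unit]
    split_ifs with h
    · subst h; exact Sg.refl _
    · exact S.anti i j h
  have h5 : Sg 1 ((g 0 * g 1 * g 2 * g 3 : GG) : MM) (g k : MM) := by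
    rw [← hb k, Units.val_mul, Units.val_mul, Units.val_mul]
    exact (((hs 0 k).mul_left (hs 1 k)).mul_left (hs 2 k)).mul_left (hs 3 k)
  exact ⟨⟨S.two, S.mem k, hm, S.sq k, S.mul4_sq, h5.symm⟩, ⟨S.two, hm, S.mem k, S.mul4_sq, S.sq k, h5⟩⟩

/-- An element of order five. -/
theorem exists_five (S : Frame R g) (I : Subgroup GG)
    (hI : ∀ {x y z w : GG} (h : Two R x y) (h' : Two R z w), pair h h' ∈ I) :
    ∃ y ∈ I, y ∈ Cfsg.Geo.subgroupNormalizer R ∧ y ^ 5 = 1 ∧ ∀ c : F, (y : MM) ≠ c • 1 := by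
  haveI := S.nonempty
  set g4 := g 0 * g 1 * g 2 * g 3 with hg4
  have a01 := S.two' (j := 0) (k := 1) (by decide)
  have a12 := S.two' (j := 1) (k := 2) (by decide)
  have a23 := S.two' (j := 2) (k := 3) (by decide)
  have a34 := (S.five_two 3).1
  set h := pair a01 a12 * pair a23 a34 with hh
  have fx : ∀ {i j : Fin 4} (t : Two R (g i) (g j)) (k : Fin 4), i ≠ k → j ≠ k →
      ((g i : MM) - (g j : MM)) * (g k : MM) = -((g k : MM) * ((g i : MM) - (g j : MM))) := fun t k h1 h2 =>
    refl_fix t (Sg.anti.mp (S.anti _ _ h1)) (Sg.anti.mp (S.anti _ _ h2))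
  have fx4 : ∀ k : Fin 4, k ≠ 3 → ((g 3 : MM) - (g4 : MM)) * (g k : MM) = -((g k : MM) * ((g 3 : MM) - (g4 : MM))) :=
    fun k hk => refl_fix a34 (Sg.anti.mp (S.anti _ _ hk.symm)) (Sg.anti.mp (S.five_two k).2.anti)
  have fxg : ∀ {i j : Fin 4} (t : Two R (g i) (g j)),
      ((g i : MM) - (g j : MM)) * (g4 : MM) = -((g4 : MM) * ((g i : MM) - (g j : MM))) := fun {i j} t =>
    refl_fix t (Sg.anti.mp (S.five_two i).1.anti) (Sg.anti.mp (S.five_two j).1.anti)
  have hc : ∀ {a b c : GG}, pair a23 a34 * a = b * pair a23 a34 → pair a01 a12 * b = c * pair a01 a12 →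
      h * a = c * h := fun e1 e2 => by rw [hh, mul_assoc, e1, ← mul_assoc, e2, mul_assoc]
  have c0 : h * g 0 = g 1 * h := hc (pair_act a23 a34 (fx4 0 (by decide)) (fx a23 0 (by decide) (by decide)))
    (pair_act a01 a12 (fx a12 0 (by decide) (by decide)) (refl_left a01))
  have c1 : h * g 1 = g 2 * h := hc (pair_act a23 a34 (fx4 1 (by decide)) (fx a23 1 (by decide) (by decide)))
    (pair_act a01 a12 (refl_left a12) (fx a01 2 (by decide) (by decide)))
  have c2 : h * g 2 = g 3 * h := hc (pair_act a23 a34 (fx4 2 (by decide)) (refl_left a23))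
    (pair_act a01 a12 (fx a12 3 (by decide) (by decide)) (fx a01 3 (by decide) (by decide)))
  have c3 : h * g 3 = g4 * h := hc (pair_act a23 a34 (refl_left a34) (fxg a23))
    (pair_act a01 a12 (fxg a12) (fxg a01))
  have c4 : h * g4 = g 0 * h := hc (pair_act a23 a34 (refl_right a34) (refl_right a23))
    (pair_act a01 a12 (refl_right a12) (refl_right a01))
  have s0 : SemiconjBy h (g 0) (g 1) := c0
  have s1 : SemiconjBy h (g 1) (g 2) := c1
  have s2 : SemiconjBy h (g 2) (g 3) := c2
  have s3 : SemiconjBy h (g 3) g4 := c3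
  have s4 : SemiconjBy h g4 (g 0) := c4
  have hcomm : ∀ k, (h * h * h * h * h) * g k = g k * (h * h * h * h * h) := fun k => by
    fin_cases k
    · exact (((s4.mul_left s3).mul_left s2).mul_left s1).mul_left s0
    · exact (((s0.mul_left s4).mul_left s3).mul_left s2).mul_left s1
    · exact (((s1.mul_left s0).mul_left s4).mul_left s3).mul_left s2
    · exact (((s2.mul_left s1).mul_left s0).mul_left s4).mul_left s3
  have h5 : h ^ 5 = h * h * h * h * h := by simp only [pow_succ, pow_zero, one_mul]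
  obtain ⟨s, hs⟩ := S.scalar_of_commute (M := ((h ^ 5 : GG) : MM)) fun k => by
    rw [← Units.val_mul, h5, hcomm k, Units.val_mul]
  have hd : (h : MM).det ^ 2 = 1 := by
    rw [hh, Units.val_mul, Matrix.det_mul, mul_pow, det_pair_sq S.card_eq, det_pair_sq S.card_eq, one_mul]
  have hs8 : s ^ 8 = 1 := by
    have e := congrArg Matrix.det hs
    rw [Units.val_pow_eq_pow_val, Matrix.det_pow, Matrix.det_smul, Matrix.det_one, mul_one, S.card_eq] at e
    have e2 : (s ^ 4) ^ 2 = ((h : MM).det ^ 2) ^ 5 := by rw [← e]; ring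
    rw [hd, one_pow, ← pow_mul] at e2
    exact e2
  refine ⟨(h ^ 5) ^ 3 * h, mul_mem (pow_mem (pow_mem (mul_mem (hI _ _) (hI _ _)) _) _) (mul_mem (hI _ _) (hI _ _)),
    ?_, ?_, fun c hc' => ?_⟩
  · have hn : h ∈ Cfsg.Geo.subgroupNormalizer R :=
      mul_mem (pair_mem S.signed S.neg_one_mem _ _) (pair_mem S.signed S.neg_one_mem _ _)
    exact mul_mem (pow_mem (pow_mem hn _) _) hn
  · refine Units.ext ?_
    have e : ((h ^ 5) ^ 3 * h) ^ 5 = (h ^ 5) ^ 16 := by rw [← pow_mul, ← pow_succ, ← pow_mul, ← pow_mul]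
    rw [e, Units.val_pow_eq_pow_val, hs, _root_.smul_pow, one_pow, show s ^ 16 = (s ^ 8) ^ 2 by ring, hs8, one_pow, one_smul,
      Units.val_one]
  · set y := (h ^ 5) ^ 3 * h with hy
    have e1 : y * g 0 = g 1 * y := by
      have hsc : Commute ((h ^ 5) ^ 3) (g 1) := (scalar_commute hs (g 1)).pow_left 3
      rw [hy, mul_assoc, c0, ← mul_assoc, hsc.eq, mul_assoc]
    rw [(scalar_commute hc' (g 0)).eq] at e1
    have e2 : g 0 = g 1 := mul_right_cancel e1
    have h3 := Sg.anti.mp (S.anti 0 1 (by decide))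
    rw [← e2, ← Units.val_mul, S.sq, Units.val_one] at h3
    have h4 := congrArg Matrix.trace h3
    rw [Matrix.trace_neg, S.trace_one'] at h4
    exact S.four ((mul_eq_zero.mp (show (2 : F) * 4 = 0 by linear_combination h4)).resolve_left S.two)

theorem quad_pow {A : MM} (h : A * A + A + 1 = 0) : A ^ 3 = 1 := by
  have e : A ^ 3 - 1 = (A - 1) * (A * A + A + 1) := by noncomm_ring
  rw [h, mul_zero, sub_eq_zero] at e
  exact e

theorem fpf_quad (h3 : (3 : F) ≠ 0) {A : MM} (h : A * A + A + 1 = 0) : fixDim A = 0 := by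
  rw [fixDim, Submodule.finrank_eq_zero, Submodule.eq_bot_iff]
  intro v hv
  rw [PrimeOrd.mem_fix, Matrix.toLin'_apply] at hv
  have e := congrArg (fun M => M *ᵥ v) h
  simp only [Matrix.add_mulVec, ← Matrix.mulVec_mulVec, hv, Matrix.one_mulVec, Matrix.zero_mulVec] at e
  exact (smul_eq_zero.mp (show (3 : F) • v = 0 by rw [← e]; module)).resolve_left h3

/-- An element of order three without fixed vectors. -/
theorem exists_three (S : Frame R g) (h3 : (3 : F) ≠ 0) (I : Subgroup GG)
    (hI : ∀ {x y z w : GG} (h : Two R x y) (h' : Two R z w), pair h h' ∈ I) :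
    ∃ y ∈ I, y ∈ Cfsg.Geo.subgroupNormalizer R ∧ y ^ 3 = 1 ∧ fixDim (y : MM) = 0 := by
  have a01 := S.two' (j := 0) (k := 1) (by decide)
  have a12 := S.two' (j := 1) (k := 2) (by decide)
  have hq := pair_quadratic a01 a12 (S.anti 0 2 (by decide))
  exact ⟨pair a01 a12, hI _ _, pair_mem S.signed S.neg_one_mem _ _,
    Units.ext (by rw [Units.val_pow_eq_pow_val, Units.val_one]; exact quad_pow hq), fpf_quad h3 hq⟩

/-- An element of order three with a fixed plane, when `√-1` lies in the group. -/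
theorem exists_three' (S : Frame R g) (h3 : (3 : F) ≠ 0) {ic : GG} {i : F} (hiR : ic ∈ R) (hic : (ic : MM) = i • 1)
    (hi : i * i = -1) (I : Subgroup GG)
    (hI : ∀ {x y z w : GG} (h : Two R x y) (h' : Two R z w), pair h h' ∈ I) :
    ∃ y ∈ I, y ∈ Cfsg.Geo.subgroupNormalizer R ∧ y ^ 3 = 1 ∧ fixDim (y : MM) ≠ 0 ∧ y ≠ 1 := by
  haveI := S.nonempty
  have a01 := S.two' (j := 0) (k := 1) (by decide)
  have a12 := S.two' (j := 1) (k := 2) (by decide)
  have hq := pair_quadratic a01 a12 (S.anti 0 2 (by decide))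
  set ρ := pair a01 a12 with hρ
  set b0 : Idx := ![1, 1, 0, 1]
  set b1 : Idx := ![0, 0, 1, 1]
  have hsq : ∀ b : Idx, (word g b : MM) * (word g b : MM) = -1 → (ic * word g b) * (ic * word g b) = 1 := fun b hb => by
    refine Units.ext ?_
    rw [Units.val_mul, Units.val_mul, hic, smul_mul_assoc, one_mul, smul_mul_smul_comm, hb, hi, neg_one_smul, neg_neg,
      Units.val_one]
  have hw0 : (word g b0 : MM) * (word g b0 : MM) = -1 := by
    have e : word g b0 = g 0 * g 1 * g 3 := by simp [word, letter, b0]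
    have h : ∀ j k : Fin 4, j ≠ k → ∀ X : MM, (g j : MM) * ((g k : MM) * X) = -((g k : MM) * ((g j : MM) * X)) :=
      fun j k hjk X => by rw [← mul_assoc, Sg.anti.mp (S.anti j k hjk), neg_mul, mul_assoc]
    have hs : ∀ k, (g k : MM) * (g k : MM) = 1 := fun k => by rw [← Units.val_mul, S.sq, Units.val_one]
    have hs' : ∀ k (X : MM), (g k : MM) * ((g k : MM) * X) = X := fun k X => by rw [← mul_assoc, hs, one_mul]
    simp only [e, Units.val_mul, mul_assoc]
    rw [h 3 0 (by decide), h 3 1 (by decide)]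
    simp only [mul_neg, neg_neg, hs]
    rw [h 1 0 (by decide)]
    simp only [mul_neg, neg_neg, hs', hs, mul_one]
  have hw1 : (word g b1 : MM) * (word g b1 : MM) = -1 := by
    have e : word g b1 = g 2 * g 3 := by simp [word, letter, b1]
    rw [e, Units.val_mul, mul_assoc, ← mul_assoc (g 3 : MM), Sg.anti.mp (S.anti 3 2 (by decide)), neg_mul,
      mul_assoc (g 2 : MM) (g 3 : MM), ← Units.val_mul (g 3), S.sq, Units.val_one, mul_one, mul_neg, ← Units.val_mul,
      S.sq, Units.val_one]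
  have hsg : ∀ b f, Sg (bil b f) ((ic * word g b : GG) : MM) (word g f : MM) := fun b f => by
    rw [Units.val_mul, hic, smul_mul_assoc, one_mul]; exact (S.sg_word b f).smul_left i
  set x0 := ic * word g b0
  set x1 := ic * word g b1
  have hbb : bil b0 b1 = 1 ∧ bil b0 (unitVec 2) = 1 ∧ bil b1 (unitVec 2) = 1 := by decide +kernel
  have x01 : Two R x0 x1 := ⟨S.two, mul_mem hiR (S.word_mem _), mul_mem hiR (S.word_mem _), hsq _ hw0, hsq _ hw1, by
    rw [Units.val_mul (ic) (word g b1), hic, smul_mul_assoc, one_mul, ← hbb.1]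
    exact ((hsg b0 b1).symm.smul_left i).symm⟩
  have x12 : Two R x1 (g 2) := ⟨S.two, x01.memy, S.mem 2, x01.sqy, S.sq 2, by
    have := hsg b1 (unitVec 2); rwa [word_unit, hbb.2.2] at this⟩
  have x02 : Sg 1 (x0 : MM) (g 2 : MM) := by
    have := hsg b0 (unitVec 2); rwa [word_unit, hbb.2.1] at this
  have hq' := pair_quadratic x01 x12 x02
  set ρ' := pair x01 x12 with hρ'
  -- the products commute
  have hz : ∀ (A : MM) (t : Fin 4 → ZMod 2), (∀ k, Sg (t k) A (g k : MM)) →
      t 0 + t 1 = 0 → t 0 + t 2 = 0 → t 1 + t 2 = 0 → A * (ρ : MM) = (ρ : MM) * A := fun A t ht h01 h02 h12 => by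
    have e : ∀ j k, t j + t k = 0 → A * ((g j : MM) * (g k : MM)) = (g j : MM) * (g k : MM) * A := fun j k h => by
      have := (ht j).mul_right (ht k); rw [h, Sg.comm] at this; exact this
    rw [hρ, pair_val, mul_smul_comm, smul_mul_assoc]
    congr 1
    simp only [sub_mul, mul_sub, e 0 1 h01, e 0 2 h02, e 1 2 h12, ← Units.val_mul (g 1) (g 1), S.sq, Units.val_one,
      mul_one, one_mul]
  have htab : ∀ k, bil b0 (unitVec k) + bil b1 (unitVec k) = (if k = 3 then 1 else 0) ∧
      bil b0 (unitVec k) + bil (unitVec 2) (unitVec k) = (if k = 3 then 1 else 1) ∧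
      bil b1 (unitVec k) + bil (unitVec 2) (unitVec k) = (if k = 3 then 0 else 1) := by decide +kernel
  have h2k : ∀ k, Sg (bil (unitVec 2) (unitVec k)) (g 2 : MM) (g k : MM) := fun k => by
    have := S.sg_word (unitVec 2) (unitVec k); rwa [word_unit, word_unit] at this
  have hx : ∀ b k, Sg (bil b (unitVec k)) ((ic * word g b : GG) : MM) (g k : MM) := fun b k => by
    have := hsg b (unitVec k); rwa [word_unit] at this
  have c01 : (x0 : MM) * (x1 : MM) * (ρ : MM) = (ρ : MM) * ((x0 : MM) * (x1 : MM)) :=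
    hz _ (fun k => if k = 3 then 1 else 0) (fun k => (htab k).1 ▸ (hx b0 k).mul_left (hx b1 k)) (by decide) (by decide) (by decide)
  have c02 : (x0 : MM) * (g 2 : MM) * (ρ : MM) = (ρ : MM) * ((x0 : MM) * (g 2 : MM)) :=
    hz _ (fun k => if k = 3 then 1 else 1) (fun k => (htab k).2.1 ▸ (hx b0 k).mul_left (h2k k)) (by decide) (by decide) (by decide)
  have c12 : (x1 : MM) * (g 2 : MM) * (ρ : MM) = (ρ : MM) * ((x1 : MM) * (g 2 : MM)) :=
    hz _ (fun k => if k = 3 then 0 else 1) (fun k => (htab k).2.2 ▸ (hx b1 k).mul_left (h2k k)) (by decide) (by decide) (by decide)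
  have hcomm : (ρ' : MM) * (ρ : MM) = (ρ : MM) * (ρ' : MM) := by
    rw [hρ', pair_val, smul_mul_assoc, mul_smul_comm]
    congr 1
    simp only [sub_mul, mul_sub, c01, c02, c12, ← Units.val_mul x1 x1, x01.sqy, Units.val_one, one_mul, mul_one]
  have hρ3 : (ρ : MM) ^ 3 = 1 := quad_pow hq
  have hρ'3 : (ρ' : MM) ^ 3 = 1 := quad_pow hq'
  have hne : ∀ y : GG, y ^ 3 = 1 → (y = ρ * ρ' ∨ y = ρ * (ρ' * ρ')) → y ≠ 1 := by
    rintro y - hy rfl
    have e1 : ρ' * (x0 * x1) = (x1 * g 2) * ρ' := by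
      have a0 : ρ' * x0 = x1 * ρ' := by
        refine pair_act x01 x12 (b := x0) ?_ (refl_left x01)
        exact refl_fix x12 (Sg.anti.mp x01.anti.symm) (Sg.anti.mp x02.symm)
      have a1 : ρ' * x1 = g 2 * ρ' := by
        refine pair_act x01 x12 (refl_left x12) ?_
        exact refl_fix x01 (Sg.anti.mp x02) (Sg.anti.mp x12.anti)
      rw [← mul_assoc, a0, mul_assoc, a1, ← mul_assoc]
    have e2 : ρ' * (x0 * x1) = (x0 * x1) * ρ' := by
      have hcr : Commute ρ (x0 * x1) := Units.ext (by rw [Units.val_mul, Units.val_mul, Units.val_mul]; exact c01.symm)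
      rcases hy with hy | hy
      · rw [eq_inv_of_mul_eq_one_right hy.symm]; exact hcr.inv_left.eq
      · have e : ρ' * ρ' = ρ⁻¹ := eq_inv_of_mul_eq_one_right hy.symm
        have e' : ρ' = (ρ' * ρ') * (ρ' * ρ') := by
          have h : ρ' ^ 3 = 1 := Units.ext (by rw [Units.val_pow_eq_pow_val, hρ'3, Units.val_one])
          calc ρ' = ρ' ^ 3 * ρ' := by rw [h, one_mul]
            _ = _ := by simp only [pow_succ, pow_zero, one_mul, mul_assoc]
        rw [e', e]; exact (hcr.inv_left.mul_left hcr.inv_left).eq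
    have e3 : x0 * x1 = x1 * g 2 := mul_right_cancel (e2.symm.trans e1)
    have e4 := congrArg (fun a : GG => (x0 : MM) * (a : MM)) e3
    simp only [Units.val_mul, ← mul_assoc, ← Units.val_mul x0 x0, x01.sqx, Units.val_one, one_mul] at e4
    have e5 : Sg 0 (x1 : MM) (g 2 : MM) := by
      have h1 := (x02.mul_left x12.anti).mul_left (Sg.refl (g 2 : MM))
      rw [← e4] at h1
      simpa [show (1 : ZMod 2) + 1 = 0 from rfl] using h1
    exact zero_ne_one (Sg.unique S.two e5 x12.anti)
  have hfix : fixDim ((ρ * ρ' : GG) : MM) ≠ 0 ∨ fixDim ((ρ * (ρ' * ρ') : GG) : MM) ≠ 0 := by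
    by_contra hcon
    push Not at hcon
    set A := (ρ : MM) with hA
    set B := (ρ' : MM) with hB
    have hAB : Commute A B := hcomm.symm
    have fpf : ∀ C : MM, C ^ 3 = 1 → fixDim C = 0 → C * C + C + 1 = 0 := fun C hC hf => sub_one_inj hf (by
      have e : (C - 1) * (C * C + C + 1) = C ^ 3 - 1 := by noncomm_ring
      rw [e, hC, sub_self])
    have h1 := fpf (A * B) (by rw [hAB.mul_pow, hρ3, hρ'3, one_mul]) (by rw [← hcon.1, Units.val_mul])
    have h2 := fpf (A * (B * B)) (by rw [(hAB.mul_right hAB).mul_pow, hρ3, ← _root_.sq B, ← pow_mul, mul_comm 2 3, pow_mul,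
      hρ'3, one_pow, one_mul]) (by rw [← hcon.2, Units.val_mul, Units.val_mul])
    have hA2 : A * A = -A - 1 := eq_sub_of_add_eq (eq_neg_of_add_eq_zero_left (by rw [← hq]; abel))
    have hB2 : B * B = -B - 1 := eq_sub_of_add_eq (eq_neg_of_add_eq_zero_left (by rw [← hq']; abel))
    rw [show A * B * (A * B) = A * A * (B * B) by rw [mul_assoc, ← mul_assoc B A B, ← hAB.eq]; simp only [mul_assoc],
      hA2, hB2] at h1
    rw [hB2, show A * (-B - 1) * (A * (-B - 1)) = A * A * ((-B - 1) * (-B - 1)) by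
      rw [mul_assoc, ← mul_assoc (-B - 1) A, ← ((hAB.neg_right.sub_right (Commute.one_right A))).eq]; simp only [mul_assoc],
      hA2, show (-B - 1) * (-B - 1) = B * B + (2 : F) • B + 1 by noncomm_ring; module, hB2] at h2
    have h6 : (3 : F) • (1 : MM) = 0 := by
      have hs := congrArg₂ (· + ·) h1 h2
      simp only [mul_add, add_mul, sub_mul, mul_sub, neg_mul, mul_neg, one_mul, mul_one, mul_smul_comm, smul_mul_assoc,
        add_zero] at hs
      rw [← hs]; module
    exact h3 ((smul_eq_zero.mp h6).resolve_right one_ne_zero)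
  have hyI : ρ * ρ' ∈ I ∧ ρ * (ρ' * ρ') ∈ I := ⟨mul_mem (hI _ _) (hI _ _), mul_mem (hI _ _) (mul_mem (hI _ _) (hI _ _))⟩
  have hyN : ρ ∈ Cfsg.Geo.subgroupNormalizer R ∧ ρ' ∈ Cfsg.Geo.subgroupNormalizer R :=
    ⟨pair_mem S.signed S.neg_one_mem _ _, pair_mem S.signed S.neg_one_mem _ _⟩
  have hcg : Commute ρ ρ' := Units.ext (by rw [Units.val_mul, Units.val_mul]; exact hcomm.symm)
  have g3 : ρ ^ 3 = 1 ∧ ρ' ^ 3 = 1 := ⟨Units.ext (by rw [Units.val_pow_eq_pow_val, hρ3, Units.val_one]),
    Units.ext (by rw [Units.val_pow_eq_pow_val, hρ'3, Units.val_one])⟩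
  rcases hfix with h | h
  · have p3 : (ρ * ρ') ^ 3 = 1 := by rw [hcg.mul_pow, g3.1, g3.2, one_mul]
    exact ⟨_, hyI.1, mul_mem hyN.1 hyN.2, p3, h, hne _ p3 (Or.inl rfl)⟩
  · have p3 : (ρ * (ρ' * ρ')) ^ 3 = 1 := by
      rw [(hcg.mul_right hcg).mul_pow, (Commute.refl ρ').mul_pow, g3.1, g3.2, one_mul, one_mul]
    exact ⟨_, hyI.2, mul_mem hyN.1 (mul_mem hyN.2 hyN.2), p3, h, hne _ p3 (Or.inr rfl)⟩

theorem first_fix (S : Frame R g) : (g 0 : MM) ^ 2 = 1 ∧ fixDim (g 0 : MM) = 2 := by
  have hsq : (g 0 : MM) ^ 2 = 1 := by rw [_root_.sq, ← Units.val_mul, S.sq, Units.val_one]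
  refine ⟨hsq, ?_⟩
  have h := invol_trace S.two hsq
  have ht : (g 0 : MM).trace = 0 := by
    have := S.trace_word (e := unitVec 0) (by decide); rwa [word_unit] at this
  rw [ht, S.card_eq] at h
  have hf := fixDim_le (g 0 : MM)
  rw [S.card_eq] at hf
  set f := fixDim (g 0 : MM)
  have h2 := S.two
  interval_cases f <;> norm_num at h ⊢ <;>
    first
    | exact h2 (by linear_combination h)
    | exact h2 (by linear_combination -h)
    | exact S.four (by linear_combination h)
    | exact S.four (by linear_combination -h)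

/-- The phase involution. -/
theorem exists_phase (S : Frame R g) {ic : GG} {i : F} (hiR : ic ∈ R) (hic : (ic : MM) = i • 1) (hi : i * i = -1) :
    ∃ (A B : GG) (h : Com R A B), (phase h : GG) ∈ Cfsg.Geo.subgroupNormalizer R ∧
      ((phase h : GG) : MM) ^ 2 = 1 ∧ fixDim ((phase h : GG) : MM) = 3 := by
  haveI := S.nonempty
  set B := ic * (g 1 * g 2) with hB
  have hBM : (B : MM) = i • ((g 1 : MM) * (g 2 : MM)) := by rw [hB, Units.val_mul, hic, smul_mul_assoc, one_mul, Units.val_mul]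
  have h12 := Sg.anti.mp (S.anti 2 1 (by decide))
  have h : Com R (g 0) B := ⟨S.two, S.mem 0, mul_mem hiR (mul_mem (S.mem 1) (S.mem 2)), S.sq 0, Units.ext (by
      rw [Units.val_mul, hBM, smul_mul_smul_comm, hi, mul_assoc, ← mul_assoc (g 2 : MM), h12, neg_mul,
        mul_assoc (g 1 : MM) (g 2 : MM), ← Units.val_mul (g 2), S.sq, Units.val_one, mul_one, mul_neg, ← Units.val_mul,
        S.sq, Units.val_one, neg_one_smul, neg_neg]),
    Units.ext (by
      show (g 0 : MM) * (B : MM) = (B : MM) * (g 0 : MM)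
      rw [hBM]
      exact Sg.comm.mp (((((S.anti 1 0 (by decide)).mul_left (S.anti 2 0 (by decide))).smul_left i).symm : Sg _ _ _)))⟩
  have hsq : ((phase h : GG) : MM) ^ 2 = 1 := by rw [_root_.sq]; exact phase_sq h
  refine ⟨g 0, B, h, phase_mem S.signed S.neg_one_mem h, hsq, ?_⟩
  have t0 : ∀ e : Idx, e ≠ 0 → ∀ c : F, (c • (word g e : MM)).trace = 0 := fun e he c => by
    rw [Matrix.trace_smul, S.trace_word he, smul_zero]
  have tA : (g 0 : MM).trace = 0 := by have := S.trace_word (e := unitVec 0) (by decide); rwa [word_unit] at this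
  have tB : (B : MM).trace = 0 := by
    have := t0 ![0, 1, 1, 0] (by decide) i
    rw [show word g ![0, 1, 1, 0] = g 1 * g 2 by simp [word, letter], Units.val_mul, ← hBM] at this
    exact this
  have tAB : ((g 0 : MM) * (B : MM)).trace = 0 := by
    have := t0 ![1, 1, 1, 0] (by decide) i
    rw [show word g ![1, 1, 1, 0] = g 0 * (g 1 * g 2) by simp [word, letter, mul_assoc], Units.val_mul, Units.val_mul,
      ← mul_smul_comm, ← hBM] at this
    exact this
  have hW : ((phase h : GG) : MM) = phaseMat (g 0) B := rfl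
  have ht : ((phase h : GG) : MM).trace = 2 := by
    rw [hW, phaseMat, Matrix.trace_smul, Matrix.trace_sub, Matrix.trace_add, Matrix.trace_add, S.trace_one', tA, tB, tAB,
      smul_eq_mul]
    have := S.two
    field_simp
    norm_num
  have hh := invol_trace S.two hsq
  rw [ht, S.card_eq] at hh
  have hf := fixDim_le ((phase h : GG) : MM)
  rw [S.card_eq] at hf
  set W := ((phase h : GG) : MM) with hWdef
  set f := fixDim W with hfdef
  have h2 := S.two
  interval_cases f
  · exfalso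
    have hWm : W + 1 = 0 := sub_one_inj hfdef.symm (by
      rw [sub_mul, mul_add, mul_one, one_mul, ← _root_.sq, hsq]; abel)
    have e := congrArg (fun X => ((g 0 : MM) * X).trace) hWm
    rw [hW, phaseMat] at e
    simp only [mul_add, mul_sub, mul_smul_comm, mul_one, ← mul_assoc, ← Units.val_mul (g 0) (g 0), S.sq, Units.val_one,
      one_mul, Matrix.trace_add, Matrix.trace_sub, Matrix.trace_smul, S.trace_one', tA, tB, tAB, smul_eq_mul, mul_zero,
      Matrix.trace_zero] at e
    exact S.four ((mul_eq_zero.mp (show (2 : F)⁻¹ * 4 = 0 by linear_combination e)).resolve_left (inv_ne_zero h2))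
  · exfalso; exact S.four (by linear_combination hh)
  · exfalso; exact h2 (by linear_combination hh)
  · rfl
  · exfalso; exact h2 (by linear_combination -hh)

end Frame

end Cfsg.Lib.Classical.TwoSix
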