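import Mathlib
import Cfsg.Agent.Classical.Misc.TwoSix.FrameElements

/-! Fixed points and derangements for normalisers of `2^{1+4}` and `4 ∘ 2^{1+4}` in dimension four. -/

set_option autoImplicit false
set_option linter.unusedSimpArgs false
set_option linter.unusedSectionVars false
set_option linter.unusedVariables false
set_option linter.style.haveILetI false
set_option linter.flexible false

namespace Cfsg.Lib.Classical.TwoSix

open Matrix Polynomial Cfsg.Lib.Classical
open scoped MatrixGroups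

universe u

variable {F : Type u} [Field F] [Fintype F] {ι : Type} [Fintype ι] [DecidableEq ι]

local notation "GG" => GL ι F
local notation "MM" => Matrix ι ι F

/-- An ambient group. -/
structure Amb (p : ℕ) (T I R : Subgroup (GL ι F)) : Prop where
  le : T ≤ I
  det_one : ∀ x ∈ T, (x : Matrix ι ι F).det = 1
  mem_of : ∀ y ∈ I, (y : Matrix ι ι F).det = 1 → y ∈ T
  pairI : ∀ {x y z w : GL ι F} (h : Two R x y) (h' : Two R z w), pair h h' ∈ I
  conj : ∀ x ∈ T, ∀ y ∈ T, ∀ N : ℕ, N.Coprime p → x ^ N = 1 → y ^ N = 1 →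
    (x : Matrix ι ι F).charpoly = (y : Matrix ι ι F).charpoly → ∃ g ∈ T, g⁻¹ * x * g = y

/-- The statement under study. -/
def Fixes (T R : Subgroup (GL ι F)) (r : ℕ) : Prop :=
  ∀ x ∈ T, (∃ z : F, ((x ^ r : GL ι F) : Matrix ι ι F) = z • (1 : Matrix ι ι F)) →
    (∀ z : F, (x : Matrix ι ι F) ≠ z • (1 : Matrix ι ι F)) → ∃ g ∈ T, g⁻¹ * x * g ∈ Cfsg.Geo.subgroupNormalizer R

variable {p : ℕ} [Fact p.Prime] [CharP F p] {T I R : Subgroup (GL ι F)} {g : Fin 4 → GL ι F}

theorem det_charpoly {A B : MM} (h : A.charpoly = B.charpoly) : A.det = B.det := by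
  rw [Matrix.det_eq_sign_charpoly_coeff, Matrix.det_eq_sign_charpoly_coeff, h]

theorem scalar_pow_four (h4 : Fintype.card ι = 4) (A : Amb p T I R) {x : GG} (hx : x ∈ T) {r : ℕ} {z : F}
    (hz : ((x ^ r : GG) : MM) = z • 1) : z ^ 4 = 1 := by
  have h := congrArg Matrix.det hz
  rw [Units.val_pow_eq_pow_val, Matrix.det_pow, A.det_one x hx, one_pow, Matrix.det_smul, Matrix.det_one, mul_one, h4] at h
  exact h.symm

/-- Fixed points for odd `r`, classes given by characteristic polynomials. -/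
theorem fix_class (S : Frame R g) (A : Amb p T I R) {r : ℕ} [Fact r.Prime] (hrp : r ≠ p) {k : ℕ} (hk : 4 ∣ r * k + 1)
    (htarget : ∀ x ∈ T, x ^ r = 1 → x ≠ 1 →
      ∃ y ∈ I, y ∈ Cfsg.Geo.subgroupNormalizer R ∧ y ^ r = 1 ∧ (x : MM).charpoly = (y : MM).charpoly) :
    Fixes T R r := by
  rintro x hx ⟨z, hz⟩ hns
  have hz4 := scalar_pow_four S.card_eq A hx hz
  set c := (x ^ r) ^ k with hc
  have hcT : c ∈ T := pow_mem (pow_mem hx _) _
  have hcs : (c : MM) = z ^ k • 1 := by rw [hc, Units.val_pow_eq_pow_val, hz, _root_.smul_pow, one_pow]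
  have hcx : Commute c x := scalar_commute hcs x
  set x' := c * x with hx'
  have hx'T : x' ∈ T := mul_mem hcT hx
  have hx'r : x' ^ r = 1 := by
    refine Units.ext ?_
    obtain ⟨m, hm⟩ := hk
    rw [hx', hcx.mul_pow, Units.val_mul, Units.val_pow_eq_pow_val c, hcs, hz, _root_.smul_pow, one_pow, smul_mul_smul_comm,
      one_mul, ← pow_mul, ← pow_succ, mul_comm k r, hm, pow_mul, hz4, one_pow, one_smul, Units.val_one]
  have hx1 : x' ≠ 1 := fun h => by
    have h2 : x = c⁻¹ := eq_inv_of_mul_eq_one_right (hx' ▸ h)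
    have hzk : z ^ k ≠ 0 := pow_ne_zero _ fun e => by rw [e] at hz4; simp at hz4
    refine hns ((z ^ k)⁻¹) ?_
    rw [h2]
    refine (Units.isUnit c).mul_left_cancel ?_
    rw [← Units.val_mul, mul_inv_cancel, Units.val_one, hcs, smul_mul_smul_comm, mul_inv_cancel₀ hzk, one_smul, one_mul]
  obtain ⟨y, hyI, hyN, hyr, hch⟩ := htarget x' hx'T hx'r hx1
  have hyT : y ∈ T := A.mem_of y hyI (by rw [← det_charpoly hch]; exact A.det_one x' hx'T)
  obtain ⟨h, hhT, hh⟩ := A.conj x' hx'T y hyT r ((Nat.coprime_primes Fact.out Fact.out).mpr hrp) hx'r hyr hch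
  refine ⟨h, hhT, ?_⟩
  have e : h⁻¹ * x * h = c⁻¹ * y := by
    rw [← hh, hx']
    have hch' : Commute c h⁻¹ := scalar_commute hcs _
    calc h⁻¹ * x * h = c⁻¹ * (c * h⁻¹) * x * h := by group
      _ = c⁻¹ * (h⁻¹ * c) * x * h := by rw [hch'.eq]
      _ = _ := by group
  rw [e]
  refine mul_mem (inv_mem (mem_normalizer fun a ha => ?_)) hyN
  rw [(scalar_commute hcs a).eq, mul_inv_cancel_right]; exact ha

/-- Fixed points for odd `r`. -/
theorem fix_odd (S : Frame R g) (A : Amb p T I R) {r : ℕ} [Fact r.Prime] (hrp : r ≠ p)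
    (hi : orderOf (Fintype.card F : ZMod r) = r - 1) {k : ℕ} (hk : 4 ∣ r * k + 1)
    (htarget : ∀ f : ℕ, (∃ j, f + (r - 1) * j = 4) → f ≠ 4 →
      ∃ y ∈ I, y ∈ Cfsg.Geo.subgroupNormalizer R ∧ y ^ r = 1 ∧ fixDim (y : MM) = f) :
    Fixes T R r := fix_class S A hrp hk fun x hx hxr hx1 => by
  have hxM : (x : MM) ^ r = 1 := by rw [← Units.val_pow_eq_pow_val, hxr, Units.val_one]
  obtain ⟨j, hj⟩ := prime_fix (p := p) hrp hi hxM
  rw [S.card_eq] at hj
  have hf4 : fixDim (x : MM) ≠ 4 := fun h => hx1 (Units.ext (fixDim_eq_card (by rw [h, S.card_eq])))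
  obtain ⟨y, hyI, hyN, hyr, hyf⟩ := htarget _ ⟨j, hj⟩ hf4
  exact ⟨y, hyI, hyN, hyr, prime_conj (p := p) hrp hi hxM (by rw [← Units.val_pow_eq_pow_val, hyr, Units.val_one]) hyf.symm⟩

theorem fix_five (S : Frame R g) (A : Amb p T I R) (hp : p ≠ 2) (hrp : 5 ≠ p)
    (hi : orderOf (Fintype.card F : ZMod 5) = 4) : Fixes T R 5 := by
  haveI : Fact (Nat.Prime 5) := ⟨by norm_num⟩
  refine fix_odd S A hrp hi (k := 3) ⟨4, by norm_num⟩ fun f ⟨j, hj⟩ hf => ?_
  obtain ⟨y, hy, hyN, hy5, hns⟩ := S.exists_five I A.pairI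
  refine ⟨y, hy, hyN, hy5, ?_⟩
  obtain ⟨i, hi'⟩ := prime_fix (p := p) hrp hi (A := (y : MM)) (by rw [← Units.val_pow_eq_pow_val, hy5, Units.val_one])
  rw [S.card_eq] at hi'
  have hy4 : fixDim (y : MM) ≠ 4 := fun h =>
    hns 1 (by rw [one_smul]; exact fixDim_eq_card (by rw [h, S.card_eq]))
  omega

theorem fix_three (S : Frame R g) (A : Amb p T I R) (hp : p ≠ 2) (hrp : 3 ≠ p)
    (hi : orderOf (Fintype.card F : ZMod 3) = 2) {ic : GG} {i : F} (hiR : ic ∈ R) (hic : (ic : MM) = i • 1)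
    (hii : i * i = -1) : Fixes T R 3 := by
  haveI : Fact (Nat.Prime 3) := ⟨Nat.prime_three⟩
  have h3 : (3 : F) ≠ 0 := by exact_mod_cast PrimeOrderPoly.cast_prime_ne_zero (F := F) (p := p) Nat.prime_three hrp
  refine fix_odd S A hrp hi (k := 1) ⟨1, by norm_num⟩ fun f ⟨j, hj⟩ hf => ?_
  rcases Nat.eq_zero_or_pos f with rfl | hf0
  · exact S.exists_three h3 I A.pairI
  obtain ⟨y, hy, hyN, hy3, hy0, hy1⟩ := S.exists_three' h3 hiR hic hii I A.pairI
  refine ⟨y, hy, hyN, hy3, ?_⟩
  obtain ⟨l, hl⟩ := prime_fix (p := p) hrp hi (A := (y : MM)) (by rw [← Units.val_pow_eq_pow_val, hy3, Units.val_one])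
  rw [S.card_eq] at hl
  have hy4 : fixDim (y : MM) ≠ 4 := fun h => hy1 (Units.ext (fixDim_eq_card (by rw [h, S.card_eq])))
  omega

/-! ### Derangements -/

theorem trace_conj (h x : GG) :
    ((h⁻¹ * x * h : GG) : MM).trace = (x : MM).trace := by
  rw [Units.val_mul, Units.val_mul, Matrix.trace_mul_comm, ← mul_assoc, ← Units.val_mul, mul_inv_cancel, Units.val_one,
    one_mul]

/-- Data of a normalised conjugate. -/
theorem conj_count (S : Frame R g) (A : Amb p T I R) {r : ℕ} [Fact r.Prime] (hr2 : r ≠ 2) {x : GG} (hx : x ∈ T)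
    (hxr : x ^ r = 1) (hx1 : x ≠ 1) {h : GG} (hh : h⁻¹ * x * h ∈ Cfsg.Geo.subgroupNormalizer R) :
    ∃ P : Equiv.Perm Idx, P ^ r = 1 ∧
      (∀ e, IsCls g (((h⁻¹ * x * h) * word g e * (h⁻¹ * x * h)⁻¹ : GG) : MM) (P e)) ∧
      (x : MM).trace * ((x⁻¹ : GG) : MM).trace = (P.supportᶜ.card : F) ∧
      ((r = 3 ∧ (P.supportᶜ.card = 1 ∨ P.supportᶜ.card = 4)) ∨ (r = 5 ∧ P.supportᶜ.card = 1)) := by
  haveI := S.nonempty
  have hy : (h⁻¹ * x * h) ^ r = 1 := by
    rw [show h⁻¹ * x * h = MulAut.conj h⁻¹ x by simp, ← map_pow, hxr, map_one]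
  obtain ⟨P, hP, hcls, htr, hc⟩ := S.trace_count hr2 hh hy fun c hc => by
    have hxc : (x : MM) = c • 1 := by
      rw [show x = h * (h⁻¹ * x * h) * h⁻¹ by group, (scalar_commute hc h).symm.eq, mul_inv_cancel_right, hc]
    have hc4 : c ^ 4 = 1 := by
      have := A.det_one x hx
      rwa [hxc, Matrix.det_smul, Matrix.det_one, mul_one, S.card_eq] at this
    have hcr : c ^ r = 1 := by
      have h1 := congrArg (fun u : GG => (u : MM)) hxr
      simp only [Units.val_pow_eq_pow_val, hxc, _root_.smul_pow, one_pow, Units.val_one] at h1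
      exact smul_left_injective F (M := MM) (m := (1 : MM)) one_ne_zero (h1.trans (one_smul F (1 : MM)).symm)
    have hc1 : c = 1 := by
      have hco : Nat.Coprime 4 r := by
        rw [show (4 : ℕ) = 2 ^ 2 by norm_num]
        exact Nat.Coprime.pow_left 2 ((Nat.coprime_primes Nat.prime_two Fact.out).mpr (Ne.symm hr2))
      have := (pow_gcd_eq_one (a := c) (m := 4) (n := r)).mpr ⟨hc4, hcr⟩
      rwa [hco.gcd_eq_one, pow_one] at this
    exact hx1 (Units.ext (by rw [hxc, hc1, one_smul, Units.val_one]))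
  refine ⟨P, hP, hcls, ?_, hc⟩
  rwa [trace_conj, show (h⁻¹ * x * h)⁻¹ = h⁻¹ * x⁻¹ * h by group, trace_conj] at htr

theorem derange_large (S : Frame R g) (A : Amb p T I R) {r : ℕ} [Fact r.Prime] (hr : 7 ≤ r) (hdvd : r ∣ Nat.card T) :
    ¬ Fixes T R r := fun H => by
  haveI := S.nonempty
  obtain ⟨⟨x, hxT⟩, hx⟩ := exists_prime_orderOf_dvd_card' (G := T) r hdvd
  rw [Subgroup.orderOf_mk] at hx
  have hxr : x ^ r = 1 := hx ▸ pow_orderOf_eq_one x
  have hx1 : x ≠ 1 := fun e => by rw [e, orderOf_one] at hx; omega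
  obtain ⟨h, -, hh⟩ := H x hxT ⟨1, by rw [hxr, Units.val_one, one_smul]⟩ (fun c hc => by
    have hc4 : c ^ 4 = 1 := by
      have := A.det_one x hxT
      rwa [hc, Matrix.det_smul, Matrix.det_one, mul_one, S.card_eq] at this
    have h4 : x ^ 4 = 1 := Units.ext (by rw [Units.val_pow_eq_pow_val, hc, _root_.smul_pow, one_pow, hc4, one_smul, Units.val_one])
    have := Nat.le_of_dvd (by norm_num) (orderOf_dvd_of_pow_eq_one h4)
    omega)
  obtain ⟨P, -, -, -, hc⟩ := conj_count S A (by omega) hxT hxr hx1 hh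
  omega

theorem derange_reflection (S : Frame R g) (A : Amb p T I R) {r : ℕ} [Fact r.Prime] (hr2 : r ≠ 2) {x : GG} (hx : x ∈ T)
    (hxr : x ^ r = 1) (hrank : ((x : MM) - 1).rank = 1) : ¬ Fixes T R r := fun H => by
  haveI := S.nonempty
  have hns : ∀ c : F, (x : MM) ≠ c • 1 := fun c hc => by
    rw [hc, show c • (1 : MM) - 1 = (c - 1) • (1 : MM) by rw [sub_smul, one_smul]] at hrank
    by_cases hc1 : c - 1 = 0
    · rw [hc1, zero_smul, Matrix.rank_zero] at hrank; omega
    · rw [Matrix.rank_of_isUnit _ ((Matrix.isUnit_iff_isUnit_det _).mpr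
        (by rw [Matrix.det_smul, Matrix.det_one, mul_one]; exact (pow_ne_zero _ hc1).isUnit)), S.card_eq] at hrank
      omega
  obtain ⟨h, -, hh⟩ := H x hx ⟨1, by rw [hxr, Units.val_one, one_smul]⟩ hns
  refine S.no_rank_one ((Fact.out : r.Prime).odd_of_ne_two hr2) hh ?_ ?_
  · rw [show h⁻¹ * x * h = MulAut.conj h⁻¹ x by simp, ← map_pow, hxr, map_one]
  · rw [show ((h⁻¹ * x * h : GG) : MM) - 1 = ((h⁻¹ : GG) : MM) * ((x : MM) - 1) * (h : MM) by
      rw [mul_sub, sub_mul, mul_one, Units.val_mul, Units.val_mul, ← Units.val_mul h⁻¹ h, inv_mul_cancel, Units.val_one],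
      Matrix.rank_mul_eq_left_of_isUnit_det _ _ ((Matrix.isUnit_iff_isUnit_det _).mp h.isUnit),
      Matrix.rank_mul_eq_right_of_isUnit_det _ _ ((Matrix.isUnit_iff_isUnit_det _).mp (h⁻¹).isUnit), hrank]

/-- An element with a two-dimensional block. -/
structure Block (x : GL ι F) (M : Matrix (Fin 2) (Fin 2) F) (r : ℕ) : Prop where
  pow : x ^ r = 1
  powM : M ^ r = 1
  neM : M ≠ 1
  detM : M.det = 1
  rank : ((x : Matrix ι ι F) - 1).rank = (M - 1).rank
  tr : (x : Matrix ι ι F).trace = M.trace + 2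
  trInv : ((x⁻¹ : GL ι F) : Matrix ι ι F).trace = M.trace + 2

theorem two_by_two {M : Matrix (Fin 2) (Fin 2) F} (hd : M.det = 1) :
    M * M = M.trace • M - 1 := by
  rw [Matrix.det_fin_two] at hd
  ext i j
  fin_cases i <;> fin_cases j <;> simp [Matrix.mul_apply, Fin.sum_univ_two, Matrix.trace_fin_two, Matrix.one_apply] <;>
    first | linear_combination hd | linear_combination -hd | ring

theorem geom_zero {M : Matrix (Fin 2) (Fin 2) F} {r : ℕ} (hr : (r : F) ≠ 0) (hd : M.det = 1) (hM : M ^ r = 1)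
    (hM1 : M ≠ 1) : ∑ j ∈ Finset.range r, M ^ j = 0 := by
  have hu : IsUnit (M - 1).det := by
    rw [isUnit_iff_ne_zero]
    intro h0
    have h2 : M.trace = 2 := by
      rw [Matrix.det_fin_two] at hd h0
      simp [Matrix.trace_fin_two] at h0 ⊢
      linear_combination hd - h0
    have hN : (M - 1) * (M - 1) = 0 := by
      rw [sub_mul, mul_sub, two_by_two hd, h2, mul_one, one_mul, two_smul]; abel
    have hp : ∀ k : ℕ, M ^ k = 1 + (k : F) • (M - 1) := fun k => by
      induction k with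
      | zero => simp
      | succ k ih =>
        have e : M = 1 + (M - 1) := by abel
        rw [pow_succ, ih]
        nth_rw 2 [e]
        rw [add_mul, one_mul, mul_add, mul_one, smul_mul_assoc, hN, smul_zero, add_zero, Nat.cast_succ, add_smul, one_smul]
        abel
    have h1 := hp r
    rw [hM] at h1
    exact hM1 (sub_eq_zero.mp ((smul_eq_zero.mp (left_eq_add.mp h1)).resolve_left hr))
  have h := mul_geom_sum M r
  rw [hM, sub_self] at h
  exact ((Matrix.isUnit_iff_isUnit_det _).mpr hu).mul_left_cancel (h.trans (mul_zero _).symm)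

theorem block_trace_three {M : Matrix (Fin 2) (Fin 2) F} (hr : (3 : F) ≠ 0) (hd : M.det = 1) (hM : M ^ 3 = 1)
    (hM1 : M ≠ 1) : M.trace = -1 := by
  have h := geom_zero (r := 3) (by exact_mod_cast hr) hd hM hM1
  simp [Finset.sum_range_succ, pow_succ, two_by_two hd] at h
  have h' : (M.trace + 1) • M = 0 := by rw [add_smul, one_smul, ← h]; abel
  have hM0 : M ≠ 0 := fun e => by rw [e, Matrix.det_zero] at hd; exact zero_ne_one hd
  linear_combination (smul_eq_zero.mp h').resolve_right hM0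

theorem block_trace_five {M : Matrix (Fin 2) (Fin 2) F} (hr : (5 : F) ≠ 0) (hd : M.det = 1) (hM : M ^ 5 = 1)
    (hM1 : M ≠ 1) : M.trace ^ 2 + M.trace - 1 = 0 := by
  have h := geom_zero (r := 5) (by exact_mod_cast hr) hd hM hM1
  set t := M.trace with ht
  have h2 : M ^ 2 = t • M - 1 := by rw [_root_.sq, two_by_two hd]
  have h3 : M ^ 3 = (t ^ 2 - 1) • M - t • (1 : Matrix (Fin 2) (Fin 2) F) := by
    rw [pow_succ, h2, sub_mul, smul_mul_assoc, two_by_two hd, one_mul]; module
  have h4 : M ^ 4 = (t ^ 3 - 2 * t) • M - (t ^ 2 - 1) • (1 : Matrix (Fin 2) (Fin 2) F) := by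
    rw [pow_succ, h3, sub_mul, smul_mul_assoc, two_by_two hd, smul_mul_assoc, one_mul]; module
  rw [Finset.sum_range_succ, Finset.sum_range_succ, Finset.sum_range_succ, Finset.sum_range_succ, Finset.sum_range_succ,
    Finset.sum_range_zero, pow_zero, pow_one, h2, h3, h4] at h
  have h' : (t ^ 2 + t - 1) • (t • M - 1) = 0 := by rw [← h]; module
  refine (smul_eq_zero.mp h').resolve_right fun e => ?_
  rw [← two_by_two hd] at e
  have := congrArg Matrix.det e
  rw [Matrix.det_mul, hd, one_mul, Matrix.det_zero] at this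
  exact one_ne_zero this

theorem rank_zero_eq {A : Matrix (Fin 2) (Fin 2) F} (h : A.rank = 0) : A = 0 := by
  have h1 : LinearMap.range A.mulVecLin = ⊥ := Submodule.finrank_eq_zero.mp h
  rw [LinearMap.range_eq_bot] at h1
  exact Matrix.ext_of_mulVec_single fun j => by
    rw [Matrix.zero_mulVec]; exact LinearMap.congr_fun h1 (Pi.single j 1)

theorem block_transvection {M : Matrix (Fin 2) (Fin 2) F} (hM : M ^ p = 1) (hM1 : M ≠ 1) : (M - 1).rank = 1 := by
  have hN : (M - 1) ^ p = 0 := by rw [sub_pow_char_of_commute p (Commute.one_right M), one_pow, hM, sub_self]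
  have hle : (M - 1).rank ≤ 2 := (Matrix.rank_le_card_width _).trans (by simp)
  have h0 : (M - 1).rank ≠ 0 := fun e => hM1 (sub_eq_zero.mp (rank_zero_eq e))
  have h2 : (M - 1).rank ≠ 2 := fun e => by
    have hu : IsUnit (M - 1).det := by
      rw [← Matrix.isUnit_iff_isUnit_det, ← Matrix.mulVec_surjective_iff_isUnit]
      have hr : LinearMap.range (M - 1).mulVecLin = ⊤ := Submodule.eq_top_of_finrank_eq (by
        rw [Module.finrank_fin_fun]; exact e)
      exact LinearMap.range_eq_top.mp hr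
    have := (hu.pow p)
    rw [← Matrix.det_pow, hN, Matrix.det_zero] at this
    exact not_isUnit_zero this
  omega

theorem Block.ne_scalar (S : Frame R g) {x : GG} {M : Matrix (Fin 2) (Fin 2) F} {r : ℕ} (B : Block x M r) (c : F) :
    (x : MM) ≠ c • 1 := fun hc => by
  have h0 : 0 < (M - 1).rank := Nat.pos_of_ne_zero fun e => B.neM (sub_eq_zero.mp (rank_zero_eq e))
  have hle : (M - 1).rank ≤ 2 := (Matrix.rank_le_card_width _).trans (by simp)
  have hrank := B.rank
  rw [hc, show c • (1 : MM) - 1 = (c - 1) • (1 : MM) by rw [sub_smul, one_smul]] at hrank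
  by_cases hc1 : c - 1 = 0
  · rw [hc1, zero_smul, Matrix.rank_zero] at hrank; omega
  · rw [Matrix.rank_of_isUnit _ ((Matrix.isUnit_iff_isUnit_det _).mpr
      (by rw [Matrix.det_smul, Matrix.det_one, mul_one]; exact (pow_ne_zero _ hc1).isUnit)), S.card_eq] at hrank
    omega

theorem derange_char (S : Frame R g) (A : Amb p T I R) (hp : p ≠ 2) {x : GG} (hx : x ∈ T) {M : Matrix (Fin 2) (Fin 2) F}
    (B : Block x M p) : ¬ Fixes T R p :=
  derange_reflection S A hp hx B.pow (B.rank.trans (block_transvection B.powM B.neM))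

theorem derange_five (S : Frame R g) (A : Amb p T I R) (hp : (5 : ℕ) ≠ p) {x : GG} (hx : x ∈ T)
    {M : Matrix (Fin 2) (Fin 2) F} (B : Block x M 5) : ¬ Fixes T R 5 := fun H => by
  haveI : Fact (Nat.Prime 5) := ⟨by norm_num⟩
  have h5 : (5 : F) ≠ 0 := by exact_mod_cast PrimeOrderPoly.cast_prime_ne_zero (F := F) (p := p) (Fact.out : Nat.Prime 5) hp
  obtain ⟨h, -, hh⟩ := H x hx ⟨1, by rw [B.pow, Units.val_one, one_smul]⟩ (B.ne_scalar S)
  obtain ⟨P, -, -, htr, hc⟩ := conj_count S A (r := 5) (by norm_num) hx B.pow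
    (fun e => B.ne_scalar S 1 (by rw [e, Units.val_one, one_smul])) hh
  rw [show P.supportᶜ.card = 1 by omega, B.tr, B.trInv, Nat.cast_one] at htr
  set t := M.trace
  have ht : t ^ 2 + t - 1 = 0 := block_trace_five h5 B.detM B.powM B.neM
  have h34 : 3 * t + 4 = 0 := by linear_combination htr - ht
  exact h5 (by linear_combination (-9 : F) * ht + (3 * t - 1) * h34)

/-- The quadratic form on exponent vectors. -/
def quad (e : Idx) : ZMod 2 := e 0 * e 1 + e 0 * e 2 + e 1 * e 2 + e 0 * e 3 + e 1 * e 3 + e 2 * e 3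

theorem quad_count : (Finset.univ.filter fun e : Idx => e ≠ 0 ∧ quad e = 0).card = 5 := by decide +kernel

theorem word_quad (S : Frame R g) (e : Idx) : (word g e : MM) * (word g e : MM) = eps (F := F) (quad e) • 1 := by
  have key : ∀ (A B : MM) (s s' t : ZMod 2), A * A = eps (F := F) s • 1 → B * B = eps (F := F) s' • 1 → Sg t B A →
      (A * B) * (A * B) = eps (F := F) (t + s + s') • 1 := by
    intro A B s s' t hs hs' ht
    rw [Sg] at ht
    rw [mul_assoc, ← mul_assoc B A B, ht, smul_mul_assoc, mul_smul_comm, mul_assoc A B B, hs', mul_smul_comm,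
      mul_smul_comm, mul_one, hs, smul_smul, smul_smul, ← eps_add, ← eps_add]
    congr 2
    abel
  have hl : ∀ k, (letter g e k : MM) * (letter g e k : MM) = eps (F := F) 0 • 1 := fun k => by
    rw [eps_zero, one_smul, ← Units.val_mul]
    rcases zmod2_cases (e k) with h | h <;> simp [letter, h, S.sq k]
  have h := key _ _ _ _ _ (key _ _ _ _ _ (key _ _ _ _ _ (hl 0) (hl 1) (S.sg_letter e e 1 0)) (hl 2)
    ((S.sg_letter e e 2 0).mul_right (S.sg_letter e e 2 1))) (hl 3)
    (((S.sg_letter e e 3 0).mul_right (S.sg_letter e e 3 1)).mul_right (S.sg_letter e e 3 2))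
  rw [show (word g e : MM) = (letter g e 0 : MM) * (letter g e 1 : MM) * (letter g e 2 : MM) * (letter g e 3 : MM) by
    rw [word, Units.val_mul, Units.val_mul, Units.val_mul], h]
  congr 2
  simp only [quad, show ¬ ((1 : Fin 4) = 0) by decide, show ¬ ((2 : Fin 4) = 0) by decide, show ¬ ((2 : Fin 4) = 1) by decide,
    show ¬ ((3 : Fin 4) = 0) by decide, show ¬ ((3 : Fin 4) = 1) by decide, show ¬ ((3 : Fin 4) = 2) by decide, if_false]
  ring

theorem derange_three_minus (S : Frame R g) (A : Amb p T I R) (hp : (3 : ℕ) ≠ p)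
    (hsc : ∀ y ∈ R, ∀ s : F, (y : MM) = s • 1 → s * s = 1) {x : GG} (hx : x ∈ T) {M : Matrix (Fin 2) (Fin 2) F}
    (B : Block x M 3) : ¬ Fixes T R 3 := fun H => by
  classical
  haveI : Fact (Nat.Prime 3) := ⟨Nat.prime_three⟩
  haveI := S.nonempty
  have h3 : (3 : F) ≠ 0 := by exact_mod_cast PrimeOrderPoly.cast_prime_ne_zero (F := F) (p := p) Nat.prime_three hp
  obtain ⟨h, -, hh⟩ := H x hx ⟨1, by rw [B.pow, Units.val_one, one_smul]⟩ (B.ne_scalar S)
  obtain ⟨P, hP, hcls, htr, hc⟩ := conj_count S A (r := 3) (by norm_num) hx B.pow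
    (fun e => B.ne_scalar S 1 (by rw [e, Units.val_one, one_smul])) hh
  generalize hy : h⁻¹ * x * h = y at hh hcls
  have hzero : P 0 = 0 := by
    refine S.class_unique (hcls 0) ⟨1, ?_⟩
    rw [Frame.word_zero, mul_one, mul_inv_cancel, one_smul]
  have hq : ∀ e, quad (P e) = quad e := fun e => by
    obtain ⟨s, hs⟩ := hcls e
    set a : GG := y * word g e * y⁻¹ * (word g (P e))⁻¹ with ha
    have haR : a ∈ R := mul_mem ((Subgroup.mem_normalizer_iff.mp hh _).mp (S.word_mem e)) (inv_mem (S.word_mem _))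
    have has : (a : MM) = s • 1 := by
      rw [ha, Units.val_mul, hs, smul_mul_assoc, ← Units.val_mul, mul_inv_cancel, Units.val_one]
    have h1 : ((y * word g e * y⁻¹ : GG) : MM) * ((y * word g e * y⁻¹ : GG) : MM) = eps (F := F) (quad e) • 1 := by
      have e1 : y * word g e * y⁻¹ * (y * word g e * y⁻¹) = y * (word g e * word g e) * y⁻¹ := by group
      rw [← Units.val_mul, e1, Units.val_mul, Units.val_mul, Units.val_mul, word_quad S, mul_smul_comm, mul_one,
        smul_mul_assoc, ← Units.val_mul, mul_inv_cancel, Units.val_one]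
    rw [hs, smul_mul_smul_comm, word_quad S, smul_smul, hsc a haR s has, one_mul] at h1
    exact eps_inj S.two (smul_left_injective F (M := MM) (m := (1 : MM)) one_ne_zero h1)
  have hiff : ∀ e, (P e ≠ 0 ∧ quad (P e) = 0) ↔ (e ≠ 0 ∧ quad e = 0) := fun e => by
    rw [hq]
    refine and_congr_left fun _ => not_congr ⟨fun h => P.injective (h.trans hzero.symm), fun h => h ▸ hzero⟩
  let σ : Equiv.Perm {e : Idx // e ≠ 0 ∧ quad e = 0} := P.subtypePerm hiff
  have hσ : σ ^ 3 ^ 1 = 1 := by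
    rw [pow_one]
    refine Equiv.ext fun f => Subtype.ext ?_
    have hit : ∀ k : ℕ, ((σ ^ k) f).1 = (P ^ k) f.1 := fun k => by
      induction k with
      | zero => rfl
      | succ k ih => rw [pow_succ', pow_succ', Equiv.Perm.mul_apply, Equiv.Perm.mul_apply, ← ih]; rfl
    rw [hit, hP]; rfl
  have hm := Equiv.Perm.card_compl_support_modEq hσ
  rw [Fintype.card_subtype, quad_count] at hm
  have hfix : P.supportᶜ.card ≠ 1 := fun h1 => by
    obtain ⟨a, ha⟩ := Finset.card_eq_one.mp h1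
    have h0 : (0 : Idx) ∈ P.supportᶜ := by simp [hzero]
    rw [ha, Finset.mem_singleton] at h0
    have : σ.supportᶜ = ∅ := Finset.eq_empty_of_forall_notMem fun f hf => by
      rw [Finset.mem_compl, Equiv.Perm.mem_support, not_not] at hf
      have hfP : f.1 ∈ P.supportᶜ := by
        rw [Finset.mem_compl, Equiv.Perm.mem_support, not_not]; exact congrArg Subtype.val hf
      rw [ha, Finset.mem_singleton, ← h0] at hfP
      exact f.2.1 hfP
    rw [this, Finset.card_empty] at hm
    exact absurd hm (by decide)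
  rw [show P.supportᶜ.card = 4 by omega, B.tr, B.trInv, block_trace_three h3 B.detM B.powM B.neM] at htr
  norm_num at htr
  exact h3 (by linear_combination -htr)

theorem derange_three_split (S : Frame R g) (A : Amb p T I R) (hp : (3 : ℕ) ≠ p) {x : GG} (hx : x ∈ T)
    (hxr : x ^ 3 = 1) {w : F} (hw : w ^ 2 + w + 1 = 0) (htr : (x : MM).trace = 3 * w + 1)
    (htri : ((x⁻¹ : GG) : MM).trace = 3 * w ^ 2 + 1) : ¬ Fixes T R 3 := fun H => by
  haveI : Fact (Nat.Prime 3) := ⟨Nat.prime_three⟩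
  haveI := S.nonempty
  have h3 : (3 : F) ≠ 0 := by exact_mod_cast PrimeOrderPoly.cast_prime_ne_zero (F := F) (p := p) Nat.prime_three hp
  have h6 : (6 : F) ≠ 0 := by rw [show (6 : F) = 2 * 3 by norm_num]; exact mul_ne_zero S.two h3
  have hns : ∀ c : F, (x : MM) ≠ c • 1 := fun c hc => by
    have hc4 : c ^ 4 = 1 := by
      have := A.det_one x hx
      rwa [hc, Matrix.det_smul, Matrix.det_one, mul_one, S.card_eq] at this
    have hc3 : c ^ 3 = 1 := by
      have h1 := congrArg (fun u : GG => (u : MM)) hxr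
      simp only [Units.val_pow_eq_pow_val, hc, _root_.smul_pow, one_pow, Units.val_one] at h1
      exact smul_left_injective F (M := MM) (m := (1 : MM)) one_ne_zero (h1.trans (one_smul F (1 : MM)).symm)
    have hc1 : c = 1 := by linear_combination hc4 - c * hc3
    rw [hc, hc1, one_smul, S.trace_one'] at htr
    have hw1 : w = 1 := mul_left_cancel₀ h3 (by linear_combination -htr)
    subst hw1
    exact h3 (by linear_combination hw)
  obtain ⟨h, -, hh⟩ := H x hx ⟨1, by rw [hxr, Units.val_one, one_smul]⟩ hns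
  obtain ⟨P, -, -, ht, hc⟩ := conj_count S A (r := 3) (by norm_num) hx hxr
    (fun e => hns 1 (by rw [e, Units.val_one, one_smul])) hh
  rw [htr, htri, show (3 * w + 1) * (3 * w ^ 2 + 1) = (7 : F) by linear_combination (9 * w - 6) * hw] at ht
  rcases hc with ⟨-, h1 | h1⟩ | ⟨h5, -⟩
  · rw [h1, Nat.cast_one] at ht; exact h6 (by linear_combination ht)
  · rw [h1] at ht; norm_num at ht; exact h3 (by linear_combination ht)
  · omega

end Cfsg.Lib.Classical.TwoSix
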