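import Mathlib
import Cfsg.Agent.Classical.Misc.TwoSix.Main
import Cfsg.Agent.Classical.Misc.SLTwoTori

/-! Shapes of characteristic polynomials, involutions and two-dimensional blocks. -/

set_option autoImplicit false
set_option linter.unusedSimpArgs false
set_option linter.unusedSectionVars false
set_option linter.unusedVariables false
set_option linter.style.haveILetI false
set_option linter.flexible false

namespace Cfsg.Lib.Classical.TwoSix

open Matrix Polynomial Cfsg.Lib.Classical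
open scoped MatrixGroups

universe u

variable {F : Type u} [Field F] [Fintype F] {ι : Type} [Fintype ι] [DecidableEq ι]

local notation "GG" => GL ι F
local notation "MM" => Matrix ι ι F

theorem det_zero_iff_dvd (A : MM) {g : F[X]} (hg : Irreducible g) :
    (aeval A g).det = 0 ↔ g ∣ A.charpoly := by
  constructor
  · intro h
    by_contra hnd
    obtain ⟨u, v, huv⟩ := hg.coprime_iff_not_dvd.mpr hnd
    have h1 := congrArg (aeval A) huv
    rw [map_add, map_mul, map_mul, Matrix.aeval_self_charpoly, mul_zero, add_zero, map_one] at h1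
    have h2 := congrArg Matrix.det h1
    rw [Matrix.det_mul, h, mul_zero, Matrix.det_one] at h2
    exact zero_ne_one h2
  · intro h
    obtain ⟨w, hw, hz⟩ := SemisimpleSimilar.exists_ker (Matrix.toLin' A) hg (by rwa [Matrix.charpoly_toLin'])
    have e1 : aeval (Matrix.toLin' A) g = Matrix.toLin' (aeval A g) :=
      Polynomial.aeval_algHom_apply (Matrix.toLinAlgEquiv' (R := F) (n := ι)) A g
    rw [e1, Matrix.toLin'_apply] at hz
    exact Matrix.exists_mulVec_eq_zero_iff.mp ⟨w, hw, hz⟩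

theorem fixDim_zero_iff (A : MM) : fixDim A = 0 ↔ (aeval A (X - Polynomial.C (1 : F))).det ≠ 0 := by
  have hA : aeval A (X - Polynomial.C (1 : F)) = A - 1 := by
    rw [map_sub, aeval_X, aeval_C, map_one]
  rw [hA]
  constructor
  · intro h hd
    obtain ⟨v, hv, hvz⟩ := Matrix.exists_mulVec_eq_zero_iff.mpr hd
    refine hv ((Submodule.mem_bot F).mp ?_)
    rw [← Submodule.finrank_eq_zero.mp h, PrimeOrd.mem_fix, Matrix.toLin'_apply]
    rwa [Matrix.sub_mulVec, Matrix.one_mulVec, sub_eq_zero] at hvz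
  · intro hd
    refine Submodule.finrank_eq_zero.mpr ((Submodule.eq_bot_iff _).mpr fun v hv => by_contra fun hv0 => hd ?_)
    rw [PrimeOrd.mem_fix, Matrix.toLin'_apply] at hv
    exact Matrix.exists_mulVec_eq_zero_iff.mp ⟨v, hv0, by rw [Matrix.sub_mulVec, Matrix.one_mulVec, hv, sub_self]⟩

theorem three_shape (h4 : Fintype.card ι = 4) (h3 : (3 : F) ≠ 0) {A : MM} (hA : A ^ 3 = 1) (hd : A.det = 1) {w : F}
    (hw : w ^ 2 + w + 1 = 0)
    (hiff : (aeval A (X - Polynomial.C w)).det = 0 ↔ (aeval A (X - Polynomial.C (w ^ 2))).det = 0) :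
    A = 1 ∨ (fixDim A = 0 ∧ A.charpoly = ((X - Polynomial.C w) * (X - Polynomial.C (w ^ 2))) ^ 2) ∨
      (fixDim A ≠ 0 ∧
        A.charpoly = (X - Polynomial.C 1) ^ 2 * ((X - Polynomial.C w) * (X - Polynomial.C (w ^ 2)))) := by
  classical
  have hw3 : w ^ 3 = 1 := by linear_combination (w - 1) * hw
  have hw1 : w ≠ 1 := fun e => h3 (by rw [e] at hw; linear_combination hw)
  have hw2 : w ^ 2 ≠ 1 := fun e => hw1 (by linear_combination hw3 - w * e)
  have hww : w ^ 2 ≠ w := fun e => hw2 (by linear_combination hw3 - (w + 1) * e + e)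
  haveI : Fact (Nat.Prime 3) := ⟨Nat.prime_three⟩
  have hord : orderOf w = 3 := orderOf_eq_prime hw3 hw1
  set S : Finset F[X] := {X - Polynomial.C 1, X - Polynomial.C w, X - Polynomial.C (w ^ 2)} with hS
  have hfac : ∀ g ∈ UniqueFactorizationMonoid.normalizedFactors A.charpoly, g ∈ S := fun g hg => by
    have hgi := UniqueFactorizationMonoid.irreducible_of_normalized_factor g hg
    have hgm : g.Monic := by
      rw [← UniqueFactorizationMonoid.normalize_normalized_factor g hg]; exact Polynomial.monic_normalize hgi.ne_zero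
    have h0 := (det_zero_iff_dvd A hgi).mpr (UniqueFactorizationMonoid.dvd_of_mem_normalizedFactors hg)
    have hdv : g ∣ (X - Polynomial.C 1) * ((X - Polynomial.C w) * (X - Polynomial.C (w ^ 2))) := by
      by_contra hnd
      obtain ⟨u, v, huv⟩ := hgi.coprime_iff_not_dvd.mpr hnd
      have e : (X - Polynomial.C 1) * ((X - Polynomial.C w) * (X - Polynomial.C (w ^ 2))) = (X : F[X]) ^ 3 - 1 := by
        have e2 : (Polynomial.C w : F[X]) ^ 2 + Polynomial.C w + 1 = 0 := by
          rw [← map_pow, ← map_add, ← C_1, ← map_add, hw, map_zero]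
        rw [map_pow, map_one]
        linear_combination (-(X : F[X]) ^ 2 + X + (Polynomial.C w - 1) * (X - 1)) * e2
      have h1 := congrArg (aeval A) huv
      rw [e, map_add, map_mul, map_mul, show aeval A ((X : F[X]) ^ 3 - 1) = 0 by
        rw [map_sub, map_pow, aeval_X, hA, map_one, sub_self], mul_zero, add_zero, map_one] at h1
      have h2 := congrArg Matrix.det h1
      rw [Matrix.det_mul, h0, mul_zero, Matrix.det_one] at h2
      exact zero_ne_one h2
    simp only [hS, Finset.mem_insert, Finset.mem_singleton]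
    rcases hgi.prime.dvd_mul.mp hdv with h | h
    · exact Or.inl (eq_of_monic_of_associated hgm (monic_X_sub_C _) (hgi.associated_of_dvd (irreducible_X_sub_C _) h))
    rcases hgi.prime.dvd_mul.mp h with h | h
    · exact Or.inr (Or.inl (eq_of_monic_of_associated hgm (monic_X_sub_C _) (hgi.associated_of_dvd (irreducible_X_sub_C _) h)))
    · exact Or.inr (Or.inr (eq_of_monic_of_associated hgm (monic_X_sub_C _) (hgi.associated_of_dvd (irreducible_X_sub_C _) h)))
  set m := UniqueFactorizationMonoid.normalizedFactors A.charpoly with hm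
  have hprod : m.prod = A.charpoly := by
    rw [hm, UniqueFactorizationMonoid.prod_normalizedFactors_eq (Matrix.charpoly_monic A).ne_zero,
      (Matrix.charpoly_monic A).normalize_eq_self]
  rw [Finset.prod_multiset_count_of_subset m S fun g hg => hfac g (Multiset.mem_toFinset.mp hg)] at hprod
  have ne : ∀ {a b : F}, a ≠ b → X - Polynomial.C a ≠ X - Polynomial.C b := fun hab e =>
    hab (Polynomial.C_injective (sub_right_injective e))
  rw [hS, Finset.prod_insert (by
      rw [Finset.mem_insert, Finset.mem_singleton]; exact not_or.mpr ⟨ne hw1.symm, ne hw2.symm⟩),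
    Finset.prod_insert (by rw [Finset.mem_singleton]; exact ne hww.symm),
    Finset.prod_singleton] at hprod
  generalize m.count (X - Polynomial.C 1) = f, m.count (X - Polynomial.C w) = a,
    m.count (X - Polynomial.C (w ^ 2)) = b at hprod
  have hdeg : f + (a + b) = 4 := by
    have := congrArg natDegree hprod
    rwa [((monic_X_sub_C 1).pow f).natDegree_mul (((monic_X_sub_C w).pow a).mul ((monic_X_sub_C _).pow b)),
      ((monic_X_sub_C w).pow a).natDegree_mul ((monic_X_sub_C _).pow b), natDegree_pow, natDegree_pow, natDegree_pow,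
      natDegree_X_sub_C, natDegree_X_sub_C, natDegree_X_sub_C, mul_one, mul_one, mul_one, Matrix.charpoly_natDegree_eq_dim, h4] at this
  have hcong : 3 ∣ a + 2 * b := by
    have h0 : A.charpoly.eval 0 = 1 := by
      rw [← coeff_zero_eq_eval_zero]
      have := Matrix.det_eq_sign_charpoly_coeff A
      rw [h4, hd] at this
      norm_num at this
      exact this.symm
    rw [← hprod] at h0
    simp only [eval_mul, eval_pow, eval_sub, eval_X, eval_C, zero_sub] at h0
    rw [neg_pow w, neg_pow (w ^ 2), ← pow_mul] at h0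
    rw [← hord]
    refine orderOf_dvd_of_pow_eq_one ?_
    rw [show (-1 : F) ^ f * ((-1) ^ a * w ^ a * ((-1) ^ b * w ^ (2 * b))) =
      (-1 : F) ^ (f + (a + b)) * w ^ (a + 2 * b) by rw [pow_add, pow_add, pow_add]; ring, hdeg] at h0
    norm_num at h0
    exact h0
  have hiff' : 0 < a ↔ 0 < b := by
    have key : ∀ c : F, (aeval A (X - Polynomial.C c)).det = 0 ↔ c = 1 ∧ 0 < f ∨ c = w ∧ 0 < a ∨ c = w ^ 2 ∧ 0 < b := by
      intro c
      rw [det_zero_iff_dvd A (irreducible_X_sub_C c), dvd_iff_isRoot, IsRoot, ← hprod]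
      simp only [eval_mul, eval_pow, eval_sub, eval_X, eval_C, mul_eq_zero, pow_eq_zero_iff', sub_eq_zero, Nat.pos_iff_ne_zero]
    rw [key, key] at hiff
    simpa [hw1, hw2, hww, hww.symm] using hiff
  have hab : a = b := by omega
  subst hab
  have hfix : fixDim A = 0 ↔ f = 0 := by
    rw [fixDim_zero_iff, ne_eq, det_zero_iff_dvd A (irreducible_X_sub_C 1), dvd_iff_isRoot, IsRoot, ← hprod]
    simp [pow_eq_zero_iff', sub_eq_zero, hw1.symm, hw2.symm]
  obtain rfl | rfl | rfl : a = 0 ∨ a = 1 ∨ a = 2 := by omega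
  · left
    obtain rfl : f = 4 := by omega
    have hN : (A - 1) ^ 4 = 0 := by
      have h := Matrix.aeval_self_charpoly A
      rw [← hprod] at h
      simp only [pow_zero, mul_one, map_pow, map_sub, aeval_X, aeval_C, map_one] at h
      exact h
    set N := A - 1 with hNd
    have e : (3 : F) • N + (3 : F) • N ^ 2 + N ^ 3 = 0 := by
      have e1 : (1 + N) ^ 3 = 1 + ((3 : F) • N + (3 : F) • N ^ 2 + N ^ 3) := by
        simp only [pow_succ, pow_zero, one_mul, mul_add, add_mul, mul_one]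
        match_scalars <;> norm_num
      rw [show 1 + N = A by rw [hNd]; abel, hA] at e1
      exact left_eq_add.mp e1
    have hN3 : N ^ 3 = 0 := by
      have := congrArg (N ^ 2 * ·) e
      simp only [mul_add, mul_smul_comm, ← pow_succ, ← pow_add, mul_zero, show N ^ 5 = 0 by rw [pow_succ, hN, zero_mul], hN,
        smul_zero, add_zero] at this
      exact (smul_eq_zero.mp this).resolve_left h3
    have hN2 : N ^ 2 = 0 := by
      have := congrArg (N * ·) e
      simp only [mul_add, mul_smul_comm, ← pow_succ', mul_zero, hN, hN3, smul_zero, add_zero, ← _root_.sq] at this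
      exact (smul_eq_zero.mp this).resolve_left h3
    rw [hN3, hN2, smul_zero, add_zero, add_zero] at e
    exact sub_eq_zero.mp ((smul_eq_zero.mp e).resolve_left h3)
  · right; right
    obtain rfl : f = 2 := by omega
    exact ⟨fun e => by simpa using hfix.mp e, by rw [← hprod, pow_one, pow_one]⟩
  · right; left
    obtain rfl : f = 0 := by omega
    exact ⟨hfix.mpr rfl, by rw [← hprod, pow_zero, one_mul, mul_pow]⟩

theorem five_shape (h4 : Fintype.card ι = 4) {A : MM} (hA : A ^ 5 = 1) (hA1 : A ≠ 1) {g₁ g₂ : F[X]} (hm₁ : g₁.Monic)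
    (hm₂ : g₂.Monic) (hi₁ : Irreducible g₁) (hi₂ : Irreducible g₂) (hne : g₁ ≠ g₂) (hd₁ : g₁.natDegree = 2)
    (hd₂ : g₂.natDegree = 2) (hprod : g₁ * g₂ * (X - 1) = X ^ 5 - 1)
    (hiff : (aeval A g₁).det = 0 ↔ (aeval A g₂).det = 0) : A.charpoly = g₁ * g₂ := by
  have h0 : (aeval A g₁).det = 0 ∨ (aeval A g₂).det = 0 := by
    by_contra h
    push Not at h
    have hu : IsUnit (aeval A (g₁ * g₂)) := by
      rw [Matrix.isUnit_iff_isUnit_det, map_mul, Matrix.det_mul]
      exact (mul_ne_zero h.1 h.2).isUnit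
    have e := congrArg (aeval A) hprod
    rw [map_mul, map_sub, map_sub, map_pow, aeval_X, map_one, hA, sub_self, hu.mul_right_eq_zero, sub_eq_zero] at e
    exact hA1 e
  have hb : (aeval A g₁).det = 0 ∧ (aeval A g₂).det = 0 := by
    rcases h0 with h | h
    exacts [⟨h, hiff.mp h⟩, ⟨hiff.mpr h, h⟩]
  have hco : IsCoprime g₁ g₂ := hi₁.coprime_iff_not_dvd.mpr fun h =>
    hne (eq_of_monic_of_associated hm₁ hm₂ (hi₁.associated_of_dvd hi₂ h))
  exact eq_of_monic_of_dvd_of_natDegree_le (hm₁.mul hm₂) (Matrix.charpoly_monic A)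
    (hco.mul_dvd ((det_zero_iff_dvd A hi₁).mp hb.1) ((det_zero_iff_dvd A hi₂).mp hb.2))
    (by rw [Matrix.charpoly_natDegree_eq_dim, h4, hm₁.natDegree_mul hm₂, hd₁, hd₂])

/-! ### Involutions -/

variable {p : ℕ} [Fact p.Prime] [CharP F p] {T I R : Subgroup (GL ι F)} {g : Fin 4 → GL ι F}

theorem invol_range (h4 : Fintype.card ι = 4) (h2 : (2 : F) ≠ 0) {A : MM} (hA : A ^ 2 = 1)
    (hn : ∀ c : F, A ≠ c • 1) : fixDim A = 1 ∨ fixDim A = 2 ∨ fixDim A = 3 := by
  have hle := fixDim_le A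
  rw [h4] at hle
  have h4' : fixDim A ≠ 4 := fun h => hn 1 (by rw [one_smul]; exact fixDim_eq_card (by rw [h, h4]))
  have h0 : fixDim A ≠ 0 := fun h => hn (-1) (by
    rw [neg_one_smul]
    exact eq_neg_of_add_eq_zero_left (sub_one_inj h (by rw [sub_mul, mul_add, mul_one, one_mul, ← _root_.sq, hA]; abel)))
  omega

theorem invol_match (h4 : Fintype.card ι = 4) (hp : p ≠ 2) (h2 : (2 : F) ≠ 0) {A B : MM} (hA : A ^ 2 = 1) (hB : B ^ 2 = 1)
    (hnA : ∀ c : F, A ≠ c • 1) (hnB : ∀ c : F, B ≠ c • 1) (ht : A.trace = B.trace) : fixDim A = fixDim B := by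
  have e := invol_trace h2 hA
  rw [ht, invol_trace h2 hB, sub_left_inj] at e
  have e' : ((fixDim B : ℕ) : F) = (fixDim A : F) := mul_left_cancel₀ h2 e
  rw [CharP.natCast_eq_natCast F p, Nat.modEq_iff_dvd] at e'
  have hp3 : 3 ≤ p := by have := (Fact.out : p.Prime).two_le; omega
  have := Int.eq_zero_of_abs_lt_dvd e' (by
    rcases invol_range h4 h2 hA hnA with a | a | a <;> rcases invol_range h4 h2 hB hnB with b | b | b <;>
      rw [a, b] <;> norm_num <;> omega)
  omega

theorem invol_traces (h4 : Fintype.card ι = 4) (h2 : (2 : F) ≠ 0) {A : MM} (hA : A ^ 2 = 1)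
    (hn : ∀ c : F, A ≠ c • 1) : A.trace = -2 ∨ A.trace = 0 ∨ A.trace = 2 := by
  rw [invol_trace h2 hA, h4]
  rcases invol_range h4 h2 hA hn with a | a | a <;> rw [a] <;> norm_num

/-- The three model involutions. -/
theorem exists_models (S : Frame R g) {ic : GG} {i : F} (hiR : ic ∈ R) (hic : (ic : MM) = i • 1) (hi : i * i = -1) :
    ∃ (y₀ y₁ : GG) (A B : GG) (h : Com R A B), y₀ ∈ R ∧ y₁ = phase h ∧
      y₀ ∈ Cfsg.Geo.subgroupNormalizer R ∧ y₁ ∈ Cfsg.Geo.subgroupNormalizer R ∧ (y₀ : MM) ^ 2 = 1 ∧ (y₁ : MM) ^ 2 = 1 ∧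
      (∀ c : F, (y₀ : MM) ≠ c • 1) ∧ (∀ c : F, (y₁ : MM) ≠ c • 1) ∧ (y₀ : MM).trace = 0 ∧ (y₁ : MM).trace = 2 := by
  haveI := S.nonempty
  obtain ⟨hs0, hf0⟩ := S.first_fix
  obtain ⟨A, B, h, hN, hs1, hf1⟩ := S.exists_phase hiR hic hi
  have ns : ∀ {M : MM}, M ^ 2 = 1 → fixDim M ≠ 0 → fixDim M ≠ 4 → ∀ c : F, M ≠ c • 1 := by
    intro M hM h0 h4 c hc
    subst hc
    rw [_root_.smul_pow, one_pow] at hM
    have hc2 := smul_left_injective F (M := MM) (m := (1 : MM)) one_ne_zero (hM.trans (one_smul F (1 : MM)).symm)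
    rcases sq_eq_one_iff.mp hc2 with rfl | rfl
    · refine h4 ?_
      rw [fixDim, one_smul, ← S.card_eq, ← Module.finrank_fintype_fun_eq_card (R := F) (η := ι)]
      rw [show PrimeOrd.fix (Matrix.toLin' (1 : MM)) = ⊤ from eq_top_iff.mpr fun v _ => PrimeOrd.mem_fix.mpr (by simp),
        finrank_top]
    · refine h0 ((fixDim_zero_iff _).mpr ?_)
      rw [map_sub, aeval_X, aeval_C, map_one, neg_one_smul,
        show -(1 : MM) - 1 = (-2 : F) • (1 : MM) by rw [neg_smul, two_smul]; abel, Matrix.det_smul, Matrix.det_one, mul_one]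
      exact pow_ne_zero _ (neg_ne_zero.mpr S.two)
  refine ⟨g 0, phase h, A, B, h, S.mem 0, rfl, Subgroup.le_normalizer (S.mem 0), hN, hs0, hs1,
    ns hs0 (by omega) (by omega), ns hs1 (by omega) (by omega), ?_, ?_⟩
  · rw [invol_trace S.two hs0, hf0, S.card_eq]; norm_num
  · rw [invol_trace S.two hs1, hf1, S.card_eq]; norm_num

/-- Fixed points of elements squaring to a square scalar. -/
theorem fix_root (S : Frame R g) (A : Amb p T I R) (hp : p ≠ 2) {ic : GG} {i : F} (hiR : ic ∈ R) (hic : (ic : MM) = i • 1)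
    (hi : i * i = -1) {x : GG} (hx : x ∈ T) (hns : ∀ c : F, (x : MM) ≠ c • 1) {s : F} (hs : s ≠ 0)
    (hz : (x : MM) ^ 2 = (s * s) • 1) (hI : ∀ y : GG, (y ∈ R ∨ (∃ (a b : GG) (h : Com R a b), y = phase h)) →
      scalarGL s hs * y ∈ I ∧ scalarGL (-s) (neg_ne_zero.mpr hs) * y ∈ I) :
    ∃ g ∈ T, g⁻¹ * x * g ∈ Cfsg.Geo.subgroupNormalizer R := by
  have h2 := S.two
  haveI := S.nonempty
  obtain ⟨y₀, y₁, a, b, h, hy0, hy1, hn0, hn1, hs0, hs1, hc0, hc1, ht0, ht1⟩ := exists_models S hiR hic hi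
  have hs8 : s ^ 8 = 1 := by
    have := congrArg Matrix.det hz
    rw [Matrix.det_pow, A.det_one x hx, one_pow, Matrix.det_smul, Matrix.det_one, mul_one, S.card_eq] at this
    linear_combination -this
  have key : ∀ (t : F) (ht : t ≠ 0) (y : GG), t * t = s * s → scalarGL t ht * y ∈ I →
      y ∈ Cfsg.Geo.subgroupNormalizer R → (y : MM) ^ 2 = 1 → (∀ c : F, (y : MM) ≠ c • 1) →
      (t⁻¹ • (x : MM)).trace = (y : MM).trace →
      ∃ g ∈ T, g⁻¹ * x * g ∈ Cfsg.Geo.subgroupNormalizer R := by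
    intro t ht y htt hyI hyN hy2 hyns htr
    have hX : (t⁻¹ • (x : MM)) ^ 2 = 1 := by
      rw [_root_.smul_pow, hz, smul_smul, _root_.sq, ← htt, show t⁻¹ * t⁻¹ * (t * t) = (t⁻¹ * t) * (t⁻¹ * t) by ring,
        inv_mul_cancel₀ ht, one_mul, one_smul]
    have hXns : ∀ c : F, t⁻¹ • (x : MM) ≠ c • 1 := fun c hc => hns (t * c) (by
      rw [← smul_smul, ← hc, smul_smul, mul_inv_cancel₀ ht, one_smul])
    have hch := invol_conj h2 hX hy2 (invol_match S.card_eq hp h2 hX hy2 hXns hyns htr) t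
    rw [smul_smul, mul_inv_cancel₀ ht, one_smul] at hch
    have hval : ((scalarGL t ht * y : GG) : MM) = t • (y : MM) := by
      rw [Units.val_mul]; show t • (1 : MM) * _ = _; rw [smul_mul_assoc, one_mul]
    rw [← hval] at hch
    have hyT := A.mem_of _ hyI (by rw [← det_charpoly hch]; exact A.det_one x hx)
    have ht8 : t ^ 8 = 1 := by rw [show t ^ 8 = (t * t) ^ 4 by ring, htt, ← hs8]; ring
    obtain ⟨g, hg, hgg⟩ := A.conj x hx _ hyT 8 (by
        rw [show (8 : ℕ) = 2 ^ 3 by norm_num]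
        exact Nat.Coprime.pow_left 3 ((Nat.coprime_primes Nat.prime_two Fact.out).mpr hp.symm))
      (Units.ext (by
        rw [Units.val_pow_eq_pow_val, show (8 : ℕ) = 2 * 4 by norm_num, pow_mul, hz, _root_.smul_pow, one_pow,
          show (s * s) ^ 4 = s ^ 8 by ring, hs8, one_smul, Units.val_one]))
      (Units.ext (by
        rw [Units.val_pow_eq_pow_val, hval, _root_.smul_pow, ht8, one_smul, show (8 : ℕ) = 2 * 4 by norm_num, pow_mul, hy2,
          one_pow, Units.val_one])) hch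
    exact ⟨g, hg, hgg ▸ mul_mem (scalarGL_mem t ht) hyN⟩
  have hX : (s⁻¹ • (x : MM)) ^ 2 = 1 := by
    rw [_root_.smul_pow, hz, smul_smul, _root_.sq, show s⁻¹ * s⁻¹ * (s * s) = (s⁻¹ * s) * (s⁻¹ * s) by ring,
      inv_mul_cancel₀ hs, one_mul, one_smul]
  rcases invol_traces S.card_eq h2 hX (fun c hc => hns (s * c) (by
      rw [← smul_smul, ← hc, smul_smul, mul_inv_cancel₀ hs, one_smul])) with e | e | e
  · refine key (-s) (neg_ne_zero.mpr hs) y₁ (neg_mul_neg s s) (hI y₁ (Or.inr ⟨a, b, h, hy1⟩)).2 hn1 hs1 hc1 ?_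
    rw [inv_neg, neg_smul, Matrix.trace_neg, e, ht1, neg_neg]
  · exact key s hs y₀ rfl (hI y₀ (Or.inl hy0)).1 hn0 hs0 hc0 (by rw [e, ht0])
  · exact key s hs y₁ rfl (hI y₁ (Or.inr ⟨a, b, h, hy1⟩)).1 hn1 hs1 hc1 (by rw [e, ht1])

/-! ### Blocks -/

/-- A two-dimensional block. -/
def blockMat (e : Fin 2 ⊕ Fin 2 ≃ ι) (M : Matrix (Fin 2) (Fin 2) F) : Matrix ι ι F :=
  Matrix.reindex e e (Matrix.fromBlocks M 0 0 1)

theorem blockMat_mul (e : Fin 2 ⊕ Fin 2 ≃ ι) (M N : Matrix (Fin 2) (Fin 2) F) :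
    blockMat e M * blockMat e N = blockMat e (M * N) := by
  simp [blockMat, Matrix.submatrix_mul_equiv, Matrix.fromBlocks_multiply]

theorem blockMat_one (e : Fin 2 ⊕ Fin 2 ≃ ι) : blockMat e (1 : Matrix (Fin 2) (Fin 2) F) = 1 := by
  simp [blockMat, Matrix.fromBlocks_one]

theorem blockMat_trace (e : Fin 2 ⊕ Fin 2 ≃ ι) (M : Matrix (Fin 2) (Fin 2) F) :
    (blockMat e M).trace = M.trace + 2 := by
  rw [Matrix.trace, ← Equiv.sum_comp e]
  simp [blockMat, Fintype.sum_sum_type, Matrix.trace]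

theorem blockMat_det (e : Fin 2 ⊕ Fin 2 ≃ ι) (M : Matrix (Fin 2) (Fin 2) F) : (blockMat e M).det = M.det := by
  simp [blockMat, Matrix.det_reindex_self, Matrix.det_fromBlocks_zero₁₂]

theorem blockMat_rank (e : Fin 2 ⊕ Fin 2 ≃ ι) (M : Matrix (Fin 2) (Fin 2) F) :
    (blockMat e M - 1).rank = (M - 1).rank := by
  have h1 : blockMat e M - 1 = Matrix.reindex e e (Matrix.fromBlocks (M - 1) 0 0 0) := by
    rw [← blockMat_one (F := F) e]
    ext i j
    simp only [blockMat, Matrix.sub_apply, Matrix.reindex_apply, Matrix.submatrix_apply]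
    rcases e.symm i with a | a <;> rcases e.symm j with b | b <;> simp
  rw [h1, Matrix.rank_reindex]
  let U : Matrix (Fin 2 ⊕ Fin 2) (Fin 2) F := Matrix.fromRows 1 0
  let V : Matrix (Fin 2) (Fin 2 ⊕ Fin 2) F := Matrix.fromCols 1 0
  have eN : Matrix.fromBlocks (M - 1) 0 0 0 = U * (M - 1) * V := by
    rw [Matrix.fromRows_mul, Matrix.fromRows_mul_fromCols]
    simp
  have hUV : V * U = 1 := by
    rw [Matrix.fromCols_mul_fromRows]; simp
  have eM : M - 1 = V * (Matrix.fromBlocks (M - 1) 0 0 0 : Matrix (Fin 2 ⊕ Fin 2) (Fin 2 ⊕ Fin 2) F) * U := by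
    rw [eN, ← Matrix.mul_assoc, ← Matrix.mul_assoc, hUV, Matrix.one_mul, Matrix.mul_assoc, hUV, Matrix.mul_one]
  refine le_antisymm ?_ ?_
  · rw [eN]; exact (Matrix.rank_mul_le_left _ _).trans (Matrix.rank_mul_le_right _ _)
  · conv_lhs => rw [eM]
    exact (Matrix.rank_mul_le_left _ _).trans (Matrix.rank_mul_le_right _ _)

/-- Its element. -/
def blockGL (e : Fin 2 ⊕ Fin 2 ≃ ι) (M : Matrix (Fin 2) (Fin 2) F) (hM : M.det = 1) : GG :=
  ⟨blockMat e M, blockMat e M.adjugate,
    by rw [blockMat_mul, Matrix.mul_adjugate, hM, one_smul, blockMat_one],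
    by rw [blockMat_mul, Matrix.adjugate_mul, hM, one_smul, blockMat_one]⟩

theorem blockGL_block (e : Fin 2 ⊕ Fin 2 ≃ ι) {M : Matrix (Fin 2) (Fin 2) F} (hM : M.det = 1) {r : ℕ}
    (hr : M ^ r = 1) (h1 : M ≠ 1) : Block (blockGL e M hM : GG) M r := by
  refine ⟨?_, hr, h1, hM, blockMat_rank e M, blockMat_trace e M, ?_⟩
  · refine Units.ext ?_
    rw [Units.val_pow_eq_pow_val, Units.val_one]
    have : ∀ k : ℕ, blockMat e M ^ k = blockMat e (M ^ k) := fun k => by
      induction k with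
      | zero => simp [blockMat_one]
      | succ k ih => rw [pow_succ, pow_succ, ih, blockMat_mul]
    show blockMat e M ^ r = 1
    rw [this, hr, blockMat_one]
  · show (blockMat e M.adjugate).trace = _
    rw [blockMat_trace]
    simp [Matrix.adjugate_fin_two, Matrix.trace_fin_two, add_comm]

/-- Elements of prime order of `SL₂(p)`. -/
theorem exists_slTwo (p : ℕ) [Fact p.Prime] {r : ℕ} [Fact r.Prime] (h : r ∣ p * (p ^ 2 - 1)) :
    ∃ M : Matrix (Fin 2) (Fin 2) (ZMod p), M.det = 1 ∧ M ^ r = 1 ∧ M ≠ 1 := by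
  obtain ⟨M, hM⟩ := exists_prime_orderOf_dvd_card' (G := SL(2, ZMod p)) r (by
    rwa [SLTwoTori.card_SL2, ZMod.card])
  refine ⟨M, M.2, ?_, fun e => ?_⟩
  · rw [← Matrix.SpecialLinearGroup.coe_pow, ← hM, pow_orderOf_eq_one, Matrix.SpecialLinearGroup.coe_one]
  · have e' : M = 1 := Subtype.ext e
    rw [e', orderOf_one] at hM
    exact (Fact.out : r.Prime).ne_one hM.symm

/-- Elements of prime order of `SL₂` over fields of characteristic `p`. -/
theorem exists_slTwo' (p : ℕ) [Fact p.Prime] [CharP F p] {r : ℕ} [Fact r.Prime] (h : r ∣ p * (p ^ 2 - 1)) :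
    ∃ M : Matrix (Fin 2) (Fin 2) F, M.det = 1 ∧ M ^ r = 1 ∧ M ≠ 1 ∧
      ∃ M₀ : Matrix (Fin 2) (Fin 2) (ZMod p), M = M₀.map (ZMod.castHom (dvd_refl p) F) := by
  obtain ⟨M, hd, hr, h1⟩ := exists_slTwo p h
  set φ := ZMod.castHom (dvd_refl p) F
  refine ⟨φ.mapMatrix M, by rw [← RingHom.map_det, hd, map_one], by rw [← map_pow, hr, map_one], fun e => ?_, M, rfl⟩
  exact h1 (Matrix.map_injective φ.injective (e.trans (map_one φ.mapMatrix).symm))

theorem five_cases (p : ℕ) (hp : 0 < p) : orderOf (p : ZMod 5) = 4 ↔ ¬ 5 ∣ p * (p ^ 2 - 1) := by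
  haveI : Fact (Nat.Prime 2) := ⟨Nat.prime_two⟩
  rw [← ZMod.natCast_eq_zero_iff, Nat.cast_mul, Nat.cast_sub (Nat.one_le_pow _ _ hp), Nat.cast_pow, Nat.cast_one]
  have key : ∀ a : ZMod 5, a * (a ^ 2 - 1) ≠ 0 ↔ (¬ a ^ 2 = 1 ∧ a ^ 4 = 1) := by decide
  rw [← ne_eq, key]
  constructor
  · intro h
    exact ⟨pow_ne_one_of_lt_orderOf two_ne_zero (h ▸ by norm_num), h ▸ pow_orderOf_eq_one _⟩
  · rintro ⟨h1, h2⟩
    exact orderOf_eq_prime_pow (p := 2) (n := 1) h1 h2

end Cfsg.Lib.Classical.TwoSix
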