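import Mathlib
import Cfsg.Agent.Classical.Misc.TwoSix.FrameElements
import Cfsg.Agent.S3762

/-! Frames in absolutely irreducible groups of symplectic type in dimension four. -/

set_option autoImplicit false
set_option linter.unusedSimpArgs false
set_option linter.unusedSectionVars false
set_option linter.unusedVariables false
set_option linter.style.haveILetI false
set_option linter.flexible false

namespace Cfsg.Lib.Classical.TwoSix

open Matrix Polynomial Cfsg.Lib.Classical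
open scoped MatrixGroups commutatorElement

universe u

variable {F : Type u} [Field F] [Fintype F] {ι : Type} [Fintype ι] [DecidableEq ι]

local notation "GG" => GL ι F
local notation "MM" => Matrix ι ι F

/-- Central elements of an absolutely irreducible group are scalars. -/
theorem scalar_of_central {R : Subgroup (GL ι F)} (hirr : Cfsg.Geo.ActsAbsolutelyIrreducibly (Cfsg.Geo.matrixSet R))
    {c : R} (hc : c ∈ Subgroup.center R) : ∃ s : F, ((c : GG) : MM) = s • 1 := by
  refine hirr.2 _ ?_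
  rintro _ ⟨y, hy, rfl⟩
  have h := congrArg (fun a : R => ((a : GG) : MM)) (Subgroup.mem_center_iff.mp hc ⟨y, hy⟩)
  simpa using h.symm

theorem four_of_exponent {R : Subgroup (GL ι F)} (hR : Cfsg.Geo.IsSymplecticTypeGroup 2 R) (x : R) : x ^ 4 = 1 := by
  have h := Monoid.pow_exponent_eq_one x
  rw [hR.exponent_eq, show 2 * Nat.gcd 2 2 = 4 by norm_num] at h
  exact h

/-- Two elements commute up to a sign. -/
theorem signed_of_type {R : Subgroup (GL ι F)} (h2 : (2 : F) ≠ 0) (hn : 0 < Fintype.card ι)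
    (hR : Cfsg.Geo.IsSymplecticTypeGroup 2 R) (hirr : Cfsg.Geo.ActsAbsolutelyIrreducibly (Cfsg.Geo.matrixSet R)) :
    Signed R := by
  classical
  haveI : Nonempty ι := Fintype.card_pos_iff.mp hn
  obtain ⟨E, C, hEC, hsup, hE, hC⟩ :=
    Cfsg.Agent.S3762.result (G := R) (p := 2) hR.pGroup hR.cyclic_of_characteristic
  have hord : ∀ c : C, orderOf c ∣ 4 := fun c => orderOf_dvd_of_pow_eq_one
    (Subtype.ext (by rw [SubmonoidClass.coe_pow, four_of_exponent hR, OneMemClass.coe_one]))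
  have hcyc : IsCyclic C := by
    rcases hC with h | ⟨-, h16, ⟨m, ⟨φ⟩⟩ | ⟨m, ⟨φ⟩⟩ | ⟨n, hn3, hcard, x, y, hx, -⟩⟩
    · exact h
    · exfalso
      have h := hord (φ.symm (DihedralGroup.r 1))
      rw [φ.symm.orderOf_eq, DihedralGroup.orderOf_r_one] at h
      have := Nat.le_of_dvd (by norm_num) h
      rw [Nat.card_congr φ.toEquiv, DihedralGroup.nat_card] at h16
      omega
    · exfalso
      have h := hord (φ.symm (QuaternionGroup.a 1))
      rw [φ.symm.orderOf_eq, QuaternionGroup.orderOf_a_one] at h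
      have hm0 : m ≠ 0 := fun e => by subst e; simp at h
      haveI : NeZero m := ⟨hm0⟩
      have := Nat.le_of_dvd (by norm_num) h
      rw [Nat.card_congr φ.toEquiv, Nat.card_eq_fintype_card, QuaternionGroup.card] at h16
      omega
    · exfalso
      have h := hord x
      rw [hx] at h
      have := Nat.le_of_dvd (by norm_num) h
      have : 2 ^ 3 ≤ 2 ^ n := Nat.pow_le_pow_right (by norm_num) hn3
      omega
  have hcomm : ∀ a ∈ C, ∀ b ∈ C, a * b = b * a := fun a ha b hb => by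
    haveI := hcyc
    exact congrArg Subtype.val (IsCyclic.isMulCommutative.is_comm.comm (⟨a, ha⟩ : C) ⟨b, hb⟩)
  have hall : ∀ z : R, z ∈ E ⊔ C := fun z => hsup ▸ Subgroup.mem_top z
  have hcentral : ∀ z : R, (∀ e ∈ E, z * e = e * z) → (∀ c ∈ C, z * c = c * z) → z ∈ Subgroup.center R := by
    intro z hze hzc
    rw [Subgroup.mem_center_iff]
    intro w
    have : w ∈ Subgroup.centralizer ({z} : Set R) := by
      refine (sup_le ?_ ?_ : E ⊔ C ≤ _) (hall w)
      · intro e he; rw [Subgroup.mem_centralizer_singleton_iff]; exact (hze e he).symm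
      · intro e he; rw [Subgroup.mem_centralizer_singleton_iff]; exact (hzc e he).symm
    rw [Subgroup.mem_centralizer_singleton_iff] at this
    exact this
  have hC' : C ≤ Subgroup.center R := fun c hc => hcentral c (fun e he => (hEC e he c hc).symm) (fun d hd => hcomm c hc d hd)
  -- commutators inside `E`
  have hEE : ∀ a ∈ E, ∀ b ∈ E, ⁅a, b⁆ ∈ Subgroup.center R ∧ ⁅a, b⁆ * ⁅a, b⁆ = 1 := by
    intro a ha b hb
    rcases hE with rfl | hext
    · rw [Subgroup.mem_bot] at ha hb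
      subst ha hb
      simp
    have hm : (⁅(⟨a, ha⟩ : E), ⟨b, hb⟩⁆ : E) ∈ Subgroup.center E := by
      rw [← hext.1.2.2]
      exact Subgroup.commutator_mem_commutator (Subgroup.mem_top _) (Subgroup.mem_top _)
    refine ⟨hcentral _ (fun e he => ?_) (fun c hc => ?_), ?_⟩
    · exact (congrArg Subtype.val (Subgroup.mem_center_iff.mp hm ⟨e, he⟩)).symm
    · exact hEC _ (by rw [commutatorElement_def]; exact mul_mem (mul_mem (mul_mem ha hb) (inv_mem ha)) (inv_mem hb)) c hc
    · have h1 := pow_card_eq_one' (x := (⟨_, hm⟩ : Subgroup.center E))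
      rw [hext.2, pow_two] at h1
      exact congrArg Subtype.val (congrArg Subtype.val h1)
  intro x hx y hy
  have key : (⁅(⟨x, hx⟩ : R), (⟨y, hy⟩ : R)⁆ : R) ∈ Subgroup.center R ∧
      (⁅(⟨x, hx⟩ : R), (⟨y, hy⟩ : R)⁆ : R) * (⁅(⟨x, hx⟩ : R), (⟨y, hy⟩ : R)⁆ : R) = 1 := by
    haveI : C.Normal := ⟨fun n hn w => by rw [Subgroup.mem_center_iff.mp (hC' hn) w, mul_inv_cancel_right]; exact hn⟩
    obtain ⟨a, ha, c, hc, e1⟩ := Subgroup.mem_sup_of_normal_right.mp (hall ⟨x, hx⟩)
    obtain ⟨b, hb, d, hd, e2⟩ := Subgroup.mem_sup_of_normal_right.mp (hall ⟨y, hy⟩)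
    have hcz : ∀ w : R, w * c = c * w := fun w => Subgroup.mem_center_iff.mp (hC' hc) w
    have hdz : ∀ w : R, w * d = d * w := fun w => Subgroup.mem_center_iff.mp (hC' hd) w
    have e3 : ⁅a * c, b * d⁆ = ⁅a, b⁆ := by
      simp only [commutatorElement_def]
      calc a * c * (b * d) * (a * c)⁻¹ * (b * d)⁻¹ = a * (c * b) * d * c⁻¹ * a⁻¹ * d⁻¹ * b⁻¹ := by group
        _ = a * b * (c * d * c⁻¹) * a⁻¹ * d⁻¹ * b⁻¹ := by rw [← hcz b]; group
        _ = a * b * (d * a⁻¹) * d⁻¹ * b⁻¹ := by rw [← hcz d, mul_inv_cancel_right]; group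
        _ = a * b * a⁻¹ * b⁻¹ := by rw [← hdz a⁻¹]; group
    rw [← e1, ← e2, e3]
    exact hEE a ha b hb
  obtain ⟨s, hs⟩ := scalar_of_central hirr key.1
  set q : GG := ((⁅(⟨x, hx⟩ : R), (⟨y, hy⟩ : R)⁆ : R) : GG) with hq
  have hqq : q * q = 1 := congrArg Subtype.val key.2
  have hs2 : s * s = 1 := by
    have h := congrArg (fun a : GG => (a : MM)) hqq
    simp only [Units.val_mul, Units.val_one] at h
    rw [hs, smul_mul_smul_comm, one_mul] at h
    exact smul_left_injective F (M := MM) (m := (1 : MM)) one_ne_zero (h.trans (one_smul F (1 : MM)).symm)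
  have hxy : x * y = q * (y * x) := by
    rw [hq]; simp [commutatorElement_def, mul_assoc]
  have hM : (x : MM) * (y : MM) = s • ((y : MM) * (x : MM)) := by
    rw [← Units.val_mul, hxy, Units.val_mul, hs, smul_mul_assoc, one_mul, Units.val_mul]
  rcases mul_self_eq_one_iff.mp hs2 with rfl | rfl
  · exact ⟨0, Sg.comm.mpr (by rw [hM, one_smul])⟩
  · exact ⟨1, Sg.anti.mpr (by rw [hM, neg_one_smul])⟩

variable {R : Subgroup (GL ι F)}

/-- Two commuting pairs of anticommuting elements. -/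
structure Quad (R : Subgroup (GL ι F)) (a b c d : GL ι F) : Prop where
  mem : a ∈ R ∧ b ∈ R ∧ c ∈ R ∧ d ∈ R
  ab : Sg 1 (a : Matrix ι ι F) (b : Matrix ι ι F)
  cd : Sg 1 (c : Matrix ι ι F) (d : Matrix ι ι F)
  ac : Sg 0 (a : Matrix ι ι F) (c : Matrix ι ι F)
  ad : Sg 0 (a : Matrix ι ι F) (d : Matrix ι ι F)
  bc : Sg 0 (b : Matrix ι ι F) (c : Matrix ι ι F)
  bd : Sg 0 (b : Matrix ι ι F) (d : Matrix ι ι F)

theorem exists_quad (h4 : Fintype.card ι = 4) (h2 : (2 : F) ≠ 0) (hsig : Signed R)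
    (hirr : Cfsg.Geo.ActsAbsolutelyIrreducibly (Cfsg.Geo.matrixSet R))
    (he : ∀ x ∈ R, x ^ 4 = 1) (hcard : 32 ≤ Nat.card R) : ∃ a b c d, Quad R a b c d := by
  classical
  haveI : Nonempty ι := Fintype.card_pos_iff.mp (by omega)
  have hpart : ∀ a ∈ R, (∀ s : F, (a : MM) ≠ s • 1) → ∃ b ∈ R, Sg 1 (a : MM) (b : MM) := by
    intro a ha hns
    by_contra hcon
    push Not at hcon
    obtain ⟨s, hs⟩ := hirr.2 (a : MM) (by
      rintro _ ⟨y, hy, rfl⟩
      obtain ⟨t, ht⟩ := hsig a ha y hy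
      rcases zmod2_cases t with rfl | rfl
      · exact Sg.comm.mp ht
      · exact absurd ht (hcon y hy))
    exact hns s hs
  obtain ⟨a, ha, hans⟩ : ∃ a ∈ R, ∀ s : F, (a : MM) ≠ s • 1 := by
    by_contra hcon
    push Not at hcon
    haveI : Nontrivial ι := Fintype.one_lt_card_iff_nontrivial.mp (by omega)
    obtain ⟨i, j, hij⟩ := exists_pair_ne ι
    obtain ⟨s, hs⟩ := hirr.2 (Matrix.single i j 1) (by
      rintro _ ⟨y, hy, rfl⟩
      obtain ⟨t, ht⟩ := hcon y hy
      simp only [ht, mul_smul_comm, smul_mul_assoc, mul_one, one_mul])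
    have := congrFun (congrFun hs i) j
    simp [hij] at this
  obtain ⟨b, hb, hab⟩ := hpart a ha hans
  let K : Set GG := {x | x ∈ R ∧ Sg 0 (a : MM) (x : MM) ∧ Sg 0 (b : MM) (x : MM)}
  have adj : ∀ x ∈ R, ∃ w ∈ R, (w = 1 ∨ w = a ∨ w = b ∨ w = a * b) ∧ x * w ∈ K := by
    intro x hx
    obtain ⟨s, hs⟩ := hsig a ha x hx
    obtain ⟨t, ht⟩ := hsig b hb x hx
    rcases zmod2_cases s with rfl | rfl <;> rcases zmod2_cases t with rfl | rfl
    · exact ⟨1, one_mem R, Or.inl rfl, by rw [mul_one]; exact ⟨hx, hs, ht⟩⟩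
    · refine ⟨a, ha, Or.inr (Or.inl rfl), mul_mem hx ha, ?_, ?_⟩ <;> rw [Units.val_mul]
      · simpa using hs.mul_right (Sg.refl (a : MM))
      · simpa [show (1 : ZMod 2) + 1 = 0 from rfl] using ht.mul_right hab.symm
    · refine ⟨b, hb, Or.inr (Or.inr (Or.inl rfl)), mul_mem hx hb, ?_, ?_⟩ <;> rw [Units.val_mul]
      · simpa [show (1 : ZMod 2) + 1 = 0 from rfl] using hs.mul_right hab
      · simpa using ht.mul_right (Sg.refl (b : MM))
    · refine ⟨a * b, mul_mem ha hb, Or.inr (Or.inr (Or.inr rfl)), mul_mem hx (mul_mem ha hb), ?_, ?_⟩ <;>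
        rw [Units.val_mul, Units.val_mul]
      · simpa [show (1 : ZMod 2) + 1 = 0 from rfl] using hs.mul_right ((Sg.refl (a : MM)).mul_right hab)
      · simpa [show (1 : ZMod 2) + 1 = 0 from rfl] using ht.mul_right (hab.symm.mul_right (Sg.refl (b : MM)))
  obtain ⟨c, hcK, hcns⟩ : ∃ c ∈ K, ∀ s : F, (c : MM) ≠ s • 1 := by
    by_contra hcon
    push Not at hcon
    choose w hw hw4 hwK using adj
    choose s hs using hcon
    let roots : Finset F := (Polynomial.nthRoots 4 (1 : F)).toFinset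
    have hroot : ∀ x (hx : x ∈ R), s _ (hwK x hx) ∈ roots := fun x hx => by
      have h := congrArg (fun u : GG => (u : MM)) (he _ (hwK x hx).1)
      simp only [Units.val_pow_eq_pow_val, hs _ (hwK x hx), _root_.smul_pow, one_pow, Units.val_one] at h
      rw [Multiset.mem_toFinset, Polynomial.mem_nthRoots (by norm_num)]
      exact smul_left_injective F (M := MM) (m := (1 : MM)) one_ne_zero (h.trans (one_smul F (1 : MM)).symm)
    let ws : Finset GG := {1, a, b, a * b}
    let Φ : R → ws × roots := fun x =>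
      (⟨w x.1 x.2, by rcases hw4 x.1 x.2 with h | h | h | h <;> simp [ws, h]⟩, ⟨_, hroot x.1 x.2⟩)
    have hinj : Function.Injective Φ := fun x y hxy => by
      have h1 : w x.1 x.2 = w y.1 y.2 := congrArg (fun z => (z.1.1 : GG)) hxy
      have h2 : s _ (hwK x.1 x.2) = s _ (hwK y.1 y.2) := congrArg (fun z => (z.2.1 : F)) hxy
      have h3 : x.1 * w x.1 x.2 = y.1 * w y.1 y.2 := Units.ext (by rw [hs _ (hwK x.1 x.2), hs _ (hwK y.1 y.2), h2])
      rw [h1] at h3
      exact Subtype.ext (mul_right_cancel h3)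
    have h1 := Nat.card_le_card_of_injective Φ hinj
    rw [Nat.card_prod, Nat.card_eq_finsetCard, Nat.card_eq_finsetCard] at h1
    have h2 : ws.card ≤ 4 := Finset.card_le_four
    have h3 : roots.card ≤ 4 := (Multiset.toFinset_card_le _).trans (Polynomial.card_nthRoots 4 1)
    have := Nat.mul_le_mul h2 h3
    omega
  obtain ⟨d0, hd0, hcd0⟩ := hpart c hcK.1 hcns
  obtain ⟨w, hw, hw4, hdK⟩ := adj d0 hd0
  refine ⟨a, b, c, d0 * w, ⟨ha, hb, hcK.1, hdK.1⟩, hab, ?_, hcK.2.1, hdK.2.1, hcK.2.2, hdK.2.2⟩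
  have hcw : Sg 0 (c : MM) (w : MM) := by
    rcases hw4 with rfl | rfl | rfl | rfl
    · exact Sg.one_right _
    · exact hcK.2.1.symm
    · exact hcK.2.2.symm
    · have := hcK.2.1.symm.mul_right hcK.2.2.symm; simpa using this
  simpa using hcd0.mul_right hcw

/-- Squares are signs. -/
theorem sq_sign (h4 : Fintype.card ι = 4) (hsig : Signed R)
    (hirr : Cfsg.Geo.ActsAbsolutelyIrreducibly (Cfsg.Geo.matrixSet R)) (he : ∀ x ∈ R, x ^ 4 = 1) {x : GG} (hx : x ∈ R) :
    (x : MM) * x = 1 ∨ (x : MM) * x = -1 := by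
  haveI : Nonempty ι := Fintype.card_pos_iff.mp (by omega)
  obtain ⟨s, hs⟩ := hirr.2 ((x * x : GG) : MM) (by
    rintro _ ⟨y, hy, rfl⟩
    obtain ⟨t, ht⟩ := hsig x hx y hy
    have h := ht.mul_left ht
    rw [CharTwo.add_self_eq_zero, Sg.comm, ← Units.val_mul] at h
    exact h)
  have h := congrArg (fun u : GG => (u : MM)) (he x hx)
  simp only [show x ^ 4 = (x * x) * (x * x) by simp [pow_succ, mul_assoc], Units.val_mul (x * x), hs, smul_mul_smul_comm,
    one_mul, Units.val_one] at h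
  rw [← Units.val_mul, hs]
  rcases mul_self_eq_one_iff.mp (smul_left_injective F (M := MM) (m := (1 : MM)) one_ne_zero
    (h.trans (one_smul F (1 : MM)).symm)) with e | e
  · left; rw [e, one_smul]
  · right; rw [e, neg_one_smul]

theorem Quad.frame {a b c d : GL ι F} (h4 : Fintype.card ι = 4) (h2 : (2 : F) ≠ 0) (hsig : Signed R)
    (Q : Quad R a b c d) (hqa : (a : Matrix ι ι F) * a = 1) (hqb : (b : Matrix ι ι F) * b = 1)
    {z : GL ι F} (hz : z ∈ R) {s : F} (hzs : (z : Matrix ι ι F) = s • 1)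
    (hqc : (z : Matrix ι ι F) * (z : Matrix ι ι F) * ((c : Matrix ι ι F) * c) = -1)
    (hqd : (z : Matrix ι ι F) * (z : Matrix ι ι F) * ((d : Matrix ι ι F) * d) = -1) :
    ∃ g, Frame R g := by
  have hzc : ∀ B : MM, Sg 0 (z : MM) B := fun B => Sg.comm.mpr (by rw [hzs, smul_mul_assoc, one_mul, mul_smul_comm, mul_one])
  have hab' : Sg 1 ((a * b : GG) : MM) (a : MM) := by rw [Units.val_mul]; simpa using (Sg.refl (a : MM)).mul_left Q.ab.symm
  have hab'' : Sg 1 ((a * b : GG) : MM) (b : MM) := by rw [Units.val_mul]; simpa using Q.ab.mul_left (Sg.refl (b : MM))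
  have mk : ∀ e : GG, Sg 0 (a : MM) (e : MM) → Sg 0 (b : MM) (e : MM) →
      Sg 1 ((z * (a * b * e) : GG) : MM) (a : MM) ∧ Sg 1 ((z * (a * b * e) : GG) : MM) (b : MM) := fun e hae hbe => by
    constructor <;> rw [Units.val_mul, Units.val_mul (a * b)]
    · simpa using (hzc (a : MM)).mul_left (hab'.mul_left hae.symm)
    · simpa using (hzc (b : MM)).mul_left (hab''.mul_left hbe.symm)
  have cs : ∀ e : GG, Sg 0 (a : MM) (e : MM) → Sg 0 (b : MM) (e : MM) → (z : MM) * (z : MM) * ((e : MM) * e) = -1 →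
      (z * (a * b * e)) * (z * (a * b * e)) = 1 := fun e hae hbe he => by
    refine Units.ext ?_
    have hcm : ((a * b : GG) : MM) * (e : MM) = (e : MM) * ((a * b : GG) : MM) := by
      rw [Units.val_mul]; exact Sg.comm.mp (by simpa using hae.mul_left hbe)
    have hz' : ∀ X : MM, X * (z : MM) = (z : MM) * X := fun X => (Sg.comm.mp (hzc X)).symm
    rw [Units.val_mul, Units.val_mul z, Units.val_mul (a * b), Units.val_one,
      show (z : MM) * (((a * b : GG) : MM) * (e : MM)) * ((z : MM) * (((a * b : GG) : MM) * (e : MM))) =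
        (z : MM) * (z : MM) * ((((a * b : GG) : MM) * (e : MM)) * (((a * b : GG) : MM) * (e : MM))) by
        rw [mul_assoc (z : MM), ← mul_assoc (((a * b : GG) : MM) * (e : MM)), hz' (((a * b : GG) : MM) * (e : MM))]
        simp only [mul_assoc],
      mul_assoc ((a * b : GG) : MM), ← mul_assoc (e : MM), ← hcm, mul_assoc ((a * b : GG) : MM) (e : MM),
      ← mul_assoc ((a * b : GG) : MM) ((a * b : GG) : MM), Units.val_mul a b, mul_assoc (a : MM),
      ← mul_assoc (b : MM) (a : MM), Sg.anti.mp Q.ab.symm, neg_mul, mul_assoc (a : MM) (b : MM) (b : MM), hqb, mul_one,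
      mul_neg, hqa, neg_one_mul, mul_neg, he, neg_neg]
  obtain ⟨ma, mb, mc, md⟩ := Q.mem
  have g23 : Sg 1 ((z * (a * b * c) : GG) : MM) ((z * (a * b * d) : GG) : MM) := by
    have t1 : Sg 0 ((a * b : GG) : MM) (c : MM) := by rw [Units.val_mul]; simpa using Q.ac.mul_left Q.bc
    have t2 : Sg 0 ((a * b : GG) : MM) (d : MM) := by rw [Units.val_mul]; simpa using Q.ad.mul_left Q.bd
    rw [Units.val_mul z, Units.val_mul z, Units.val_mul (a * b) c, Units.val_mul (a * b) d]
    have u1 : Sg 1 (((a * b : GG) : MM) * (c : MM)) (((a * b : GG) : MM) * (d : MM)) := by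
      simpa using ((Sg.refl ((a * b : GG) : MM)).mul_right t2).mul_left (t1.symm.mul_right Q.cd)
    simpa using (hzc _).mul_left ((hzc _).symm.mul_right u1)
  have hw : ∀ k : Fin 4, ![a, b, z * (a * b * c), z * (a * b * d)] k ∈ R := fun k => by
    fin_cases k
    exacts [ma, mb, mul_mem hz (mul_mem (mul_mem ma mb) mc), mul_mem hz (mul_mem (mul_mem ma mb) md)]
  refine ⟨![a, b, z * (a * b * c), z * (a * b * d)], h4, h2, hsig, hw, fun k => ?_, fun j k hjk => ?_⟩
  · fin_cases k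
    exacts [Units.ext (by simp [hqa]), Units.ext (by simp [hqb]),
      cs c Q.ac Q.bc hqc, cs d Q.ad Q.bd hqd]
  · fin_cases j <;> fin_cases k
    all_goals first
      | exact absurd rfl hjk
      | exact Q.ab
      | exact Q.ab.symm
      | exact (mk c Q.ac Q.bc).1
      | exact (mk c Q.ac Q.bc).1.symm
      | exact (mk c Q.ac Q.bc).2
      | exact (mk c Q.ac Q.bc).2.symm
      | exact (mk d Q.ad Q.bd).1
      | exact (mk d Q.ad Q.bd).1.symm
      | exact (mk d Q.ad Q.bd).2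
      | exact (mk d Q.ad Q.bd).2.symm
      | exact g23
      | exact g23.symm

/-- Frames of groups containing a square root of `-1`. -/
theorem frame_of_i' (h4 : Fintype.card ι = 4) (h2 : (2 : F) ≠ 0) (hR : Cfsg.Geo.IsSymplecticTypeGroup 2 R)
    (hirr : Cfsg.Geo.ActsAbsolutelyIrreducibly (Cfsg.Geo.matrixSet R)) (hcard : 32 ≤ Nat.card R)
    (hZ : Nat.card (Subgroup.center R) = 4) :
    ∃ (g : Fin 4 → GG) (ic : GG) (i : F), Frame R g ∧ ic ∈ R ∧ (ic : MM) = i • 1 ∧ i * i = -1 := by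
  classical
  haveI : Nonempty ι := Fintype.card_pos_iff.mp (by omega)
  have hsig := signed_of_type h2 (by omega) hR hirr
  have he : ∀ x ∈ R, x ^ 4 = 1 := fun x hx => congrArg Subtype.val (four_of_exponent hR ⟨x, hx⟩)
  obtain ⟨ic, hic, i, hii, hi⟩ : ∃ ic : GG, ic ∈ R ∧ ∃ i : F, (ic : MM) = i • 1 ∧ i * i = -1 := by
    choose s hs using fun c : Subgroup.center R => scalar_of_central hirr c.2
    by_contra hcon
    have hsq : ∀ c, s c ∈ ({1, -1} : Finset F) := fun c => by
      rcases sq_sign h4 hsig hirr he (c.1 : R).2 with h | h <;>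
        rw [hs, smul_mul_smul_comm, one_mul] at h
      · have h1 := smul_left_injective F (M := MM) (m := (1 : MM)) one_ne_zero (h.trans (one_smul F (1 : MM)).symm)
        rcases mul_self_eq_one_iff.mp h1 with e | e <;> simp [e]
      · exact absurd ⟨_, (c.1 : R).2, s c, hs c, smul_left_injective F (M := MM) (m := (1 : MM)) one_ne_zero
          (h.trans (neg_one_smul F (1 : MM)).symm)⟩ hcon
    have h1 := Nat.card_le_card_of_injective (fun c => (⟨s c, hsq c⟩ : ({1, -1} : Finset F))) fun c c' hcc =>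
      Subtype.ext (Subtype.ext (Units.ext (by rw [hs c, hs c', show s c = s c' from congrArg Subtype.val hcc])))
    rw [hZ, Nat.card_eq_finsetCard] at h1
    have := Finset.card_le_two (a := (1 : F)) (b := -1)
    omega
  obtain ⟨a, b, c, d, Q⟩ := exists_quad h4 h2 hsig hirr he hcard
  have hnz : (ic : MM) * (ic : MM) = -1 := by rw [hii, smul_mul_smul_comm, hi, one_mul, neg_one_smul]
  have hicc : ∀ B : MM, Sg 0 (ic : MM) B := fun B => Sg.comm.mpr (by rw [hii, smul_mul_assoc, one_mul, mul_smul_comm, mul_one])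
  have fix : ∀ x ∈ R, ∃ x' ∈ R, (x' : MM) * x' = 1 ∧ ∀ y : GG, ∀ t, Sg t (x : MM) (y : MM) → Sg t (x' : MM) (y : MM) := by
    intro x hx
    rcases sq_sign h4 hsig hirr he hx with h | h
    · exact ⟨x, hx, h, fun y t h => h⟩
    · refine ⟨ic * x, mul_mem hic hx, ?_, fun y t ht => ?_⟩
      · rw [Units.val_mul, hii, smul_mul_assoc, one_mul, smul_mul_smul_comm, hi, h, neg_one_smul, neg_neg]
      · rw [Units.val_mul]; simpa using (hicc _).mul_left ht
  obtain ⟨a', ha', hqa, fa⟩ := fix a Q.mem.1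
  obtain ⟨b', hb', hqb, fb⟩ := fix b Q.mem.2.1
  obtain ⟨c', hc', hqc, fc⟩ := fix c Q.mem.2.2.1
  obtain ⟨d', hd', hqd, fd⟩ := fix d Q.mem.2.2.2
  have Q' : Quad R a' b' c' d' :=
    ⟨⟨ha', hb', hc', hd'⟩, fa _ _ (fb _ _ Q.ab.symm).symm, fc _ _ (fd _ _ Q.cd.symm).symm, fa _ _ (fc _ _ Q.ac.symm).symm,
      fa _ _ (fd _ _ Q.ad.symm).symm, fb _ _ (fc _ _ Q.bc.symm).symm, fb _ _ (fd _ _ Q.bd.symm).symm⟩
  obtain ⟨g, hg⟩ := Q'.frame h4 h2 hsig hqa hqb hic hii (by rw [hnz, hqc, mul_one]) (by rw [hnz, hqd, mul_one])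
  exact ⟨g, ic, i, hg, hic, hii, hi⟩

/-- Frames of groups of order 64 containing a square root of `-1`. -/
theorem frame_of_i (h4 : Fintype.card ι = 4) (h2 : (2 : F) ≠ 0) (hR : Cfsg.Geo.IsSymplecticTypeGroup 2 R)
    (hirr : Cfsg.Geo.ActsAbsolutelyIrreducibly (Cfsg.Geo.matrixSet R)) (hcard : Nat.card R = 2 ^ 6)
    (hZ : Nat.card (Subgroup.center R) = 4) :
    ∃ (g : Fin 4 → GG) (ic : GG) (i : F), Frame R g ∧ ic ∈ R ∧ (ic : MM) = i • 1 ∧ i * i = -1 :=
  frame_of_i' h4 h2 hR hirr (by rw [hcard]; norm_num) hZ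

/-- Frames of groups of minus type. -/
theorem frame_of_minus (h4 : Fintype.card ι = 4) (h2 : (2 : F) ≠ 0) (hR : Cfsg.Geo.IsSymplecticTypeGroup 2 R)
    (hirr : Cfsg.Geo.ActsAbsolutelyIrreducibly (Cfsg.Geo.matrixSet R)) (hcard : Nat.card R = 2 ^ 5)
    (hm : Cfsg.Geo.IsOfMinusType 2 R) : ∃ g : Fin 4 → GG, Frame R g := by
  classical
  haveI : Nonempty ι := Fintype.card_pos_iff.mp (by omega)
  have hsig := signed_of_type h2 (by omega) hR hirr
  have he : ∀ x ∈ R, x ^ 4 = 1 := fun x hx => congrArg Subtype.val (four_of_exponent hR ⟨x, hx⟩)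
  obtain ⟨a, b, c, d, Q⟩ := exists_quad h4 h2 hsig hirr he (by rw [hcard]; norm_num)
  have swap : ∀ {a b c d : GG}, Quad R a b c d → Quad R c d a b := fun Q =>
    ⟨⟨Q.mem.2.2.1, Q.mem.2.2.2, Q.mem.1, Q.mem.2.1⟩, Q.cd, Q.ab, Q.ac.symm, Q.bc.symm, Q.ad.symm, Q.bd.symm⟩
  have hpair : ∀ {a b c d : GG}, Quad R a b c d → ∃ a' b' : GG, Quad R a' b' c d ∧
      (((a' : MM) * a' = 1 ∧ (b' : MM) * b' = 1) ∨ ((a' : MM) * a' = -1 ∧ (b' : MM) * b' = -1)) := by
    intro a b c d Q
    have hm2 : Sg 0 ((a * b : GG) : MM) (c : MM) ∧ Sg 0 ((a * b : GG) : MM) (d : MM) := by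
      constructor <;> rw [Units.val_mul]
      · simpa using Q.ac.mul_left Q.bc
      · simpa using Q.ad.mul_left Q.bd
    have hsq : ((a * b : GG) : MM) * ((a * b : GG) : MM) = -((a : MM) * a * ((b : MM) * b)) := by
      rw [Units.val_mul, mul_assoc, ← mul_assoc (b : MM), Sg.anti.mp Q.ab.symm]
      simp only [neg_mul, mul_neg, mul_assoc]
    rcases sq_sign h4 hsig hirr he Q.mem.1 with ha | ha <;> rcases sq_sign h4 hsig hirr he Q.mem.2.1 with hb | hb
    · exact ⟨a, b, Q, Or.inl ⟨ha, hb⟩⟩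
    · refine ⟨a, a * b, ⟨⟨Q.mem.1, mul_mem Q.mem.1 Q.mem.2.1, Q.mem.2.2.1, Q.mem.2.2.2⟩, ?_, Q.cd, Q.ac, Q.ad, hm2.1, hm2.2⟩, Or.inl ⟨ha, ?_⟩⟩
      · rw [Units.val_mul]; simpa using (Sg.refl (a : MM)).mul_right Q.ab
      · rw [hsq, ha, hb]; simp
    · refine ⟨a * b, b, ⟨⟨mul_mem Q.mem.1 Q.mem.2.1, Q.mem.2.1, Q.mem.2.2.1, Q.mem.2.2.2⟩, ?_, Q.cd, hm2.1, hm2.2, Q.bc, Q.bd⟩, Or.inl ⟨?_, hb⟩⟩
      · rw [Units.val_mul]; simpa using Q.ab.mul_left (Sg.refl (b : MM))
      · rw [hsq, ha, hb]; simp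
    · exact ⟨a, b, Q, Or.inr ⟨ha, hb⟩⟩
  -- three independent commuting involutions contradict minus type
  have hbad : ∀ x y : GG, x ∈ R → y ∈ R → (x : MM) * x = 1 → (y : MM) * y = 1 → (-1 : GG) ∈ R → Sg 0 (x : MM) (y : MM) →
      (∃ u : GG, Sg 1 (u : MM) (x : MM) ∧ Sg 0 (u : MM) (y : MM)) → (∃ v : GG, Sg 0 (v : MM) (x : MM) ∧ Sg 1 (v : MM) (y : MM)) →
      False := by
    intro x y hx hy hx2 hy2 hn hxy ⟨u, hux, huy⟩ ⟨v, hvx, hvy⟩
    let S : Set R := {⟨-1, hn⟩, ⟨x, hx⟩, ⟨y, hy⟩}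
    have hS : ∀ p ∈ S, ∀ q ∈ S, p * q = q * p := by
      have hn' : ∀ q : R, (⟨-1, hn⟩ : R) * q = q * ⟨-1, hn⟩ := fun q => Subtype.ext (by simp)
      have hxy' : (⟨x, hx⟩ : R) * ⟨y, hy⟩ = ⟨y, hy⟩ * ⟨x, hx⟩ := Subtype.ext (Units.ext (by
        show ((x * y : GG) : MM) = ((y * x : GG) : MM)
        rw [Units.val_mul, Units.val_mul]; exact Sg.comm.mp hxy))
      intro p hp q hq
      rcases hp with rfl | rfl | rfl
      · exact hn' q
      · rcases hq with rfl | rfl | rfl
        exacts [(hn' _).symm, rfl, hxy']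
      · rcases hq with rfl | rfl | rfl
        exacts [(hn' _).symm, hxy'.symm, rfl]
    have hA := Subgroup.isMulCommutative_closure (k := S) hS
    have hsqA : ∀ p ∈ Subgroup.closure S, p * p = 1 := fun p hp => by
      induction hp using Subgroup.closure_induction with
      | mem p hp =>
        rcases hp with rfl | rfl | rfl
        · exact Subtype.ext (by simp)
        · exact Subtype.ext (Units.ext (by simp [hx2]))
        · exact Subtype.ext (Units.ext (by simp [hy2]))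
      | one => exact one_mul 1
      | mul p q hp hq h1 h2 =>
        have hc := congrArg Subtype.val (hA.is_comm.comm ⟨q, hq⟩ ⟨p, hp⟩)
        calc p * q * (p * q) = p * (q * p) * q := by group
          _ = p * (p * q) * q := by rw [show q * p = p * q from hc]
          _ = (p * p) * (q * q) := by group
          _ = 1 := by rw [h1, h2, one_mul]
      | inv p hp h1 => rw [← _root_.mul_inv_rev, h1, inv_one]
    refine absurd (hm (Subgroup.closure S) hA hsqA) (not_lt.mpr ?_)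
    let el : ZMod 2 × ZMod 2 × ZMod 2 → R := fun t =>
      (if t.1 = 0 then 1 else ⟨-1, hn⟩) * (if t.2.1 = 0 then 1 else ⟨x, hx⟩) * (if t.2.2 = 0 then 1 else ⟨y, hy⟩)
    have hel : ∀ t, el t ∈ Subgroup.closure S := fun t => by
      refine mul_mem (mul_mem ?_ ?_) ?_ <;> split_ifs <;>
        first | exact one_mem _ | exact Subgroup.subset_closure (by simp [S])
    have hval : ∀ t, ((el t : GG) : MM) = eps (F := F) t.1 • ((if t.2.1 = 0 then (1 : MM) else (x : MM)) *
        (if t.2.2 = 0 then (1 : MM) else (y : MM))) := fun t => by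
      simp only [el, eps]
      split_ifs <;> simp
    have hsgn : ∀ (w : GG) (p q : ZMod 2), Sg p (w : MM) (x : MM) → Sg q (w : MM) (y : MM) → ∀ t,
        Sg ((if t.2.1 = 0 then 0 else p) + (if t.2.2 = 0 then 0 else q)) (w : MM) ((el t : GG) : MM) := fun w p q hp hq t => by
      rw [hval]
      refine (Sg.smul_left ?_ _).symm
      refine (Sg.mul_right ?_ ?_).symm <;> split_ifs <;> first | exact Sg.one_right _ | exact hp | exact hq
    have hinj : Function.Injective fun t => (⟨el t, hel t⟩ : Subgroup.closure S) := fun t t' htt => by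
      have he' : el t = el t' := congrArg Subtype.val htt
      have e1 := Sg.unique h2 (a := u) (b := (el t : GG)) (hsgn u 1 0 hux huy t) (he' ▸ hsgn u 1 0 hux huy t')
      have e2 := Sg.unique h2 (a := v) (b := (el t : GG)) (hsgn v 0 1 hvx hvy t) (he' ▸ hsgn v 0 1 hvx hvy t')
      simp only [ite_self, add_zero, zero_add] at e1 e2
      have k : ∀ p q : ZMod 2, (if p = 0 then (0 : ZMod 2) else 1) = (if q = 0 then 0 else 1) → p = q := by decide
      have f1 := k _ _ e1
      have f2 := k _ _ e2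
      have f3 : t.1 = t'.1 := by
        refine eps_inj h2 (smul_left_injective F (M := MM)
          (m := (if t.2.1 = 0 then (1 : MM) else (x : MM)) * (if t.2.2 = 0 then (1 : MM) else (y : MM))) ?_ ?_)
        · split_ifs <;> simp only [one_mul, mul_one, ← Units.val_mul] <;> first | exact one_ne_zero | exact Units.ne_zero _
        · have h3 := hval t
          rw [he', hval t', ← f1, ← f2] at h3
          exact h3.symm
      exact Prod.ext f3 (Prod.ext f1 f2)
    have h := Nat.card_le_card_of_injective _ hinj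
    simpa [Nat.card_eq_fintype_card, ZMod.card] using h
  obtain ⟨a', b', Q1, h1⟩ := hpair Q
  obtain ⟨c', d', Q2', h2'⟩ := hpair (swap Q1)
  have Q2 := swap Q2'
  have hneg : (-1 : GG) ∈ R := by
    obtain ⟨ma, mb, -, -⟩ := Q2.mem
    have e : a' * b' * a'⁻¹ * b'⁻¹ = -1 := by
      rw [show a' * b' = -1 * (b' * a') from Units.ext (by
        rw [Units.val_mul, Units.val_mul, Units.val_mul, Units.val_neg, Units.val_one, neg_one_mul]; exact Sg.anti.mp Q2.ab)]
      group
    exact e ▸ mul_mem (mul_mem (mul_mem ma mb) (inv_mem ma)) (inv_mem mb)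
  obtain ⟨ma, mb, mc, md⟩ := Q2.mem
  rcases h1 with ⟨qa, qb⟩ | ⟨qa, qb⟩ <;> rcases h2' with ⟨qc, qd⟩ | ⟨qc, qd⟩
  · exact (hbad a' c' ma mc qa qc hneg Q2.ac ⟨b', Q2.ab.symm, Q2.bc⟩ ⟨d', Q2.ad.symm, Q2.cd.symm⟩).elim
  · exact Q2.frame h4 h2 hsig qa qb (one_mem R) (s := 1) (by simp) (by simp [qc]) (by simp [qd])
  · exact (swap Q2).frame h4 h2 hsig qc qd (one_mem R) (s := 1) (by simp) (by simp [qa]) (by simp [qb])
  · refine (hbad (a' * c') (b' * d') (mul_mem ma mc) (mul_mem mb md) ?_ ?_ hneg ?_ ⟨b', ?_, ?_⟩ ⟨a', ?_, ?_⟩).elim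
    · rw [Units.val_mul, mul_assoc, ← mul_assoc (c' : MM), ← Sg.comm.mp Q2.ac, mul_assoc (a' : MM) (c' : MM), qc]
      simp [qa]
    · rw [Units.val_mul, mul_assoc, ← mul_assoc (d' : MM), ← Sg.comm.mp Q2.bd, mul_assoc (b' : MM) (d' : MM), qd]
      simp [qb]
    · rw [Units.val_mul, Units.val_mul]
      simpa [show (1 : ZMod 2) + 1 = 0 from rfl] using (Q2.ab.mul_right Q2.ad).mul_left (Q2.bc.symm.mul_right Q2.cd)
    · rw [Units.val_mul]; simpa using Q2.ab.symm.mul_right Q2.bc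
    · rw [Units.val_mul]; simpa using (Sg.refl (b' : MM)).mul_right Q2.bd
    · rw [Units.val_mul]; simpa using (Sg.refl (a' : MM)).mul_right Q2.ac
    · rw [Units.val_mul]; simpa using Q2.ab.mul_right Q2.ad

end Cfsg.Lib.Classical.TwoSix
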