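import Mathlib
import Cfsg.Agent.Classical.Misc.TwoSix.Generic
import Cfsg.Agent.Classical.Misc.TwoSix.Structure
import Cfsg.Agent.Known.SemisimpleSimilar

/-! `SL₄(p)`. -/

set_option autoImplicit false
set_option linter.unusedSimpArgs false
set_option linter.unusedSectionVars false
set_option linter.unusedVariables false
set_option linter.style.haveILetI false
set_option linter.flexible false

namespace Cfsg.Lib.Classical.TwoSix

open Matrix Polynomial Cfsg.Lib.Classical
open scoped MatrixGroups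

universe u

variable {F : Type u} [Field F] [Fintype F]

local notation "GG" => GL (Fin 4) F
local notation "MM" => Matrix (Fin 4) (Fin 4) F

theorem mem_SL_iff (x : GG) : x ∈ Cfsg.Geo.specialLinear (Fin 4) F ↔ (x : MM).det = 1 := by
  rw [Cfsg.Geo.specialLinear, MonoidHom.mem_ker, Units.ext_iff]
  rfl

/-- The element `diag(w, w, w, 1)`. -/
def splitGL (w : F) (hw : w ^ 3 = 1) : GG :=
  ⟨Matrix.diagonal ![w, w, w, 1], Matrix.diagonal ![w ^ 2, w ^ 2, w ^ 2, 1],
    by rw [Matrix.diagonal_mul_diagonal, ← Matrix.diagonal_one]; congr 1; funext k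
       fin_cases k <;> simp [← pow_succ', hw],
    by rw [Matrix.diagonal_mul_diagonal, ← Matrix.diagonal_one]; congr 1; funext k
       fin_cases k <;> simp [← pow_succ, hw]⟩

theorem splitGL_pow (w : F) (hw : w ^ 3 = 1) : (splitGL w hw : GG) ^ 3 = 1 := by
  refine Units.ext ?_
  rw [Units.val_pow_eq_pow_val, Units.val_one]
  show Matrix.diagonal ![w, w, w, 1] ^ 3 = (1 : MM)
  rw [Matrix.diagonal_pow, ← Matrix.diagonal_one]
  congr 1; funext k
  fin_cases k <;> simp [hw]

theorem splitGL_det (w : F) (hw : w ^ 3 = 1) : ((splitGL w hw : GG) : MM).det = 1 := by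
  show (Matrix.diagonal ![w, w, w, 1]).det = 1
  rw [Matrix.det_diagonal, Fin.prod_univ_four]
  simp
  linear_combination hw

theorem splitGL_trace (w : F) (hw : w ^ 3 = 1) :
    ((splitGL w hw : GG) : MM).trace = 3 * w + 1 ∧ (((splitGL w hw : GG)⁻¹ : GG) : MM).trace = 3 * w ^ 2 + 1 := by
  constructor
  · show (Matrix.diagonal ![w, w, w, 1]).trace = _
    rw [Matrix.trace_diagonal, Fin.sum_univ_four]; simp; ring
  · show (Matrix.diagonal ![w ^ 2, w ^ 2, w ^ 2, 1]).trace = _
    rw [Matrix.trace_diagonal, Fin.sum_univ_four]; simp; ring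

theorem exists_cube_root (h : 3 ∣ Fintype.card F - 1) : ∃ w : F, w ^ 3 = 1 ∧ w ^ 2 + w + 1 = 0 := by
  classical
  haveI : Fact (Nat.Prime 3) := ⟨Nat.prime_three⟩
  obtain ⟨u, hu⟩ := exists_prime_orderOf_dvd_card (G := Fˣ) 3 (by rwa [Fintype.card_units])
  have h3 : (u : F) ^ 3 = 1 := by rw [← Units.val_pow_eq_pow_val, ← hu, pow_orderOf_eq_one, Units.val_one]
  refine ⟨u, h3, ?_⟩
  have h1 : (u : F) - 1 ≠ 0 := sub_ne_zero.mpr fun e => by
    have : u = 1 := Units.ext e
    rw [this, orderOf_one] at hu; norm_num at hu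
  exact (mul_eq_zero.mp (show ((u : F) - 1) * ((u : F) ^ 2 + u + 1) = 0 by linear_combination h3)).resolve_left h1

variable {p : ℕ} [Fact p.Prime] [CharP F p]

theorem amb_linear (R : Subgroup GG) :
    Amb p (Cfsg.Geo.specialLinear (Fin 4) F) ⊤ R where
  le := le_top
  det_one x hx := (mem_SL_iff x).mp hx
  mem_of y _ hy := (mem_SL_iff y).mpr hy
  pairI := fun _ _ => Subgroup.mem_top _
  conj x hx y hy N hN hxN hyN hc := by
    let a : SL(4, F) := ⟨(x : MM), (mem_SL_iff x).mp hx⟩
    let b : SL(4, F) := ⟨(y : MM), (mem_SL_iff y).mp hy⟩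
    have ord : ∀ (x : GG) (a : SL(4, F)), (x : MM) = (a : MM) → x ^ N = 1 → (orderOf a).Coprime p := fun x a e h =>
      Nat.Coprime.coprime_dvd_left (orderOf_dvd_of_pow_eq_one (Subtype.ext (by
        rw [Matrix.SpecialLinearGroup.coe_pow, ← e, ← Units.val_pow_eq_pow_val, h, Units.val_one,
          Matrix.SpecialLinearGroup.coe_one]))) hN
    obtain ⟨c, hcc⟩ := isConj_iff.mp (SemisimpleSimilar.isConj_SL_of_charpoly a b (ord x a rfl hxN) (ord y b rfl hyN) hc)
    refine ⟨(Matrix.SpecialLinearGroup.toGL c)⁻¹, inv_mem ((mem_SL_iff _).mpr c.2), ?_⟩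
    rw [inv_inv, show x = Matrix.SpecialLinearGroup.toGL a from Units.ext rfl, ← map_inv, ← map_mul, ← map_mul, hcc]
    exact Units.ext rfl

theorem fix_two_linear (hF : Fintype.card F = p) (hp4 : p % 4 = 1) {R : Subgroup GG} {g : Fin 4 → GG} (S : Frame R g)
    {ic : GG} {i : F} (hiR : ic ∈ R) (hic : (ic : MM) = i • 1) (hi : i * i = -1) :
    Fixes (Cfsg.Geo.specialLinear (Fin 4) F) R 2 := by
  intro x hx ⟨z, hz⟩ hns
  have hd : (x : MM).det = 1 := (mem_SL_iff x).mp hx
  have hz4 := scalar_pow_four S.card_eq (amb_linear (p := p) R) hx hz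
  rw [Units.val_pow_eq_pow_val] at hz
  obtain ⟨s, hs⟩ : IsSquare z := by
    by_contra hsq
    have hm : (X ^ 2 - Polynomial.C z : F[X]).Monic := monic_X_pow_sub_C _ two_ne_zero
    have hirr : Irreducible (X ^ 2 - Polynomial.C z : F[X]) := by
      rw [Polynomial.irreducible_iff_roots_eq_zero_of_degree_le_three (by rw [natDegree_X_pow_sub_C])
        (by rw [natDegree_X_pow_sub_C]; norm_num)]
      refine Multiset.eq_zero_of_forall_notMem fun a ha => hsq ⟨a, ?_⟩
      rw [mem_roots hm.ne_zero] at ha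
      simp only [IsRoot, eval_sub, eval_pow, eval_X, Polynomial.eval_C] at ha
      linear_combination -ha
    obtain ⟨j, hj, hdim⟩ := SpIso.chi_pow (Matrix.toLin' (x : MM)) hm hirr (by
      rw [map_sub, map_pow, aeval_X, aeval_C, ← Matrix.toLin'_pow, hz, map_smul, Matrix.toLin'_one,
        Algebra.algebraMap_eq_smul_one]
      exact sub_self _)
    rw [Module.finrank_fin_fun, natDegree_X_pow_sub_C] at hdim
    rw [Matrix.charpoly_toLin', show j = 2 by omega] at hj
    have h1 := Matrix.det_eq_sign_charpoly_coeff (x : MM)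
    rw [hd, hj, coeff_zero_eq_eval_zero, Fintype.card_fin] at h1
    simp at h1
    have hz2 : z * z = 1 := by linear_combination -h1
    rcases mul_self_eq_one_iff.mp hz2 with rfl | rfl
    · exact hsq IsSquare.one
    · exact hsq ⟨i, hi.symm⟩
  subst hs
  refine fix_root S (amb_linear R) (fun e => by omega) hiR hic hi hx hns (fun e => ?_) hz
    (fun _ _ => ⟨Subgroup.mem_top _, Subgroup.mem_top _⟩)
  subst e
  simp at hz4

theorem linear_main (hF : Fintype.card F = p) (hp4 : p % 4 = 1) (R : Subgroup GG)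
    (hR : Cfsg.Geo.IsLinearSymplecticTypeData 2 R) (hR6 : Nat.card R = 2 ^ 6) (r : ℕ) [Fact r.Prime]
    (hΩ : r ∣ Nat.card (Cfsg.Geo.specialLinear (Fin 4) F)) :
    Fixes (Cfsg.Geo.specialLinear (Fin 4) F) R r ↔
      (r = 2 ∨ (r = 3 ∧ p % 3 = 2) ∨ (r = 5 ∧ orderOf (p : ZMod 5) = 4)) := by
  have hpP : p.Prime := Fact.out
  have h2 : (2 : F) ≠ 0 := by
    exact_mod_cast PrimeOrderPoly.cast_prime_ne_zero (F := F) (p := p) Nat.prime_two (fun e => by omega)
  have hZ : Nat.card (Subgroup.center R) = 4 := by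
    obtain ⟨q, e, -, -, h | h | h⟩ := hR.field
    · exact absurd h.1 (by decide)
    · exact h.2.2.1
    · exact absurd h.2.2.1 (by simp)
  obtain ⟨g, ic, i, S, hiR, hic, hi⟩ := frame_of_i (Fintype.card_fin 4) h2 hR.symplecticType hR.absIrred hR6 hZ
  have A := amb_linear (p := p) R
  let e : Fin 2 ⊕ Fin 2 ≃ Fin 4 := finSumFinEquiv
  have block : ∀ r : ℕ, Fact r.Prime → r ∣ p * (p ^ 2 - 1) →
      ∃ x ∈ Cfsg.Geo.specialLinear (Fin 4) F, ∃ M, Block x M r := by
    intro r hr hd
    obtain ⟨M, hM, hMr, hM1, -⟩ := exists_slTwo' (F := F) p hd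
    exact ⟨blockGL e M hM, (mem_SL_iff _).mpr (by rw [← hM]; exact blockMat_det e M), M, blockGL_block e hM hMr hM1⟩
  constructor
  · intro H
    by_contra hno
    have hr2 : r ≠ 2 := fun h => hno (Or.inl h)
    by_cases h3 : r = 3
    · subst h3
      have hp3 : p % 3 = 1 := by
        have h0 : p % 3 ≠ 0 := fun h => by
          have := (Nat.prime_dvd_prime_iff_eq Nat.prime_three hpP).mp (Nat.dvd_of_mod_eq_zero h)
          omega
        have : p % 3 ≠ 2 := fun h => hno (Or.inr (Or.inl ⟨rfl, h⟩))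
        omega
      obtain ⟨w, hw3, hw⟩ := exists_cube_root (F := F) (by rw [hF]; omega)
      exact derange_three_split S A (by omega) ((mem_SL_iff _).mpr (splitGL_det w hw3)) (splitGL_pow w hw3) hw
        (splitGL_trace w hw3).1 (splitGL_trace w hw3).2 H
    by_cases h5 : r = 5
    · subst h5
      have hd : 5 ∣ p * (p ^ 2 - 1) := by
        by_contra h
        exact hno (Or.inr (Or.inr ⟨rfl, (five_cases p hpP.pos).mpr h⟩))
      obtain ⟨x, hx, M, B⟩ := block 5 inferInstance hd
      by_cases hp5 : p = 5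
      · subst hp5; exact derange_char S A (by norm_num) hx B H
      · exact derange_five S A (Ne.symm hp5) hx B H
    · have hr : r.Prime := Fact.out
      have h4 : r ≠ 4 := fun h => by rw [h] at hr; norm_num at hr
      have h6 : r ≠ 6 := fun h => by rw [h] at hr; norm_num at hr
      have := hr.two_le
      exact derange_large S A (by omega) hΩ H
  · rintro (rfl | ⟨rfl, hp3⟩ | ⟨rfl, hp5⟩)
    · exact fix_two_linear hF hp4 S hiR hic hi
    · refine fix_three S A (by omega) (by omega) ?_ hiR hic hi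
      rw [hF, ← ZMod.natCast_mod, hp3]
      haveI : Fact (Nat.Prime 3) := ⟨Nat.prime_three⟩
      exact orderOf_eq_prime (p := 2) (by decide) (by decide)
    · refine fix_five S A (by omega) (fun h => ?_) (by rw [hF]; exact hp5)
      subst h
      exact (five_cases 5 (by norm_num)).mp hp5 (by norm_num)

end Cfsg.Lib.Classical.TwoSix
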