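import Mathlib
import Cfsg.Agent.Classical.Misc.TwoSix.Generic
import Cfsg.Agent.Classical.Misc.TwoSix.Structure
import Cfsg.Agent.Known.SympSemisimple
import Cfsg.Agent.Classical.Symp.ExtFieldDerangement
import Cfsg.Agent.Classical.Symp.UnitExtDerangementMain

/-! `Sp₄(p)`. -/

set_option autoImplicit false
set_option linter.unusedSimpArgs false
set_option linter.unusedSectionVars false
set_option linter.unusedVariables false
set_option linter.style.haveILetI false
set_option linter.flexible false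

namespace Cfsg.Lib.Classical.TwoSix

open Matrix Polynomial Cfsg.Lib.Classical
open scoped MatrixGroups

universe u

variable {F : Type u} [Field F] [Fintype F]

local notation "GS" => GL (Fin 2 ⊕ Fin 2) F
local notation "MS" => Matrix (Fin 2 ⊕ Fin 2) (Fin 2 ⊕ Fin 2) F

theorem mem_sp_iff (x : GS) :
    x ∈ Cfsg.spGL 2 F ↔ (x : MS)ᵀ * Matrix.J (Fin 2) F * (x : MS) = Matrix.J (Fin 2) F := by
  rw [SpExtDer.mem_spGL_iff, SymplecticGroup.mem_iff']

theorem sp_transpose {x : GS} (hx : x ∈ Cfsg.spGL 2 F) (h : x * x = 1) :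
    (x : MS)ᵀ * Matrix.J (Fin 2) F = Matrix.J (Fin 2) F * (x : MS) := by
  have h1 := (mem_sp_iff x).mp hx
  calc (x : MS)ᵀ * Matrix.J (Fin 2) F = (x : MS)ᵀ * Matrix.J (Fin 2) F * ((x : MS) * (x : MS)) := by
        rw [← Units.val_mul, h, Units.val_one, mul_one]
    _ = _ := by rw [← mul_assoc, h1]

theorem pair_sp {R : Subgroup GS} (hR : R ≤ Cfsg.spGL 2 F) {x y z w : GS} (h : Two R x y) (h' : Two R z w) :
    pair h h' ∈ Cfsg.spGL 2 F := by
  have hU : ((x : MS) - (y : MS))ᵀ * Matrix.J (Fin 2) F = Matrix.J (Fin 2) F * ((x : MS) - (y : MS)) := by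
    rw [Matrix.transpose_sub, sub_mul, mul_sub, sp_transpose (hR h.memx) h.sqx, sp_transpose (hR h.memy) h.sqy]
  have hV : ((z : MS) - (w : MS))ᵀ * Matrix.J (Fin 2) F = Matrix.J (Fin 2) F * ((z : MS) - (w : MS)) := by
    rw [Matrix.transpose_sub, sub_mul, mul_sub, sp_transpose (hR h'.memx) h'.sqx, sp_transpose (hR h'.memy) h'.sqy]
  rw [mem_sp_iff, pair_val]
  set U := (x : MS) - (y : MS) with hUdef
  set V := (z : MS) - (w : MS) with hVdef
  have e : Vᵀ * (Uᵀ * (Matrix.J (Fin 2) F * (U * V))) = (4 : F) • Matrix.J (Fin 2) F := by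
    rw [← mul_assoc Uᵀ, hU, mul_assoc, ← mul_assoc U U, sub_mul_sub h, smul_mul_assoc, one_mul, mul_smul_comm,
      mul_smul_comm, ← mul_assoc Vᵀ, hV, mul_assoc, sub_mul_sub h', mul_smul_comm, mul_one, smul_smul]
    norm_num
  rw [Matrix.transpose_smul, Matrix.transpose_mul, smul_mul_assoc, smul_mul_assoc, mul_smul_comm, mul_assoc, mul_assoc, e,
    smul_smul, smul_smul]
  have h2 := h.two
  rw [show (2 : F)⁻¹ * (2 : F)⁻¹ * 4 = 1 by field_simp; norm_num, one_smul]

variable {p : ℕ} [Fact p.Prime] [CharP F p]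

theorem amb_symp {R : Subgroup GS} (hR : R ≤ Cfsg.spGL 2 F) : Amb p (Cfsg.spGL 2 F) (Cfsg.spGL 2 F) R where
  le := le_rfl
  det_one x hx := SymplecticGroup.det_eq_one ((SpExtDer.mem_spGL_iff x).mp hx)
  mem_of _ hy _ := hy
  pairI := fun h h' => pair_sp hR h h'
  conj x hx y hy N hN hxN hyN hc := by
    let a : Matrix.symplecticGroup (Fin 2) F := ⟨(x : MS), (SpExtDer.mem_spGL_iff _).mp hx⟩
    let b : Matrix.symplecticGroup (Fin 2) F := ⟨(y : MS), (SpExtDer.mem_spGL_iff _).mp hy⟩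
    have ord : ∀ (x : GS) (a : Matrix.symplecticGroup (Fin 2) F), (x : MS) = (a : MS) → x ^ N = 1 →
        (orderOf a).Coprime p := fun x a e h =>
      Nat.Coprime.coprime_dvd_left (orderOf_dvd_of_pow_eq_one (Subtype.ext (by
        rw [SubmonoidClass.coe_pow, ← e, ← Units.val_pow_eq_pow_val, h]; rfl))) hN
    obtain ⟨c, hcc⟩ := isConj_iff.mp (SympSemisimple.isConj_of_charpoly (p := p) a b (ord x a rfl hxN) (ord y b rfl hyN) hc)
    refine ⟨(SpExtDer.toGL 2 F c)⁻¹, inv_mem (SpExtDer.toGL_mem c), ?_⟩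
    rw [inv_inv, show x = SpExtDer.toGL 2 F a from Units.ext rfl, ← map_inv, ← map_mul, ← map_mul, hcc]
    exact Units.ext rfl

theorem fix_two_symp (hp : p ≠ 2) {R : Subgroup GS} (hR : R ≤ Cfsg.spGL 2 F) {g : Fin 4 → GS} (S : Frame R g) :
    Fixes (Cfsg.spGL 2 F) R 2 := by
  intro x hx ⟨z, hz⟩ hns
  haveI := S.nonempty
  have A := amb_symp (p := p) hR
  have h2 := S.two
  have hz4 := scalar_pow_four S.card_eq A hx hz
  rw [Units.val_pow_eq_pow_val] at hz
  have hx2 : x * x ∈ Cfsg.spGL 2 F := mul_mem hx hx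
  have hzz : z * z = 1 := by
    have h := (mem_sp_iff _).mp hx2
    rw [Units.val_mul, ← _root_.sq, hz, Matrix.transpose_smul, Matrix.transpose_one, smul_mul_assoc, one_mul,
      mul_smul_comm, mul_one, smul_smul] at h
    have hJ : Matrix.J (Fin 2) F ≠ 0 := fun e => by
      have := congrArg Matrix.det e
      rw [Matrix.det_zero] at this
      exact (isUnit_det_J (Fin 2) F).ne_zero this
    exact smul_left_injective F (M := MS) (m := Matrix.J (Fin 2) F) hJ (h.trans (one_smul F _).symm)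
  have conclude : ∀ y ∈ R, (x : MS).charpoly = (y : MS).charpoly → x ^ 4 = 1 → y ^ 4 = 1 →
      ∃ g ∈ Cfsg.spGL 2 F, g⁻¹ * x * g ∈ Cfsg.Geo.subgroupNormalizer R := by
    intro y hy hch hx4 hy4
    obtain ⟨c, hc, hcc⟩ := A.conj x hx y (hR hy) 4 (by
      rw [show (4 : ℕ) = 2 ^ 2 by norm_num]
      exact Nat.Coprime.pow_left 2 ((Nat.coprime_primes Nat.prime_two Fact.out).mpr hp.symm)) hx4 hy4 hch
    exact ⟨c, hc, hcc ▸ Subgroup.le_normalizer hy⟩
  have hx4 : x ^ 4 = 1 := Units.ext (by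
    rw [Units.val_pow_eq_pow_val, show (4 : ℕ) = 2 * 2 by norm_num, pow_mul, hz, _root_.smul_pow, one_pow, _root_.sq, hzz,
      one_smul, Units.val_one])
  let a : Matrix.symplecticGroup (Fin 2) F := ⟨(x : MS), (SpExtDer.mem_spGL_iff _).mp hx⟩
  rcases mul_self_eq_one_iff.mp hzz with rfl | rfl
  · rw [one_smul] at hz
    obtain ⟨hs0, hf0⟩ := S.first_fix
    have hev : Even (fixDim (x : MS)) := (SpUniDer.charpoly_one a h2 hz).1
    have hr := invol_range S.card_eq h2 hz hns
    have hf : fixDim (x : MS) = 2 := by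
      obtain ⟨t, ht⟩ := hev
      omega
    have hch := invol_conj h2 hz hs0 (hf.trans hf0.symm) 1
    rw [one_smul, one_smul] at hch
    refine conclude (g 0) (S.mem 0) hch hx4 ?_
    have e : g 0 ^ (2 * 2) = 1 := by rw [pow_mul, show g 0 ^ 2 = 1 by rw [_root_.sq, S.sq], one_pow]
    exact e
  · set y := g 0 * g 1 with hy
    have hyR : y ∈ R := mul_mem (S.mem 0) (S.mem 1)
    let b : Matrix.symplecticGroup (Fin 2) F := ⟨(y : MS), (SpExtDer.mem_spGL_iff _).mp (hR hyR)⟩
    have hb : (y : MS) ^ 2 = (-1 : F) • 1 := by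
      rw [hy, _root_.sq, Units.val_mul, mul_assoc, ← mul_assoc (g 1 : MS), Sg.anti.mp (S.anti 1 0 (by decide)), neg_mul,
        mul_assoc (g 0 : MS) (g 1 : MS), ← Units.val_mul (g 1), S.sq, Units.val_one, mul_one, mul_neg, ← Units.val_mul,
        S.sq, Units.val_one, neg_one_smul]
    refine conclude y hyR ((SpUniDer.charpoly_neg_one a h2 hz).trans (SpUniDer.charpoly_neg_one b h2 hb).symm) hx4 ?_
    refine Units.ext ?_
    rw [Units.val_pow_eq_pow_val, show (4 : ℕ) = 2 * 2 by norm_num, pow_mul, hb, _root_.smul_pow, one_pow,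
      neg_one_sq, one_smul, Units.val_one]

/-- The block position of an `Sp₂ × Sp₂`. -/
def spPos : Fin 2 ⊕ Fin 2 ≃ Fin 2 ⊕ Fin 2 where
  toFun k := match k with
    | .inl 0 => .inl 0
    | .inl 1 => .inr 0
    | .inr 0 => .inl 1
    | .inr 1 => .inr 1
  invFun k := match k with
    | .inl 0 => .inl 0
    | .inr 0 => .inl 1
    | .inl 1 => .inr 0
    | .inr 1 => .inr 1
  left_inv := by decide
  right_inv := by decide

theorem blockGL_sp {M : Matrix (Fin 2) (Fin 2) F} (hM : M.det = 1) :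
    (blockGL spPos M hM : GS) ∈ Cfsg.spGL 2 F := by
  rw [mem_sp_iff]
  rw [Matrix.det_fin_two] at hM
  show (blockMat spPos M)ᵀ * Matrix.J (Fin 2) F * blockMat spPos M = Matrix.J (Fin 2) F
  ext i j
  rcases i with i | i <;> rcases j with j | j <;> fin_cases i <;> fin_cases j <;>
    simp [Matrix.mul_apply, Fintype.sum_sum_type, Fin.sum_univ_two, blockMat, spPos, Matrix.J, Matrix.transpose_apply,
      Matrix.one_apply] <;>
    first | linear_combination hM | linear_combination -hM | ring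

theorem symp_main (hF : Fintype.card F = p) (hodd : Odd p) (R : Subgroup GS) (hRs : Cfsg.Geo.IsSymplecticTypeGroup 2 R)
    (hRi : Cfsg.Geo.ActsAbsolutelyIrreducibly (Cfsg.Geo.matrixSet R)) (hRf : R ≤ Cfsg.spGL 2 F)
    (hR5 : Nat.card R = 2 ^ 5) (hRZ : Nat.card (Subgroup.center R) = 2) (hRm : Cfsg.Geo.IsOfMinusType 2 R)
    (r : ℕ) [Fact r.Prime] (hΩ : r ∣ Nat.card (Cfsg.spGL 2 F)) :
    Fixes (Cfsg.spGL 2 F) R r ↔ (r = 2 ∨ (r = 5 ∧ orderOf (p : ZMod 5) = 4)) := by
  have hpP : p.Prime := Fact.out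
  have hp : p ≠ 2 := fun e => by rw [e] at hodd; exact absurd hodd (by decide)
  have h2 : (2 : F) ≠ 0 := by
    exact_mod_cast PrimeOrderPoly.cast_prime_ne_zero (F := F) (p := p) Nat.prime_two hp.symm
  obtain ⟨g, S⟩ := frame_of_minus (by simp) h2 hRs hRi hR5 hRm
  haveI := S.nonempty
  have A := amb_symp (p := p) hRf
  have hsc : ∀ y ∈ R, ∀ s : F, (y : MS) = s • 1 → s * s = 1 := by
    intro y hy s hs
    have hcen : (⟨y, hy⟩ : R) ∈ Subgroup.center R :=
      Subgroup.mem_center_iff.mpr fun b => Subtype.ext (scalar_commute hs b.1).eq.symm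
    have e : (⟨⟨y, hy⟩, hcen⟩ : Subgroup.center R) ^ 2 = 1 :=
      orderOf_dvd_iff_pow_eq_one.mp ((orderOf_dvd_natCard _).trans (dvd_of_eq hRZ))
    have e' : (y : MS) ^ 2 = 1 := by
      rw [← Units.val_pow_eq_pow_val, show y ^ 2 = 1 from congrArg (fun c : Subgroup.center R => c.1.1) e, Units.val_one]
    rw [hs, _root_.smul_pow, one_pow, _root_.sq] at e'
    exact smul_left_injective F (M := MS) (m := (1 : MS)) one_ne_zero (e'.trans (one_smul F (1 : MS)).symm)
  have block : ∀ r : ℕ, Fact r.Prime → r ∣ p * (p ^ 2 - 1) → ∃ x ∈ Cfsg.spGL 2 F, ∃ M, Block x M r := by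
    intro r hr hd
    obtain ⟨M, hM, hMr, hM1, -⟩ := exists_slTwo' (F := F) p hd
    exact ⟨blockGL spPos M hM, blockGL_sp hM, M, blockGL_block spPos hM hMr hM1⟩
  constructor
  · intro H
    by_contra hno
    have hr2 : r ≠ 2 := fun h => hno (Or.inl h)
    by_cases h3 : r = 3
    · subst h3
      have hd : 3 ∣ p * (p ^ 2 - 1) := by
        rw [← ZMod.natCast_eq_zero_iff, Nat.cast_mul, Nat.cast_sub (Nat.one_le_pow _ _ hpP.pos), Nat.cast_pow, Nat.cast_one]
        exact (fun a => by fin_cases a <;> rfl : ∀ a : ZMod 3, a * (a ^ 2 - 1) = 0) _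
      obtain ⟨x, hx, M, B⟩ := block 3 inferInstance hd
      by_cases hp3 : p = 3
      · subst hp3; exact derange_char S A (by norm_num) hx B H
      · exact derange_three_minus S A (Ne.symm hp3) hsc hx B H
    by_cases h5 : r = 5
    · subst h5
      have hd : 5 ∣ p * (p ^ 2 - 1) := by
        by_contra h
        exact hno (Or.inr ⟨rfl, (five_cases p hpP.pos).mpr h⟩)
      obtain ⟨x, hx, M, B⟩ := block 5 inferInstance hd
      by_cases hp5 : p = 5
      · subst hp5; exact derange_char S A (by norm_num) hx B H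
      · exact derange_five S A (Ne.symm hp5) hx B H
    · have hr : r.Prime := Fact.out
      have h4 : r ≠ 4 := fun h => by rw [h] at hr; norm_num at hr
      have h6 : r ≠ 6 := fun h => by rw [h] at hr; norm_num at hr
      have := hr.two_le
      exact derange_large S A (by omega) hΩ H
  · rintro (rfl | ⟨rfl, hp5⟩)
    · exact fix_two_symp hp hRf S
    · refine fix_five S A hp (fun h => ?_) (by rw [hF]; exact hp5)
      subst h
      exact (five_cases 5 (by norm_num)).mp hp5 (by norm_num)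

end Cfsg.Lib.Classical.TwoSix
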