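import Mathlib
import Cfsg.Agent.Classical.Misc.TwoSix.Linear
import Cfsg.Agent.Known.UnitaryGU
import Cfsg.Agent.S2390

/-! `SU₄(p)`. -/

set_option autoImplicit false
set_option linter.unusedSimpArgs false
set_option linter.unusedSectionVars false
set_option linter.unusedVariables false
set_option linter.style.haveILetI false
set_option linter.flexible false

namespace Cfsg.Lib.Classical.TwoSix

open Matrix Polynomial Cfsg.Lib Cfsg.Lib.Classical Cfsg.Lib.UnitaryConj
open scoped MatrixGroups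

universe u

variable {F : Type u} [Field F] [Fintype F] {p : ℕ} [Fact p.Prime] [CharP F p]

local notation "GG" => GL (Fin 4) F
local notation "MM" => Matrix (Fin 4) (Fin 4) F

theorem mem_U (hF : Fintype.card F = p ^ 2) (x : GG) :
    x ∈ Cfsg.GU 4 F p ↔ cst (powConj hF) (x : MM) * (x : MM) = 1 := UnitaryConj.mem_GU hF x

theorem cst_scalar (σ : F →+* F) (c : F) : cst σ (c • (1 : MM)) = σ c • 1 := by rw [cst_smul, cst_one]

theorem scalar_U (hF : Fintype.card F = p ^ 2) {s : F} (hs : s ≠ 0) (h : s ^ (p + 1) = 1) :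
    (scalarGL s hs : GG) ∈ Cfsg.GU 4 F p := by
  rw [mem_U hF]
  show cst _ (s • (1 : MM)) * (s • (1 : MM)) = 1
  rw [cst_scalar, smul_mul_smul_comm, powConj_apply, ← pow_succ, h, one_smul, one_mul]

theorem cst_invol (hF : Fintype.card F = p ^ 2) {x : GG} (hx : x ∈ Cfsg.GU 4 F p) (h : x * x = 1) :
    cst (powConj hF) (x : MM) = x := by
  calc cst (powConj hF) (x : MM) = cst (powConj hF) (x : MM) * ((x : MM) * (x : MM)) := by
        rw [← Units.val_mul, h, Units.val_one, mul_one]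
    _ = _ := by rw [← mul_assoc, (mem_U hF x).mp hx, one_mul]

theorem pair_U (hF : Fintype.card F = p ^ 2) {R : Subgroup GG} (hR : R ≤ Cfsg.GU 4 F p) {x y z w : GG} (h : Two R x y)
    (h' : Two R z w) : pair h h' ∈ Cfsg.GU 4 F p := by
  rw [mem_U hF, pair_val, cst_smul, cst_mul, cst_sub, cst_sub, cst_invol hF (hR h.memx) h.sqx,
    cst_invol hF (hR h.memy) h.sqy, cst_invol hF (hR h'.memx) h'.sqx, cst_invol hF (hR h'.memy) h'.sqy,
    smul_mul_smul_comm, mul_assoc ((z : MM) - (w : MM)), ← mul_assoc ((x : MM) - (y : MM)) ((x : MM) - (y : MM)),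
    sub_mul_sub h, smul_mul_assoc, one_mul, mul_smul_comm, sub_mul_sub h', smul_smul, smul_smul, map_inv₀, map_ofNat]
  have h2 := h.two
  rw [show (2 : F)⁻¹ * (2 : F)⁻¹ * 2 * 2 = 1 by field_simp, one_smul]

theorem phase_U (hF : Fintype.card F = p ^ 2) {R : Subgroup GG} (hR : R ≤ Cfsg.GU 4 F p) {A B : GG} (h : Com R A B) :
    phase h ∈ Cfsg.GU 4 F p := by
  rw [mem_U hF]
  show cst _ (phaseMat A B) * phaseMat A B = 1
  have hc : (B : MM) * A = (A : MM) * B := by rw [← Units.val_mul, ← Units.val_mul, h.comm]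
  have e : cst (powConj hF) (phaseMat A B) = phaseMat A B := by
    rw [phaseMat, cst_smul, cst_sub, cst_add, cst_add, cst_one, cst_mul, cst_invol hF (hR h.memA) h.sqA,
      cst_invol hF (hR h.memB) h.sqB, hc, map_inv₀, map_ofNat]
  rw [e, phase_sq h]

/-- Elements with determinant of square one. -/
def detPM : Subgroup GG where
  carrier := {y | (y : MM).det ^ 2 = 1}
  mul_mem' {a b} ha hb := by
    show ((a * b : GG) : MM).det ^ 2 = 1
    rw [Units.val_mul, Matrix.det_mul, _root_.mul_pow, show (a : MM).det ^ 2 = 1 from ha,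
      show (b : MM).det ^ 2 = 1 from hb, one_mul]
  one_mem' := by
    show ((1 : GG) : MM).det ^ 2 = 1
    simp
  inv_mem' {a} ha := by
    show ((a⁻¹ : GG) : MM).det ^ 2 = 1
    have h : ((a⁻¹ : GG) : MM).det * (a : MM).det = 1 := by
      rw [← Matrix.det_mul, ← Units.val_mul, inv_mul_cancel, Units.val_one, Matrix.det_one]
    have ha' : (a : MM).det ^ 2 = 1 := ha
    linear_combination (-((a⁻¹ : GG) : MM).det ^ 2) * ha' + (((a⁻¹ : GG) : MM).det * (a : MM).det + 1) * h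

theorem amb_unitary (hF : Fintype.card F = p ^ 2) {R : Subgroup GG} (hR : R ≤ Cfsg.GU 4 F p) :
    Amb p (Cfsg.GU 4 F p ⊓ Cfsg.Geo.specialLinear (Fin 4) F) (Cfsg.GU 4 F p) R where
  le := inf_le_left
  det_one x hx := (mem_SL_iff x).mp hx.2
  mem_of y hy hd := ⟨hy, (mem_SL_iff y).mpr hd⟩
  pairI := fun h h' => pair_U hF hR h h'
  conj x hx y hy N hN hxN hyN hc := by
    have mk : ∀ x : GG, x ∈ Cfsg.GU 4 F p ⊓ Cfsg.Geo.specialLinear (Fin 4) F →
        ∃ a : Cfsg.SU 4 F p, ((a : SL(4, F)) : MM) = (x : MM) := fun x hx =>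
      ⟨⟨⟨(x : MM), (mem_SL_iff x).mp hx.2⟩, (UnitaryConj.mem_SU hF _).mpr ((mem_U hF x).mp hx.1)⟩, rfl⟩
    obtain ⟨a, ha⟩ := mk x hx
    obtain ⟨b, hb⟩ := mk y hy
    have ord : ∀ (x : GG) (a : Cfsg.SU 4 F p), ((a : SL(4, F)) : MM) = (x : MM) → x ^ N = 1 → (orderOf a).Coprime p :=
      fun x a e h => Nat.Coprime.coprime_dvd_left (orderOf_dvd_of_pow_eq_one (Subtype.ext (Subtype.ext (by
        rw [SubmonoidClass.coe_pow, Matrix.SpecialLinearGroup.coe_pow, e, ← Units.val_pow_eq_pow_val, h]; rfl)))) hN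
    obtain ⟨c, hcc⟩ := isConj_iff.mp (Cfsg.Agent.S2390.result hF p 4 a b (ord x a ha hxN) (ord y b hb hyN)
      (by rw [ha, hb]; exact hc))
    let f : Cfsg.SU 4 F p →* GG := Matrix.SpecialLinearGroup.toGL.comp (Cfsg.SU 4 F p).subtype
    have hf : ∀ d : Cfsg.SU 4 F p, f d ∈ Cfsg.GU 4 F p ⊓ Cfsg.Geo.specialLinear (Fin 4) F := fun d =>
      ⟨(mem_U hF _).mpr ((UnitaryConj.mem_SU hF _).mp d.2), (mem_SL_iff _).mpr (d : SL(4, F)).2⟩
    refine ⟨(f c)⁻¹, inv_mem (hf c), ?_⟩
    rw [inv_inv, show x = f a from Units.ext ha.symm, ← map_inv, ← map_mul, ← map_mul, hcc]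
    exact Units.ext hb

theorem det_two (hp : p ≠ 2) {A B : MM} (hA : A ^ 2 = 1) (hB : B ^ 2 = 1) (hnA : ∀ c : F, A ≠ c • 1)
    (hnB : ∀ c : F, B ≠ c • 1) (ht : A.trace = B.trace) (h2 : (2 : F) ≠ 0) : A.det = B.det := by
  have h := invol_conj h2 hA hB (invol_match (Fintype.card_fin 4) hp h2 hA hB hnA hnB ht) 1
  rw [one_smul, one_smul] at h
  exact det_charpoly h

theorem fix_two_unitary (hF : Fintype.card F = p ^ 2) (hp4 : p % 4 = 3) {R : Subgroup GG} (hR : R ≤ Cfsg.GU 4 F p)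
    {g : Fin 4 → GG} (S : Frame R g) {ic : GG} {i : F} (hiR : ic ∈ R) (hic : (ic : MM) = i • 1) (hi : i * i = -1) :
    Fixes (Cfsg.GU 4 F p ⊓ Cfsg.Geo.specialLinear (Fin 4) F) R 2 := by
  intro x hx ⟨z, hz⟩ hns
  have hp : p ≠ 2 := by omega
  have A := amb_unitary hF hR
  have hz4 := scalar_pow_four S.card_eq A hx hz
  rw [Units.val_pow_eq_pow_val] at hz
  have hodd : Odd p := (Fact.out : p.Prime).odd_of_ne_two hp
  obtain ⟨k, hk⟩ : ∃ k, p ^ 2 / 2 = 4 * k := by
    obtain ⟨a, rfl⟩ := hodd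
    refine ⟨(a * (a + 1)) / 2, ?_⟩
    obtain ⟨b, hb⟩ := Nat.even_mul_succ_self a
    rw [hb, show (b + b) / 2 = b by omega]
    have : (2 * a + 1) ^ 2 = 8 * b + 1 := by nlinarith
    omega
  have hchar : ringChar F ≠ 2 := by rw [ringChar.eq F p]; exact hp
  obtain ⟨s, rfl⟩ : IsSquare z := by
    refine (FiniteField.isSquare_iff hchar (fun e => ?_)).mpr ?_
    · subst e; simp at hz4
    · rw [hF, hk, pow_mul, hz4, one_pow]
  have hs : s ≠ 0 := fun e => by subst e; simp at hz4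
  have hs8 : s ^ 8 = 1 := by rw [← hz4]; ring
  have h2 := S.two
  by_cases hu : s ^ (p + 1) = 1
  · refine fix_root S A hp hiR hic hi hx hns hs hz fun y hy => ?_
    have hyU : y ∈ Cfsg.GU 4 F p := by
      rcases hy with hy | ⟨a, b, h, rfl⟩
      exacts [hR hy, phase_U hF hR h]
    exact ⟨mul_mem (scalar_U hF hs hu) hyU, mul_mem (scalar_U hF _
      (by rw [(Odd.add_one hodd).neg_pow, hu])) hyU⟩
  exfalso
  have hs4 : s ^ 4 = -1 := by
    rcases mul_self_eq_one_iff.mp (show s ^ 4 * s ^ 4 = 1 by rw [← pow_add, hs8]) with h | h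
    · refine absurd ?_ hu
      obtain ⟨m, hm⟩ : 4 ∣ p + 1 := by omega
      rw [hm, pow_mul, h, one_pow]
    · exact h
  have hu' : s ^ (p + 1) = -1 := by
    obtain ⟨m, hm⟩ : 4 ∣ p + 1 := by omega
    rw [hm, pow_mul, hs4] at hu ⊢
    rcases Nat.even_or_odd m with hm' | hm'
    · exact absurd hm'.neg_one_pow hu
    · exact hm'.neg_one_pow
  set X' := s⁻¹ • (x : MM) with hX'
  have hX : X' ^ 2 = 1 := by
    rw [hX', _root_.smul_pow, hz, smul_smul, _root_.sq, show s⁻¹ * s⁻¹ * (s * s) = (s⁻¹ * s) * (s⁻¹ * s) by ring,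
      inv_mul_cancel₀ hs, one_mul, one_smul]
  have hXns : ∀ c : F, X' ≠ c • 1 := fun c hc => hns (s * c) (by
    rw [← smul_smul, ← hc, hX', smul_smul, mul_inv_cancel₀ hs, one_smul])
  have hxs : (x : MM) = s • X' := by rw [hX', smul_smul, mul_inv_cancel₀ hs, one_smul]
  have hcst : cst (powConj hF) X' = -X' := by
    have h1 := (mem_U hF x).mp hx.1
    rw [hxs, cst_smul, smul_mul_smul_comm, powConj_apply, ← pow_succ, hu', neg_one_smul] at h1
    have e : cst (powConj hF) X' * X' * X' = -1 * X' := by rw [eq_neg_of_add_eq_zero_left (a := cst (powConj hF) X' * X')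
      (b := 1) (by rw [← h1]; abel)]
    rw [mul_assoc, ← _root_.sq, hX, mul_one, neg_one_mul] at e
    exact e
  have htr : X'.trace = 0 := by
    have e := congrArg Matrix.trace hcst
    rw [cst, Matrix.trace_transpose, Matrix.trace_neg,
      show (X'.map (powConj hF)).trace = powConj hF X'.trace by simp [Matrix.trace, map_sum]] at e
    rcases invol_traces S.card_eq h2 hX hXns with t | t | t <;> rw [t] at e
    · rw [map_neg, map_ofNat, neg_neg] at e
      exact absurd (show (4 : F) = 0 by linear_combination -e) S.four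
    · exact t
    · rw [map_ofNat] at e
      exact absurd (show (4 : F) = 0 by linear_combination e) S.four
  obtain ⟨y₀, -, -, -, -, -, -, -, -, hs0, -, hc0, -, ht0, -⟩ := exists_models S hiR hic hi
  obtain ⟨y₁, hy1⟩ : ∃ B : MM, B = Matrix.diagonal ![1, 1, -1, -1] := ⟨_, rfl⟩
  have hd1 := det_two (p := p) hp (A := X') (B := y₁) hX
    (by
      rw [hy1, Matrix.diagonal_pow, ← Matrix.diagonal_one]
      congr 1; funext j; fin_cases j <;> simp)
    hXns
    (fun c hc => by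
      rw [hy1] at hc
      have a := congrFun (congrFun hc 0) 0
      have b := congrFun (congrFun hc 2) 2
      simp at a b
      exact h2 (by linear_combination a - b))
    (by rw [htr, hy1, Matrix.trace_diagonal, Fin.sum_univ_four]; simp) h2
  have hdx := A.det_one x hx
  rw [hxs, Matrix.det_smul, hd1, hy1, Matrix.det_diagonal, Fin.prod_univ_four, Fintype.card_fin, hs4] at hdx
  simp at hdx
  exact h2 (by linear_combination -hdx)

theorem cst_block (σ : F →+* F) (e : Fin 2 ⊕ Fin 2 ≃ Fin 4) (M : Matrix (Fin 2) (Fin 2) F) :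
    cst σ (blockMat e M) = blockMat e (cst σ M) := by
  simp [cst, blockMat, Matrix.fromBlocks_map, Matrix.fromBlocks_transpose, Matrix.transpose_submatrix,
    ← Matrix.submatrix_map, Matrix.map_one]

theorem i_conj (hF : Fintype.card F = p ^ 2) (hp4 : p % 4 = 3) {i : F} (hi : i * i = -1) : powConj hF i = -i := by
  obtain ⟨m, hm⟩ : ∃ m, p = 2 * (2 * m + 1) + 1 := ⟨p / 4, by omega⟩
  rw [powConj_apply, hm, pow_succ, pow_mul, _root_.sq, hi, Odd.neg_one_pow ⟨m, rfl⟩, neg_one_mul]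

theorem exists_norm_neg_one (hF : Fintype.card F = p ^ 2) (hp : p ≠ 2) : ∃ u : F, u ^ (p + 1) = -1 := by
  classical
  obtain ⟨γ, hγ⟩ := IsCyclic.exists_ofOrder_eq_natCard (α := Fˣ)
  rw [Nat.card_eq_fintype_card, Fintype.card_units, hF] at hγ
  obtain ⟨a, rfl⟩ := (Fact.out : p.Prime).odd_of_ne_two hp
  refine ⟨(γ : F) ^ a, ?_⟩
  rw [← pow_mul]
  have hsq : ((γ : F) ^ (a * (2 * a + 1 + 1))) ^ 2 = 1 := by
    have := pow_orderOf_eq_one γ
    rw [hγ] at this
    rw [← pow_mul, show a * (2 * a + 1 + 1) * 2 = (2 * a + 1) ^ 2 - 1 by ring_nf; omega,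
      ← Units.val_pow_eq_pow_val, this, Units.val_one]
  rcases sq_eq_one_iff.mp hsq with h | h
  · exfalso
    have hle := orderOf_dvd_of_pow_eq_one (show γ ^ (a * (2 * a + 1 + 1)) = 1 from
      Units.ext (by rw [Units.val_pow_eq_pow_val, h, Units.val_one]))
    rw [hγ, show (2 * a + 1) ^ 2 - 1 = 2 * (a * (2 * a + 1 + 1)) by ring_nf; omega] at hle
    have hpos : 0 < a * (2 * a + 1 + 1) := Nat.mul_pos (Nat.pos_of_ne_zero fun e => by
      subst e; exact (Fact.out : Nat.Prime (2 * 0 + 1)).ne_one rfl) (by omega)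
    have := Nat.le_of_dvd hpos hle
    omega
  · exact h

/-- Unitary blocks of prime order. -/
theorem block_unitary (hF : Fintype.card F = p ^ 2) (hp4 : p % 4 = 3) {i : F} (hi : i * i = -1) {r : ℕ} [Fact r.Prime]
    (h : r ∣ p * (p ^ 2 - 1)) :
    ∃ x ∈ Cfsg.GU 4 F p ⊓ Cfsg.Geo.specialLinear (Fin 4) F, ∃ M, Block x M r := by
  have hp : p ≠ 2 := by omega
  have h2 : (2 : F) ≠ 0 := by
    exact_mod_cast PrimeOrderPoly.cast_prime_ne_zero (F := F) (p := p) Nat.prime_two hp.symm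
  obtain ⟨M, hM, hMr, hM1, M₀, hM₀⟩ := exists_slTwo' (F := F) p h
  obtain ⟨u, hu⟩ := exists_norm_neg_one hF hp
  have hi0 : i ≠ 0 := fun e => by subst e; simp at hi
  have hu0 : u ≠ 0 := fun e => by subst e; simp at hu
  set σ := powConj hF with hσ
  set P : Matrix (Fin 2) (Fin 2) F := !![1, i / 2; u, -u * i / 2] with hP
  have hh : (2 : F)⁻¹ * 2 = 1 := inv_mul_cancel₀ h2
  have hPd : P.det ≠ 0 := by
    rw [hP, Matrix.det_fin_two]
    simp
    intro e
    exact (mul_ne_zero hu0 hi0) (by linear_combination -e - (u * i) * hh)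
  have hσi : σ i = -i := i_conj hF hp4 hi
  have hfix : ∀ a b, σ (M a b) = M a b := fun a b => by
    rw [hM₀, Matrix.map_apply, powConj_apply, ← map_pow, ZMod.pow_card]
  have hQ : P * P⁻¹ = 1 := Matrix.mul_nonsing_inv P hPd.isUnit
  have hQ' : P⁻¹ * P = 1 := Matrix.nonsing_inv_mul P hPd.isUnit
  have hui : σ u * u = -1 := by rw [powConj_apply, ← pow_succ, hu]
  have hH : cst σ P * P = !![0, i; -i, 0] := by
    rw [hP]
    ext a b
    fin_cases a <;> fin_cases b <;> simp [cst, Matrix.mul_apply, Fin.sum_univ_two, map_div₀, map_ofNat, hσi]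
    · linear_combination hui
    · linear_combination (-(i / 2)) * hui + i * hh
    · linear_combination (i / 2) * hui + (-i) * hh
    · linear_combination (-(i * i) * (2 : F)⁻¹ * (2 : F)⁻¹) * hui
  have hinv : cst σ M * !![0, i; -i, 0] * M = !![0, i; -i, 0] := by
    rw [Matrix.det_fin_two] at hM
    ext a b
    fin_cases a <;> fin_cases b <;> simp [cst, Matrix.mul_apply, Fin.sum_univ_two, hfix] <;>
      first | ring1 | linear_combination i * hM | linear_combination (-i) * hM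
  set M' := P * M * P⁻¹ with hM'
  have hM'd : M'.det = 1 := by
    rw [hM', Matrix.det_mul_right_comm, hQ, one_mul, hM]
  have hM'U : cst σ M' * M' = 1 := by
    calc cst σ M' * M' = cst σ P⁻¹ * (cst σ M * (cst σ P * P) * M) * P⁻¹ := by
          rw [hM', cst_mul, cst_mul]; simp only [mul_assoc]
      _ = cst σ P⁻¹ * (cst σ P * P) * P⁻¹ := by rw [hH, hinv]
      _ = (cst σ P⁻¹ * cst σ P) * (P * P⁻¹) := by simp only [mul_assoc]
      _ = 1 := by rw [← cst_mul, hQ, cst_one, one_mul]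
  have hpow : ∀ k : ℕ, M' ^ k = P * M ^ k * P⁻¹ := fun k => by
    induction k with
    | zero => rw [pow_zero, pow_zero, mul_one, hQ]
    | succ k ih =>
      rw [pow_succ, ih, hM', pow_succ]
      simp only [← mul_assoc]
      rw [mul_assoc (P * M ^ k) P⁻¹ P, hQ', mul_one]
  let e : Fin 2 ⊕ Fin 2 ≃ Fin 4 := finSumFinEquiv
  refine ⟨blockGL e M' hM'd, ⟨(mem_U hF _).mpr ?_, (mem_SL_iff _).mpr ((blockMat_det e M').trans hM'd)⟩, M',
    blockGL_block e hM'd (by rw [hpow, hMr, mul_one, hQ]) fun e1 => hM1 ?_⟩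
  · show cst σ (blockMat e M') * blockMat e M' = 1
    rw [cst_block, blockMat_mul, hM'U, blockMat_one]
  · calc M = P⁻¹ * M' * P := by
          rw [hM']; simp only [mul_assoc]; rw [hQ', mul_one, ← mul_assoc, hQ', one_mul]
      _ = 1 := by rw [e1, mul_one, hQ']

theorem unitary_inv (hF : Fintype.card F = p ^ 2) {x : GG} (hx : x ∈ Cfsg.GU 4 F p) :
    cst (powConj hF) (x : MM) = ((x⁻¹ : GG) : MM) := by
  calc cst (powConj hF) (x : MM) = cst (powConj hF) (x : MM) * ((x : MM) * ((x⁻¹ : GG) : MM)) := by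
        rw [← Units.val_mul, mul_inv_cancel, Units.val_one, mul_one]
    _ = _ := by rw [← mul_assoc, (mem_U hF x).mp hx, one_mul]

theorem fix_three_unitary (hF : Fintype.card F = p ^ 2) (hp3 : p % 3 = 1) {R : Subgroup GG} (hR : R ≤ Cfsg.GU 4 F p)
    {g : Fin 4 → GG} (S : Frame R g) {ic : GG} {i : F} (hiR : ic ∈ R) (hic : (ic : MM) = i • 1) (hi : i * i = -1) :
    Fixes (Cfsg.GU 4 F p ⊓ Cfsg.Geo.specialLinear (Fin 4) F) R 3 := by
  haveI : Fact (Nat.Prime 3) := ⟨Nat.prime_three⟩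
  have hrp : 3 ≠ p := by omega
  have h3 : (3 : F) ≠ 0 := by exact_mod_cast PrimeOrderPoly.cast_prime_ne_zero (F := F) (p := p) Nat.prime_three hrp
  have hq : 3 ∣ Fintype.card F - 1 := by
    rw [hF, ← Nat.modEq_iff_dvd' (Nat.one_le_pow _ _ (by omega))]
    unfold Nat.ModEq
    rw [Nat.pow_mod, hp3]
  obtain ⟨w, hw3, hw⟩ := exists_cube_root hq
  have hσw : powConj hF w = w := by
    rw [powConj_apply, ← Nat.div_add_mod p 3, hp3, pow_succ, pow_mul, hw3, one_pow, one_mul]
  have A := amb_unitary hF hR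
  have hiff : ∀ x : GG, x ∈ Cfsg.GU 4 F p →
      ((aeval (x : MM) (X - Polynomial.C w)).det = 0 ↔ (aeval (x : MM) (X - Polynomial.C (w ^ 2))).det = 0) := by
    intro x hx
    simp only [map_sub, aeval_X, aeval_C, Algebra.algebraMap_eq_smul_one]
    have e : cst (powConj hF) ((x : MM) - w • 1) = ((-w) • ((x⁻¹ : GG) : MM)) * ((x : MM) - w ^ 2 • 1) := by
      rw [cst_sub, cst_scalar, hσw, unitary_inv hF hx, mul_sub, smul_mul_assoc, ← Units.val_mul, inv_mul_cancel,
        Units.val_one, smul_mul_smul_comm, mul_one, show -w * w ^ 2 = -1 by linear_combination -hw3, neg_one_smul]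
      module
    have ed := congrArg Matrix.det e
    rw [det_cst, Matrix.det_mul] at ed
    rw [← map_eq_zero (powConj hF), ed, mul_eq_zero, Matrix.det_smul, mul_eq_zero]
    refine or_iff_right (not_or.mpr ⟨pow_ne_zero _ (neg_ne_zero.mpr fun e => ?_), Matrix.GeneralLinearGroup.det_ne_zero _⟩)
    subst e; simp at hw3
  refine fix_class S A hrp (k := 1) ⟨1, by norm_num⟩ fun x hx hxr hx1 => ?_
  have shape : ∀ y : GG, y ∈ Cfsg.GU 4 F p → (y : MM).det = 1 → y ^ 3 = 1 → y ≠ 1 →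
      (fixDim (y : MM) = 0 ∧ (y : MM).charpoly = ((X - Polynomial.C w) * (X - Polynomial.C (w ^ 2))) ^ 2) ∨
      (fixDim (y : MM) ≠ 0 ∧
        (y : MM).charpoly = (X - Polynomial.C 1) ^ 2 * ((X - Polynomial.C w) * (X - Polynomial.C (w ^ 2)))) := by
    intro y hy hd hy3 hy1
    rcases three_shape (Fintype.card_fin 4) h3 (A := (y : MM)) (by rw [← Units.val_pow_eq_pow_val, hy3, Units.val_one]) hd hw
      (hiff y hy) with h | h
    exacts [absurd (Units.ext h) hy1, h]
  have hdet : ∀ y : GG, y ^ 3 = 1 → (y : MM).det ^ 2 = 1 → (y : MM).det = 1 := fun y h h' => by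
    have : (y : MM).det ^ 3 = 1 := by rw [← Matrix.det_pow, ← Units.val_pow_eq_pow_val, h, Units.val_one, Matrix.det_one]
    linear_combination this - (y : MM).det * h'
  rcases shape x hx.1 (A.det_one x hx) hxr hx1 with ⟨-, hc⟩ | ⟨-, hc⟩
  · obtain ⟨y, hy, hyN, hy3, hy0⟩ := S.exists_three h3 (Cfsg.GU 4 F p ⊓ detPM) (fun h h' =>
      ⟨A.pairI h h', det_pair_sq (Fintype.card_fin 4) h h'⟩)
    refine ⟨y, hy.1, hyN, hy3, hc.trans ?_⟩
    rcases shape y hy.1 (hdet y hy3 hy.2) hy3 (fun e => by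
      rw [e, fixDim_zero_iff] at hy0; simp at hy0) with ⟨-, h⟩ | ⟨h, -⟩
    exacts [h.symm, absurd hy0 h]
  · obtain ⟨y, hy, hyN, hy3, hy0, hy1⟩ := S.exists_three' h3 hiR hic hi (Cfsg.GU 4 F p ⊓ detPM) (fun h h' =>
      ⟨A.pairI h h', det_pair_sq (Fintype.card_fin 4) h h'⟩)
    refine ⟨y, hy.1, hyN, hy3, hc.trans ?_⟩
    rcases shape y hy.1 (hdet y hy3 hy.2) hy3 hy1 with ⟨h, -⟩ | ⟨-, h⟩
    exacts [absurd h hy0, h.symm]

theorem golden_roots (hF : Fintype.card F = p ^ 2) (hp : p ≠ 2) (h5 : orderOf (p : ZMod 5) = 4) :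
    ∃ t₁ t₂ : F, t₁ + t₂ = -1 ∧ t₁ * t₂ = -1 ∧ powConj hF t₁ = t₂ ∧ powConj hF t₂ = t₁ ∧ t₁ ≠ t₂ := by
  classical
  haveI : Fact (Nat.Prime 5) := ⟨by norm_num⟩
  have hp5 : p ≠ 5 := fun e => by subst e; exact (five_cases 5 (by norm_num)).mp h5 (by norm_num)
  have h2 : (2 : F) ≠ 0 := by
    exact_mod_cast PrimeOrderPoly.cast_prime_ne_zero (F := F) (p := p) Nat.prime_two hp.symm
  have h5F : ((5 : ℕ) : F) ≠ 0 := PrimeOrderPoly.cast_prime_ne_zero (F := F) (p := p) Fact.out hp5.symm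
  obtain ⟨r5, hr5⟩ : IsSquare ((5 : ℕ) : F) := by
    refine (FiniteField.isSquare_iff (by rw [ringChar.eq F p]; exact hp) h5F).mpr ?_
    have e1 : ((5 : ℕ) : F) ^ (p - 1) = 1 := by
      have h50 : ((5 : ℕ) : ZMod p) ≠ 0 := fun e => h5F (by
        rw [← map_natCast (ZMod.castHom (dvd_refl p) F), e, map_zero])
      rw [← map_natCast (ZMod.castHom (dvd_refl p) F), ← map_pow, ZMod.pow_card_sub_one_eq_one h50, map_one]
    obtain ⟨a, ha⟩ := (Fact.out : p.Prime).odd_of_ne_two hp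
    rw [hF, show p ^ 2 / 2 = (p - 1) * (a + 1) by
      subst ha
      rw [show (2 * a + 1) ^ 2 = 2 * (2 * a * (a + 1)) + 1 by ring, show 2 * a + 1 - 1 = 2 * a by omega]
      omega, pow_mul, e1, one_pow]
  push_cast at hr5
  have hh : (2 : F)⁻¹ * 2 = 1 := inv_mul_cancel₀ h2
  set t₁ := (-1 + r5) * (2 : F)⁻¹ with ht₁
  set t₂ := (-1 - r5) * (2 : F)⁻¹ with ht₂
  have hsum : t₁ + t₂ = -1 := by rw [ht₁, ht₂]; linear_combination (-1 : F) * hh
  have hprod : t₁ * t₂ = -1 := by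
    rw [ht₁, ht₂]
    linear_combination (2 : F)⁻¹ * (2 : F)⁻¹ * hr5 + (-((2 : F)⁻¹ * 2) - 1) * hh
  have hsq : powConj hF r5 * powConj hF r5 = r5 * r5 := by rw [← map_mul, ← hr5, map_ofNat]
  have hconj : powConj hF r5 = -r5 := by
    rcases mul_self_eq_mul_self_iff.mp hsq with h | h
    swap
    · exact h
    exfalso
    have hfix : t₁ ^ p = t₁ := by
      rw [← powConj_apply hF, ht₁, map_mul, map_add, h, map_inv₀, map_ofNat, map_neg, map_one]
    obtain ⟨m, hm⟩ : ∃ m : ℕ, (m : F) = t₁ := by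
      have hmem : t₁ ∈ (ZMod.castHom (dvd_refl p) F).fieldRange := by
        rw [ZMod.fieldRange_castHom_eq_bot p]; exact (Subfield.mem_bot_iff_pow_eq_self F p).mpr hfix
      obtain ⟨c, hc⟩ := hmem
      exact ⟨c.val, by rw [← hc, ← map_natCast (ZMod.castHom (dvd_refl p) F), ZMod.natCast_zmod_val]⟩
    set t : ZMod p := (m : ZMod p) with htm
    have htq : t ^ 2 + t - 1 = 0 := by
      refine (ZMod.castHom (dvd_refl p) F).injective ?_
      rw [map_sub, map_add, map_pow, map_one, map_zero, htm, map_natCast, hm]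
      linear_combination t₁ * hsum - hprod
    let M : Matrix (Fin 2) (Fin 2) (ZMod p) := !![0, -1; 1, t]
    have hMd : M.det = 1 := by simp [M, Matrix.det_fin_two]
    have hMt : M.trace = t := by simp [M, Matrix.trace_fin_two]
    have hsum5 : M ^ 4 + M ^ 3 + M ^ 2 + M + 1 = 0 := by
      have h2' : M ^ 2 = t • M - 1 := by rw [_root_.sq, two_by_two hMd, hMt]
      have h3' : M ^ 3 = (t ^ 2 - 1) • M - t • (1 : Matrix (Fin 2) (Fin 2) (ZMod p)) := by
        rw [pow_succ, h2', sub_mul, smul_mul_assoc, two_by_two hMd, hMt, one_mul]; module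
      have h4' : M ^ 4 = (t ^ 3 - 2 * t) • M - (t ^ 2 - 1) • (1 : Matrix (Fin 2) (Fin 2) (ZMod p)) := by
        rw [pow_succ, h3', sub_mul, smul_mul_assoc, two_by_two hMd, hMt, smul_mul_assoc, one_mul]; module
      rw [h4', h3', h2', show (t ^ 3 - 2 * t) • M - (t ^ 2 - 1) • (1 : Matrix (Fin 2) (Fin 2) (ZMod p)) +
        ((t ^ 2 - 1) • M - t • 1) + (t • M - 1) + M + 1 = (t ^ 2 + t - 1) • (t • M - 1) by module, htq, zero_smul]
    have h5M : M ^ 5 = 1 := by
      have e : M ^ 5 - 1 = (M - 1) * (M ^ 4 + M ^ 3 + M ^ 2 + M + 1) := by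
        simp only [sub_mul, mul_add, mul_one, one_mul, ← pow_succ', ← _root_.sq]; abel
      rw [hsum5, mul_zero, sub_eq_zero] at e
      exact e
    let M' : SL(2, ZMod p) := ⟨M, hMd⟩
    have hne : M' ≠ 1 := fun e => by
      have := congrArg (fun A : SL(2, ZMod p) => (A : Matrix (Fin 2) (Fin 2) (ZMod p)) 1 0) e
      simp [M', M] at this
    have hord : orderOf M' = 5 := orderOf_eq_prime (Subtype.ext (by
      rw [Matrix.SpecialLinearGroup.coe_pow]; exact h5M)) hne
    have hd := orderOf_dvd_natCard M'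
    rw [hord, SLTwoTori.card_SL2, ZMod.card] at hd
    exact (five_cases p (Fact.out : p.Prime).pos).mp h5 hd
  have hn : t₁ ≠ t₂ := fun e => h5F (by
    rw [ht₁, ht₂] at e
    have h0 : r5 = 0 := mul_left_cancel₀ h2 (by linear_combination (2 : F) * e - 2 * r5 * hh)
    push_cast; rw [hr5, h0, mul_zero])
  refine ⟨t₁, t₂, hsum, hprod, ?_, ?_, hn⟩ <;>
    rw [ht₁, ht₂, map_mul, map_inv₀, map_ofNat] <;> simp only [map_add, map_sub, map_neg, map_one, hconj] <;> ring

theorem fix_five_unitary (hF : Fintype.card F = p ^ 2) (hp : p ≠ 2) (h5 : orderOf (p : ZMod 5) = 4) {R : Subgroup GG}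
    (hR : R ≤ Cfsg.GU 4 F p) {g : Fin 4 → GG} (S : Frame R g) :
    Fixes (Cfsg.GU 4 F p ⊓ Cfsg.Geo.specialLinear (Fin 4) F) R 5 := by
  classical
  haveI : Fact (Nat.Prime 5) := ⟨by norm_num⟩
  have hrp : 5 ≠ p := fun e => by subst e; exact (five_cases 5 (by norm_num)).mp h5 (by norm_num)
  obtain ⟨t₁, t₂, hsum, hprod, hc1, hc2, hne⟩ := golden_roots hF hp h5
  have h5F : (5 : F) ≠ 0 := by exact_mod_cast PrimeOrderPoly.cast_prime_ne_zero (F := F) (p := p) Fact.out hrp
  have A := amb_unitary hF hR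
  let G : F → F[X] := fun t => X ^ 2 - Polynomial.C t * X + 1
  have hGm : ∀ t, (G t).Monic := fun t => by simp only [G]; monicity!
  have hGd : ∀ t, (G t).natDegree = 2 := fun t => by simp only [G]; compute_degree!
  have hGi : ∀ t : F, t ^ 2 + t - 1 = 0 → Irreducible (G t) := fun t ht => by
    rw [Polynomial.irreducible_iff_roots_eq_zero_of_degree_le_three (by rw [hGd]) (by rw [hGd]; norm_num)]
    refine Multiset.eq_zero_of_forall_notMem fun a ha => ?_
    rw [mem_roots (hGm t).ne_zero] at ha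
    simp only [G, IsRoot, eval_add, eval_sub, eval_pow, eval_X, eval_mul, Polynomial.eval_C, eval_one] at ha
    have ha5 : a ^ 5 = 1 := by
      linear_combination (a - 1) * (a ^ 2 + (t + 1) * a + 1) * ha + (a - 1) * a ^ 2 * ht
    have ha0 : a ≠ 0 := fun e => by subst e; simp at ha5
    have hord : orderOf (Units.mk0 a ha0) = 5 := orderOf_eq_prime (Units.ext (by simpa using ha5)) fun e => by
      have e1 : a = 1 := by simpa using congrArg Units.val e
      subst e1
      exact h5F (by linear_combination ht + (t + 3) * ha)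
    have hd : orderOf (Units.mk0 a ha0) ∣ Fintype.card Fˣ := orderOf_dvd_card
    rw [hord, Fintype.card_units, hF] at hd
    exact (five_cases p (Fact.out : p.Prime).pos).mp h5 (Dvd.dvd.mul_left hd _)
  have ht1 : t₁ ^ 2 + t₁ - 1 = 0 := by linear_combination t₁ * hsum - hprod
  have ht2 : t₂ ^ 2 + t₂ - 1 = 0 := by linear_combination t₂ * hsum - hprod
  have hprodG : G t₁ * G t₂ * (X - 1) = X ^ 5 - 1 := by
    have e1 : Polynomial.C t₁ + Polynomial.C t₂ = (-1 : F[X]) := by rw [← map_add, hsum, map_neg, map_one]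
    have e2 : Polynomial.C t₁ * Polynomial.C t₂ = (-1 : F[X]) := by rw [← map_mul, hprod, map_neg, map_one]
    simp only [G]
    linear_combination (X - 1) * (-(X ^ 3) - X) * e1 + (X - 1) * X ^ 2 * e2
  have hneG : G t₁ ≠ G t₂ := fun e => hne (by
    have := congrArg (fun f => f.coeff 1) e
    simpa [G] using this)
  have shape : ∀ y : GG, y ∈ Cfsg.GU 4 F p → y ^ 5 = 1 → y ≠ 1 → (y : MM).charpoly = G t₁ * G t₂ := by
    intro y hy hy5 hy1
    refine five_shape (Fintype.card_fin 4) (by rw [← Units.val_pow_eq_pow_val, hy5, Units.val_one])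
      (fun e => hy1 (Units.ext e)) (hGm _) (hGm _) (hGi _ ht1) (hGi _ ht2) hneG (hGd _) (hGd _) hprodG ?_
    simp only [G, map_add, map_sub, map_mul, map_pow, map_one, aeval_X, aeval_C, Algebra.algebraMap_eq_smul_one,
      smul_mul_assoc, one_mul]
    have hBy : ((y⁻¹ : GG) : MM) * (y : MM) = 1 := by rw [← Units.val_mul, inv_mul_cancel, Units.val_one]
    have hBy' : ∀ Z : MM, ((y⁻¹ : GG) : MM) * ((y : MM) * Z) = Z := fun Z => by rw [← mul_assoc, hBy, one_mul]
    have e : cst (powConj hF) ((y : MM) ^ 2 - t₁ • (y : MM) + 1) =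
        (((y⁻¹ : GG) : MM) * ((y⁻¹ : GG) : MM)) * ((y : MM) ^ 2 - t₂ • (y : MM) + 1) := by
      rw [cst_add, cst_sub, cst_smul, hc1, _root_.sq, cst_mul, unitary_inv hF hy, cst_one, mul_add, mul_sub, mul_one,
        mul_smul_comm]
      simp only [_root_.sq, mul_assoc, hBy, hBy', mul_one]
      abel
    have ed := congrArg Matrix.det e
    rw [det_cst, Matrix.det_mul, Matrix.det_mul] at ed
    rw [← map_eq_zero (powConj hF), ed, mul_eq_zero]
    exact or_iff_right (mul_ne_zero (Matrix.GeneralLinearGroup.det_ne_zero _) (Matrix.GeneralLinearGroup.det_ne_zero _))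
  refine fix_class S A hrp (k := 3) ⟨4, by norm_num⟩ fun x hx hxr hx1 => ?_
  obtain ⟨y, hy, hyN, hy5, hns⟩ := S.exists_five (Cfsg.GU 4 F p) A.pairI
  exact ⟨y, hy, hyN, hy5, (shape x hx.1 hxr hx1).trans
    (shape y hy hy5 fun e => hns 1 (by rw [e, Units.val_one, one_smul])).symm⟩

theorem unitary_main (hF : Fintype.card F = p ^ 2) (hp4 : p % 4 = 3) (R : Subgroup GG)
    (hRs : Cfsg.Geo.IsSymplecticTypeGroup 2 R) (hRi : Cfsg.Geo.ActsAbsolutelyIrreducibly (Cfsg.Geo.matrixSet R))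
    (hRU : R ≤ Cfsg.GU 4 F p) (hR6 : Nat.card R = 2 ^ 6) (hRZ : Nat.card (Subgroup.center R) = 4)
    (r : ℕ) [Fact r.Prime] (hΩ : r ∣ Nat.card (Cfsg.GU 4 F p ⊓ Cfsg.Geo.specialLinear (Fin 4) F : Subgroup GG)) :
    Fixes (Cfsg.GU 4 F p ⊓ Cfsg.Geo.specialLinear (Fin 4) F) R r ↔
      (r = 2 ∨ (r = 3 ∧ p % 3 = 1) ∨ (r = 5 ∧ orderOf (p : ZMod 5) = 4)) := by
  have hpP : p.Prime := Fact.out
  have hp : p ≠ 2 := by omega
  have h2 : (2 : F) ≠ 0 := by
    exact_mod_cast PrimeOrderPoly.cast_prime_ne_zero (F := F) (p := p) Nat.prime_two hp.symm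
  obtain ⟨g, ic, i, S, hiR, hic, hi⟩ := frame_of_i (Fintype.card_fin 4) h2 hRs hRi hR6 hRZ
  have A := amb_unitary hF hRU
  constructor
  · intro H
    by_contra hno
    have hr2 : r ≠ 2 := fun h => hno (Or.inl h)
    by_cases h3 : r = 3
    · subst h3
      by_cases hp3 : p = 3
      · subst hp3
        obtain ⟨x, hx, M, B⟩ := block_unitary hF hp4 hi (r := 3) (dvd_mul_right 3 _)
        exact derange_char S A (by norm_num) hx B H
      have hp32 : p % 3 = 2 := by
        have h0 : p % 3 ≠ 0 := fun h =>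
          hp3 ((Nat.prime_dvd_prime_iff_eq Nat.prime_three hpP).mp (Nat.dvd_of_mod_eq_zero h)).symm
        have : p % 3 ≠ 1 := fun h => hno (Or.inr (Or.inl ⟨rfl, h⟩))
        omega
      have hq : 3 ∣ Fintype.card F - 1 := by
        rw [hF, ← Nat.modEq_iff_dvd' (Nat.one_le_pow _ _ hpP.pos)]
        unfold Nat.ModEq
        rw [Nat.pow_mod, hp32]
      obtain ⟨w, hw3, hw⟩ := exists_cube_root hq
      have hwU : w ^ (p + 1) = 1 := by
        obtain ⟨m, hm⟩ : 3 ∣ p + 1 := by omega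
        rw [hm, pow_mul, hw3, one_pow]
      have hmem : (splitGL w hw3 : GG) ∈ Cfsg.GU 4 F p := by
        rw [mem_U hF]
        show cst _ (Matrix.diagonal ![w, w, w, 1]) * Matrix.diagonal ![w, w, w, 1] = (1 : MM)
        rw [cst, Matrix.diagonal_map (map_zero _), Matrix.diagonal_transpose, Matrix.diagonal_mul_diagonal,
          ← Matrix.diagonal_one]
        congr 1; funext k
        fin_cases k <;> simp [powConj_apply, ← pow_succ, hwU]
      exact derange_three_split S A (Ne.symm hp3) ⟨hmem, (mem_SL_iff _).mpr (splitGL_det w hw3)⟩ (splitGL_pow w hw3) hw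
        (splitGL_trace w hw3).1 (splitGL_trace w hw3).2 H
    by_cases h5 : r = 5
    · subst h5
      have hd : 5 ∣ p * (p ^ 2 - 1) := by
        by_contra h
        exact hno (Or.inr (Or.inr ⟨rfl, (five_cases p hpP.pos).mpr h⟩))
      obtain ⟨x, hx, M, B⟩ := block_unitary hF hp4 hi hd
      exact derange_five S A (fun e => by omega) hx B H
    · have hr : r.Prime := Fact.out
      have h4 : r ≠ 4 := fun h => by rw [h] at hr; norm_num at hr
      have h6 : r ≠ 6 := fun h => by rw [h] at hr; norm_num at hr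
      have := hr.two_le
      exact derange_large S A (by omega) hΩ H
  · rintro (rfl | ⟨rfl, hp3⟩ | ⟨rfl, hp5⟩)
    · exact fix_two_unitary hF hp4 hRU S hiR hic hi
    · exact fix_three_unitary hF hp3 hRU S hiR hic hi
    · exact fix_five_unitary hF hp hp5 hRU S

end Cfsg.Lib.Classical.TwoSix
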